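import Groth.Agent.QC70.Loc
import Groth.Agent.QC70.FiniteType
import Groth.Agent.Props58.Ext.Local
import Groth.Agent.Props58.LocFree.Basis
import Groth.Agent.Props58.LocFree.FP
import Groth.Prelude.Def_CohB1
import Groth.Prelude.Def_Coh

/-!
# Finite type / finite presentation from local data
-/

set_option autoImplicit false
set_option backward.isDefEq.respectTransparency.types false

noncomputable section

universe u

open CategoryTheory Limits AlgebraicGeometry TopologicalSpace Opposite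
open Groth.Agent.QC70

namespace Groth.Agent.DCX42

variable {X : Scheme.{u}}

/-- Images of the basis of a free module generate locally. -/
lemma exists_locGenBy_of_epi {M : X.Modules} {W : X.Opens} {n : ℕ}
    (π : FlatMod.freeMod (W : Scheme.{u}) n ⟶ M.restrict W.ι) [Epi π] :
    ∃ s : ULift.{u} (Fin n) → Γ(M, W), LocGenBy M W s := by
  let v : Fin n → Γ(M.restrict W.ι, ⊤) := fun i => π.app ⊤ (Props58.LocFree.unitVec _ n i)
  refine ⟨fun i => res M W.ι_image_top.ge ((M.restrictAppIso W.ι ⊤).hom (v i.down)),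
    fun T hT z q hq => ?_⟩
  obtain ⟨T', h', p, hq', hp⟩ := exists_local_lift π
    ((M.restrictAppIso W.ι (W.ι ⁻¹ᵁ T)).inv (res M (W.ι.image_preimage_le T) z)) (p := ⟨q, hT hq⟩) hq
  obtain ⟨a, rfl⟩ := Props58.LocFree.free_exists_comb p
  have hle : W.ι ''ᵁ T' ≤ T := (W.ι.image_mono h').trans (W.ι.image_preimage_le T)
  refine ⟨W.ι ''ᵁ T', hle, hle.trans hT, fun i => (W.ι.appIso T').inv (a i.down),
    ⟨⟨q, hT hq⟩, hq', rfl⟩, ?_⟩
  have h1 := congrArg (M.restrictAppIso W.ι T').hom hp
  have h2 : π.app T' (∑ i, a i • res _ le_top (Props58.LocFree.unitVec _ n i)) =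
      ∑ i, a i • res (M.restrict W.ι) le_top (v i) := by
    rw [map_sum]
    exact Finset.sum_congr rfl fun i _ => by rw [Scheme.Modules.Hom.app_smul, app_res]
  rw [h2, Props58.LocFree.restrictAppIso_comb] at h1
  have h3 : res M hle z =
      (M.restrictAppIso W.ι T').hom (res (M.restrict W.ι) h'
        ((M.restrictAppIso W.ι (W.ι ⁻¹ᵁ T)).inv (res M (W.ι.image_preimage_le T) z))) := by
    change res M hle z = res M (W.ι.image_mono h') (res M (W.ι.image_preimage_le T) z)
    rw [res_res]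
  rw [h3, ← h1]
  refine (Fintype.sum_equiv Equiv.ulift _ _ fun i => ?_).symm
  rw [res_res]
  rfl

/-- A module which is locally a quotient of finite free modules is of finite type. -/
theorem isFT_of_local_epi (M : X.Modules)
    (h : ∀ x : X, ∃ (W : X.Opens) (n : ℕ) (π : FlatMod.freeMod (W : Scheme.{u}) n ⟶ M.restrict W.ι),
      x ∈ W ∧ Epi π) : CohB1.IsFT M := by
  choose W n π hx hπ using h
  refine isFiniteType_of_locGenBy M W
    (IsOpenCover.mk (top_le_iff.mp fun x _ => Opens.mem_iSup.mpr ⟨x, hx x⟩)) fun x => ?_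
  have := hπ x
  obtain ⟨s, hs⟩ := exists_locGenBy_of_epi (π x)
  exact ⟨_, inferInstance, s, hs⟩

/-- Quasi-coherence is local. -/
theorem isQCoh_of_local (M : X.Modules)
    (h : ∀ x : X, ∃ W : X.Opens, x ∈ W ∧ (M.restrict W.ι).IsQuasicoherent) : M.IsQuasicoherent := by
  choose W hx hW using h
  exact isQuasicoherent_of_isOpenCover (M := M) (U := W)
    (IsOpenCover.mk (top_le_iff.mp fun x _ => Opens.mem_iSup.mpr ⟨x, hx x⟩)) hW

/-- Finite presentation is local. -/
theorem isFP_of_local (M : X.Modules)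
    (h : ∀ x : X, ∃ W : X.Opens, x ∈ W ∧ CohB1.IsFP (M.restrict W.ι)) : CohB1.IsFP M := by
  have := isQCoh_of_local M fun x => by
    obtain ⟨W, hx, hW⟩ := h x
    exact ⟨W, hx, inferInstance⟩
  have key : ∀ x : X, ∃ V : X.Opens, x ∈ V ∧ IsAffineOpen V ∧
      Module.FinitePresentation Γ(X, V) Γ(M, V) := by
    intro x
    obtain ⟨W, hx, hW⟩ := h x
    obtain ⟨V, hV, hxV, hVW⟩ := exists_isAffineOpen_mem_and_subset hx
    have h1 := Props58.Ext.fpOn_of_isFP (M.restrict W.ι) ⊤
    rw [Props58.Ext.fpOn_restrict_iff, Scheme.Opens.ι_image_top] at h1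
    exact ⟨V, hxV, hV, h1 V hV hVW⟩
  choose V hxV hV hfp using key
  exact Props58.LocFree.isFP_of_sections M V
    (IsOpenCover.mk (top_le_iff.mp fun x _ => Opens.mem_iSup.mpr ⟨x, hxV x⟩)) hV hfp

end Groth.Agent.DCX42
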