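import Groth.Agent.DCX42.Tri

/-!
# Pseudo-coherent objects: shifts, triangles, summands
-/

set_option autoImplicit false
set_option backward.isDefEq.respectTransparency false

noncomputable section

universe u

open CategoryTheory Limits AlgebraicGeometry TopologicalSpace Opposite Pretriangulated DerivedCategory

attribute [local instance] HasDerivedCategory.standard

namespace Groth.Agent.DCX42

variable {U V X : Scheme.{u}}

lemma isPC_of_iso {m : ℤ} {K L : DCoh.D X} (e : K ≅ L) (h : DCoh.IsPseudoCoherentD m K) :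
    DCoh.IsPseudoCoherentD m L := by
  rw [isPC_iff] at h ⊢
  intro x
  obtain ⟨V, hx, hV⟩ := h x
  exact ⟨V, hx, hV.of_iso ((resD V.ι).mapIso e)⟩

lemma isPC_mono {m n : ℤ} (hmn : m ≤ n) {K : DCoh.D X} (h : DCoh.IsPseudoCoherentD m K) :
    DCoh.IsPseudoCoherentD n K := by
  rw [isPC_iff] at h ⊢
  intro x
  obtain ⟨V, hx, E, α, hE, hα⟩ := h x
  exact ⟨V, hx, E, α, hE, hα.mono_degree hmn⟩

lemma isStrictlyPerfect_shift {E : CochainComplex X.Modules ℤ} (hE : DCoh.IsStrictlyPerfect E) (n : ℤ) :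
    DCoh.IsStrictlyPerfect (E⟦n⟧) := by
  obtain ⟨⟨a, b, hab⟩, hE'⟩ := hE
  exact ⟨⟨a - n, b - n, fun i hi => hab (i + n) (by omega)⟩, fun i => hE' (i + n)⟩

lemma HasPCApprox.shift {m : ℤ} {K : DCoh.D X} (h : HasPCApprox m K) (n : ℤ) :
    HasPCApprox (m - n) (K⟦n⟧) := by
  obtain ⟨E, α, hE, hα⟩ := h
  exact ⟨E⟦n⟧, (Q.commShiftIso n).hom.app E ≫ α⟦n⟧', isStrictlyPerfect_shift hE n,
    (PCMap.of_isIso _ _).comp (hα.shift n)⟩

lemma isPC_shift {m : ℤ} {K : DCoh.D X} (h : DCoh.IsPseudoCoherentD m K) (n : ℤ) {m' : ℤ}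
    (hm : m' = m - n) : DCoh.IsPseudoCoherentD m' (K⟦n⟧) := by
  subst hm
  rw [isPC_iff] at h ⊢
  intro x
  obtain ⟨V, hx, hV⟩ := h x
  exact ⟨V, hx, (hV.shift n).of_iso (((resD V.ι).commShiftIso n).app K).symm⟩

lemma isPC_of_shift {m : ℤ} {K : DCoh.D X} (n : ℤ) (h : DCoh.IsPseudoCoherentD m (K⟦n⟧)) {m' : ℤ}
    (hm : m' = m + n) : DCoh.IsPseudoCoherentD m' K :=
  isPC_of_iso ((shiftEquiv (DCoh.D X) n).unitIso.app K).symm (isPC_shift h (-n) (by omega))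

lemma hasPCApprox_of_isLE {m : ℤ} {K : DCoh.D X} (h : K.IsLE (m - 1)) : HasPCApprox m K := by
  let Z := FlatMod.freeMod X 0
  have hZ : IsZero Z := (IsZero.iff_id_eq_zero _).2 (Sigma.hom_ext _ _ fun k => k.elim0)
  let E := (HomologicalComplex.single X.Modules (ComplexShape.up ℤ) 0).obj Z
  have hE : IsZero E := Functor.map_isZero _ hZ
  refine ⟨E, 0, ⟨⟨0, 0, fun i _ => Functor.map_isZero (HomologicalComplex.eval _ _ i) hE⟩,
    fun i => isFinLocFree_of_isZero (Functor.map_isZero (HomologicalComplex.eval _ _ i) hE)⟩,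
    PCMap.zero_left h (Functor.map_isZero _ hE) _⟩

lemma isPC_of_isLE {m : ℤ} {K : DCoh.D X} (h : K.IsLE (m - 1)) : DCoh.IsPseudoCoherentD m K := by
  rw [isPC_iff]
  exact fun x => ⟨⊤, trivial, hasPCApprox_of_isLE (isLE_map _ h)⟩

/-- `M` inherits pseudo-coherence from `K` and `L`. -/
theorem isPC₃ {m : ℤ} (T : Triangle (DCoh.D X)) (hT : T ∈ distinguishedTriangles)
    (h₁ : DCoh.IsPseudoCoherentD (m + 1) T.obj₁) (h₂ : DCoh.IsPseudoCoherentD m T.obj₂) :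
    DCoh.IsPseudoCoherentD m T.obj₃ := by
  rw [isPC_iff] at h₁ h₂ ⊢
  intro x
  obtain ⟨V₁, hx₁, hV₁⟩ := h₁ x
  obtain ⟨V₂, hx₂, hV₂⟩ := h₂ x
  let V := V₁ ⊓ V₂
  have hK := exists_inf (P := fun {_} A => HasPCApprox (m + 1) A) (fun h e => h.of_iso e)
    (fun j _ h => h.restrict j) _ (inf_le_left : V ≤ V₁) hV₁
  have hL := exists_inf (P := fun {_} A => HasPCApprox m A) (fun h e => h.of_iso e)
    (fun j _ h => h.restrict j) _ (inf_le_right : V ≤ V₂) hV₂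
  obtain ⟨W, hxW, hW⟩ := loc_pcApprox_cone _ _ _ ((resD V.ι).map_distinguished _ hT) hK hL
    (⟨x, hx₁, hx₂⟩ : V)
  exact exists_open_of_pieces (P := fun {_} A => HasPCApprox m A) (fun h e => h.of_iso e)
    (fun j _ h => h.restrict j) _ V W (show x ∈ V from ⟨hx₁, hx₂⟩) hxW hW

/-- `L` inherits pseudo-coherence from `K` and `M`. -/
theorem isPC₂ {m : ℤ} (T : Triangle (DCoh.D X)) (hT : T ∈ distinguishedTriangles)
    (h₁ : DCoh.IsPseudoCoherentD m T.obj₁) (h₃ : DCoh.IsPseudoCoherentD m T.obj₃) :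
    DCoh.IsPseudoCoherentD m T.obj₂ :=
  isPC₃ T.invRotate (inv_rot_of_distTriang _ hT) (isPC_shift h₃ (-1) (by omega)) h₁

/-- `K` inherits pseudo-coherence from `L` and `M`. -/
theorem isPC₁ {m : ℤ} (T : Triangle (DCoh.D X)) (hT : T ∈ distinguishedTriangles)
    (h₂ : DCoh.IsPseudoCoherentD (m + 1) T.obj₂) (h₃ : DCoh.IsPseudoCoherentD m T.obj₃) :
    DCoh.IsPseudoCoherentD (m + 1) T.obj₁ :=
  isPC₂ T.invRotate (inv_rot_of_distTriang _ hT) (isPC_shift h₃ (-1) (by omega)) h₂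

end Groth.Agent.DCX42
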