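import Groth.Agent.DCX42.TopH
import Groth.Agent.DCX42.PC
import Groth.Agent.QC70.CohOps
import Groth.Agent.Omega57.SectionConormal
import Groth.Agent.QCCohInd72.Basic

/-!
# Quasi-coherence and coherence of the cohomology of pseudo-coherent objects
-/

set_option autoImplicit false
set_option backward.isDefEq.respectTransparency false

universe u

open CategoryTheory Limits AlgebraicGeometry DerivedCategory TopologicalSpace
attribute [local instance] HasDerivedCategory.standard

noncomputable section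

namespace Groth.Agent.DCX42

variable {U V X : Scheme.{u}}

lemma isQCoh_of_isFP {M : X.Modules} (h : CohB1.IsFP M) : Coh.IsQCoh M := by
  obtain ⟨σ, hσ⟩ := h.exists_quasicoherentData
  exact σ.isQuasicoherent

lemma isCoh_of_isFP {M : X.Modules} (h : CohB1.IsFP M) : Coh.IsCoh M := by
  obtain ⟨σ, hσ⟩ := h.exists_quasicoherentData
  haveI : M.IsQuasicoherent := σ.isQuasicoherent
  refine ⟨σ.isQuasicoherent, QC70.isFiniteType_of_finite_sections M (fun i : X.affineOpens => i.1)
    (iSup_affineOpens_eq_top X) (fun i => i.2) fun i => ?_⟩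
  haveI := Props58.LocFree.finitePresentation_sections M (hM := h) i.2
  infer_instance

lemma isQCoh_of_isFinLocFree {M : X.Modules} (h : FlatMod.IsFinLocFree M) : Coh.IsQCoh M :=
  isQCoh_of_isFP (Props58.LocFree.isFP_of_isFinLocFree h)

lemma isQCoh_homology (E : CochainComplex X.Modules ℤ) (h : ∀ i, Coh.IsQCoh (E.X i)) (i : ℤ) :
    Coh.IsQCoh (E.homology i) := by
  haveI : ∀ i, (E.X i).IsQuasicoherent := h
  haveI : (E.cycles i).IsQuasicoherent :=
    QC70.isQuasicoherent_of_iso ((E.cyclesIsKernel i (i + 1) (by simp)).conePointUniqueUpToIso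
      (kernelIsKernel (E.d i (i + 1)))).symm (QC70.isQuasicoherent_kernel _)
  exact QC70.isQuasicoherent_of_iso ((cokernelIsCokernel (E.toCycles (i - 1) i)).coconePointUniqueUpToIso
      (E.homologyIsCokernel (i - 1) i (by simp))) (QC70.isQuasicoherent_cokernel _)

lemma isCoh_homology [IsLocallyNoetherian X] (E : CochainComplex X.Modules ℤ) (h : ∀ i, Coh.IsCoh (E.X i))
    (i : ℤ) : Coh.IsCoh (E.homology i) :=
  QC70.isCoh_of_iso ((cokernelIsCokernel (E.toCycles (i - 1) i)).coconePointUniqueUpToIso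
      (E.homologyIsCokernel (i - 1) i (by simp)))
    (QC70.isCoh_cokernel _ (h (i - 1)).1 (QC70.isCoh_of_iso
      ((E.cyclesIsKernel i (i + 1) (by simp)).conePointUniqueUpToIso (kernelIsKernel (E.d i (i + 1)))).symm
      (QC70.isCoh_kernel (E.d i (i + 1)) (h i) (h (i + 1)).1)))

/-- Coherence is local on a locally noetherian scheme. -/
lemma isCoh_of_local [IsLocallyNoetherian X] (M : X.Modules)
    (h : ∀ x : X, ∃ W : X.Opens, x ∈ W ∧ Coh.IsCoh (M.restrict W.ι)) : Coh.IsCoh M := by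
  refine isCoh_of_isFP (isFP_of_local M fun x => ?_)
  obtain ⟨W, hx, hW⟩ := h x
  exact ⟨W, hx, QCCohInd72.isFP_of_isCoh hW⟩

/-- The cohomology of an `m`-pseudo-coherent object, near a point. -/
lemma exists_homology_approx {m : ℤ} {K : DCoh.D X} (hK : DCoh.IsPseudoCoherentD m K) (x : X) :
    ∃ (W : X.Opens) (E : CochainComplex (W : Scheme.{u}).Modules ℤ), x ∈ W ∧ DCoh.IsStrictlyPerfect E ∧
      ∀ i, m ≤ i → ∃ f : E.homology i ⟶ (Scheme.Modules.restrictFunctor W.ι).obj (DCoh.HD K i),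
        Epi f ∧ (m < i → IsIso f) := by
  obtain ⟨W, hx, E, α, hE, hα⟩ := (isPC_iff m K).mp hK x
  let G := Scheme.Modules.restrictFunctor W.ι
  refine ⟨W, E, hx, hE, fun i hi => ⟨((homologyFunctorFactors _ i).app E).inv ≫ (homologyFunctor _ i).map α ≫
    (Mod48.nonempty_homology_mapDerivedCategory G K i).some.hom, ?_, fun h => ?_⟩⟩
  · obtain rfl | h := hi.eq_or_lt
    · have := hα.2
      exact epi_comp' inferInstance (epi_comp _ _)
    · have := hα.1 i h
      exact epi_comp' inferInstance (epi_comp _ _)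
  · have := hα.1 i h
    exact IsIso.comp_isIso' inferInstance inferInstance

theorem isQCoh_HD_of_lt {m : ℤ} {K : DCoh.D X} (hK : DCoh.IsPseudoCoherentD m K) (i : ℤ) (hi : m < i) :
    Coh.IsQCoh (DCoh.HD K i) := by
  refine isQCoh_of_local _ fun x => ?_
  obtain ⟨W, E, hx, hE, h⟩ := exists_homology_approx hK x
  obtain ⟨f, -, hf⟩ := h i hi.le
  have := hf hi
  exact ⟨W, hx, QC70.isQuasicoherent_of_iso (asIso f)
    (isQCoh_homology E (fun j => isQCoh_of_isFinLocFree (hE.2 j)) i)⟩

theorem isCoh_HD_of_lt [IsLocallyNoetherian X] {m : ℤ} {K : DCoh.D X} (hK : DCoh.IsPseudoCoherentD m K)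
    (i : ℤ) (hi : m < i) : Coh.IsCoh (DCoh.HD K i) := by
  refine isCoh_of_local _ fun x => ?_
  obtain ⟨W, E, hx, hE, h⟩ := exists_homology_approx hK x
  obtain ⟨f, -, hf⟩ := h i hi.le
  have := hf hi
  exact ⟨W, hx, QC70.isCoh_of_iso (asIso f)
    (isCoh_homology E (fun j => isCoh_of_isFP (Props58.LocFree.isFP_of_isFinLocFree (hE.2 j))) i)⟩

theorem isPC_of_isPerfect {K : DCoh.D X} (hK : DCoh.IsPerfect K) (m : ℤ) : DCoh.IsPseudoCoherentD m K := by
  rw [isPC_iff]
  intro x
  obtain ⟨V, hx, E, hE, ⟨e⟩⟩ := (isPerfect_iff K).mp hK x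
  exact ⟨V, hx, E, e.inv, hE, PCMap.of_isIso m _⟩

theorem isQCohD_of_isPerfect {K : DCoh.D X} (hK : DCoh.IsPerfect K) : DCoh.IsQCohD K :=
  fun i => isQCoh_HD_of_lt (isPC_of_isPerfect hK (i - 1)) i (by omega)

theorem isCohD_of_isPerfect [IsLocallyNoetherian X] {K : DCoh.D X} (hK : DCoh.IsPerfect K) :
    DCoh.IsCohD K :=
  fun i => isCoh_HD_of_lt (isPC_of_isPerfect hK (i - 1)) i (by omega)

/-- Vanishing is local. -/
lemma isZero_of_local (M : X.Modules)
    (h : ∀ x : X, ∃ W : X.Opens, x ∈ W ∧ IsZero ((Scheme.Modules.restrictFunctor W.ι).obj M)) : IsZero M := by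
  have : IsIso (0 : M ⟶ M) := Omega57.isIso_of_restrict _ fun x => by
    obtain ⟨W, hx, hW⟩ := h x
    exact ⟨W, W.ι, inferInstance, ⟨⟨x, hx⟩, rfl⟩, hW.isIso hW _⟩
  rw [IsZero.iff_id_eq_zero, ← IsIso.inv_hom_id (0 : M ⟶ M), comp_zero]

/-- Perfect objects on a quasi-compact scheme are bounded. -/
theorem isBounded_of_isPerfect [CompactSpace X] {K : DCoh.D X} (hK : DCoh.IsPerfect K) :
    ∃ a b : ℤ, K.IsGE a ∧ K.IsLE b := by
  choose V hx E hE e using (isPerfect_iff K).mp hK
  choose a b hab using fun x => (hE x).1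
  obtain ⟨t, ht⟩ := IsCompact.elim_finite_subcover isCompact_univ (fun x => (V x : Set X))
    (fun x => (V x).2) fun x _ => Set.mem_iUnion.mpr ⟨x, hx x⟩
  obtain ⟨A, hA⟩ := (t.finite_toSet.image a).bddBelow
  obtain ⟨B, hB⟩ := (t.finite_toSet.image b).bddAbove
  have key : ∀ i : ℤ, i < A ∨ B < i → IsZero (DCoh.HD K i) := by
    intro i hi
    refine isZero_of_local _ fun y => ?_
    obtain ⟨x, hxt, hy⟩ := Set.mem_iUnion₂.mp (ht (Set.mem_univ y))
    refine ⟨V x, hy, ?_⟩
    · have hi' : i < a x ∨ b x < i := by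
        have h1 := hA ⟨x, hxt, rfl⟩
        have h2 := hB ⟨x, hxt, rfl⟩
        omega
      refine IsZero.of_iso ?_
        ((Mod48.nonempty_homology_mapDerivedCategory (Scheme.Modules.restrictFunctor (V x).ι) K i).some.symm ≪≫
          (homologyFunctor _ i).mapIso (e x).some ≪≫ (homologyFunctorFactors _ i).app (E x))
      refine (HomologicalComplex.exactAt_iff_isZero_homology _ _).mp ?_
      exact HomologicalComplex.ExactAt.of_isZero (hab x i hi')
  exact ⟨A, B, (DerivedCategory.isGE_iff _ _).mpr fun i hi => key i (Or.inl hi),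
    (DerivedCategory.isLE_iff _ _).mpr fun i hi => key i (Or.inr hi)⟩

end Groth.Agent.DCX42
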