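import Groth.Agent.DCX42.PC
import Groth.Agent.DCK91.LpullComp
import Groth.Agent.DCK91.Tri
import Groth.Agent.DCK91.TorFlat
import Groth.Agent.Props58.LocFree.Criteria
import Groth.Prelude.Def_FrameBundle
import Groth.Prelude.Def_DDual2

/-!
# Derived inverse image and restriction, pseudo-coherent and perfect objects
-/

set_option autoImplicit false
set_option backward.isDefEq.respectTransparency false

noncomputable section

universe u

open CategoryTheory Limits AlgebraicGeometry TopologicalSpace Opposite Pretriangulated DerivedCategory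

attribute [local instance] HasDerivedCategory.standard

namespace Groth.Agent.DCX42

variable {U V X Y : Scheme.{u}}

/-- Along an open immersion `Lj^*` is the restriction. -/
theorem nonempty_Lpull_iso_resD (j : U ⟶ X) [IsOpenImmersion j] [DCoh.HasLpull j] :
    Nonempty (DCoh.Lpull j ≅ resD j) := by
  let i : (Scheme.Modules.restrictFunctor j).mapHomotopyCategory (ComplexShape.up ℤ) ≅
      (Scheme.Modules.pullback j).mapHomotopyCategory (ComplexShape.up ℤ) :=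
    ⟨NatTrans.mapHomotopyCategory (Scheme.Modules.restrictFunctorIsoPullback j).hom (ComplexShape.up ℤ),
      NatTrans.mapHomotopyCategory (Scheme.Modules.restrictFunctorIsoPullback j).inv (ComplexShape.up ℤ),
      by rw [← NatTrans.mapHomotopyCategory_comp, Iso.hom_inv_id, NatTrans.mapHomotopyCategory_id],
      by rw [← NatTrans.mapHomotopyCategory_comp, Iso.inv_hom_id, NatTrans.mapHomotopyCategory_id]⟩
  let e : (DerivedCategory.Qh : HomotopyCategory X.Modules (ComplexShape.up ℤ) ⥤ DCoh.D X) ⋙ resD j ≅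
      DCoh.pullKh j :=
    (Scheme.Modules.restrictFunctor j).mapDerivedCategoryFactorsh ≪≫ Functor.isoWhiskerRight i _
  obtain ⟨τ, -⟩ := DCK91.exists_iso_of_adapted DerivedCategory.Qh (DCK91.hasRes_KFFh X) (resD j) e.hom
    (DCoh.Lpull j) ((DCoh.pullKh j).totalLeftDerivedCounit DerivedCategory.Qh
      (HomotopyCategory.quasiIso X.Modules (ComplexShape.up ℤ)))
    (fun E _ => inferInstanceAs (IsIso (e.app E).hom)) (DCK91.isIso_pullCounit j)
  exact ⟨τ.symm⟩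

/-- Derived inverse image commutes with restriction. -/
theorem nonempty_Lpull_resD {U' : Scheme.{u}} (f : Y ⟶ X) (j : U ⟶ X) [IsOpenImmersion j] (j' : U' ⟶ Y)
    [IsOpenImmersion j'] (g : U' ⟶ U) (h : g ≫ j = j' ≫ f) [DCoh.HasLpull f] [DCoh.HasLpull g] :
    Nonempty (DCoh.Lpull f ⋙ resD j' ≅ resD j ⋙ DCoh.Lpull g) := by
  have := DCK91.hasLpull j
  have := DCK91.hasLpull j'
  have := DCK91.hasLpull (j' ≫ f)
  have := DCK91.hasLpull (g ≫ j)
  obtain ⟨e₁⟩ := nonempty_Lpull_iso_resD j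
  obtain ⟨e₂⟩ := nonempty_Lpull_iso_resD j'
  obtain ⟨c₁⟩ := DCK91.Lpull_comp j' f
  obtain ⟨c₂⟩ := DCK91.Lpull_comp g j
  have hc : ∀ {a b : U' ⟶ X} (_ : a = b) [DCoh.HasLpull a] [DCoh.HasLpull b],
      Nonempty (DCoh.Lpull a ≅ DCoh.Lpull b) := by
    intro a b hab _ _
    subst hab
    exact ⟨Iso.refl _⟩
  obtain ⟨c⟩ := hc h.symm
  exact ⟨Functor.isoWhiskerLeft _ e₂.symm ≪≫ c₁ ≪≫ c ≪≫ c₂.symm ≪≫ Functor.isoWhiskerRight e₁ _⟩

/-- The inverse image of a finite locally free module. -/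
lemma isFinLocFree_pullback (f : Y ⟶ X) {M : X.Modules} (h : FlatMod.IsFinLocFree M) :
    FlatMod.IsFinLocFree ((Scheme.Modules.pullback f).obj M) := fun y => by
  obtain ⟨W, n, hx, ⟨e⟩⟩ := h (f y)
  refine ⟨f ⁻¹ᵁ W, n, hx, ⟨?_⟩⟩
  exact (Scheme.Modules.restrictFunctorIsoPullback _).app _ ≪≫
    (Scheme.Modules.pullbackComp (f ⁻¹ᵁ W).ι f).app M ≪≫
    (Scheme.Modules.pullbackCongr (morphismRestrict_ι f W).symm).app M ≪≫
    ((Scheme.Modules.pullbackComp (f ∣_ W) W.ι).app M).symm ≪≫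
    (Scheme.Modules.pullback (f ∣_ W)).mapIso
      (((Scheme.Modules.restrictFunctorIsoPullback W.ι).app M).symm ≪≫ e) ≪≫
    FrB.pullbackFreeIso (f ∣_ W) n

lemma isFlat_of_isFinLocFree {M : X.Modules} (h : FlatMod.IsFinLocFree M) : FlatMod.IsFlat M := fun x =>
  show Module.Flat _ _ from
    have := Props58.LocFree.free_stalk_of_isFinLocFree h x
    inferInstance

lemma isStrictlyPerfect_pullback (f : Y ⟶ X) {E : CochainComplex X.Modules ℤ}
    (hE : DCoh.IsStrictlyPerfect E) :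
    DCoh.IsStrictlyPerfect (((Scheme.Modules.pullback f).mapHomologicalComplex (ComplexShape.up ℤ)).obj E) := by
  obtain ⟨⟨a, b, hab⟩, hE'⟩ := hE
  exact ⟨⟨a, b, fun i hi => (Scheme.Modules.pullback f).map_isZero (hab i hi)⟩,
    fun i => isFinLocFree_pullback f (hE' i)⟩

/-- The value of `Lf^*` on a strictly perfect complex. -/
def lpullSP (f : Y ⟶ X) [DCoh.HasLpull f] {E : CochainComplex X.Modules ℤ} (hE : DCoh.IsStrictlyPerfect E) :
    (DCoh.Lpull f).obj (Q.obj E) ≅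
      Q.obj (((Scheme.Modules.pullback f).mapHomologicalComplex (ComplexShape.up ℤ)).obj E) :=
  let b := hE.1.choose_spec.choose
  have hk := DCK91.kff_of_le E b (fun i hi => hE.1.choose_spec.choose_spec i (Or.inr hi))
    fun i => isFlat_of_isFinLocFree (hE.2 i)
  DCK91.lpullIso f E hk.1 hk.2

lemma HasPerfRep.lpull {K : DCoh.D X} (h : HasPerfRep K) (f : Y ⟶ X) [DCoh.HasLpull f] :
    HasPerfRep ((DCoh.Lpull f).obj K) := by
  obtain ⟨E, hE, ⟨e⟩⟩ := h
  exact ⟨_, isStrictlyPerfect_pullback f hE, ⟨(DCoh.Lpull f).mapIso e ≪≫ lpullSP f hE⟩⟩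

/-- `Lf^*` is right t-exact. -/
theorem isLE_Lpull (f : Y ⟶ X) [DCoh.HasLpull f] {K : DCoh.D X} {n : ℤ} (h : K.IsLE n) :
    ((DCoh.Lpull f).obj K).IsLE n := by
  obtain ⟨F, hF, ⟨e⟩⟩ := exists_iso_Q_obj_of_isLE K n
  obtain ⟨P, c, hP, hfl, hc⟩ := DCK91.exists_flat_res_le (O := X.sheaf) F n
    (inferInstanceAs (CochainComplex.IsLE (C := X.Modules) F n))
  have hk := DCK91.kff_of_le (X := X) P n hP fun i => DCK91.flatMod_of_isFlat _ (hfl i)
  have : IsIso (DerivedCategory.Q.map (C := CochainComplex X.Modules ℤ) c) :=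
    (DerivedCategory.isIso_Q_map_iff_quasiIso X.Modules c).2 hc
  let e' := (DCoh.Lpull f).mapIso (e ≪≫ (asIso (DerivedCategory.Q.map (C := CochainComplex X.Modules ℤ) c)).symm) ≪≫
    DCK91.lpullIso f P hk.1 hk.2
  refine ⟨_, e', ?_⟩
  rw [CochainComplex.isStrictlyLE_iff]
  exact fun i hi => (Scheme.Modules.pullback f).map_isZero (hP i hi)

/-- `Lf^*` sends distinguished triangles to distinguished triangles. -/
theorem exists_Lpull_triangle (f : Y ⟶ X) [DCoh.HasLpull f] (T : Triangle (DCoh.D X))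
    (hT : T ∈ distinguishedTriangles) :
    ∃ T' : Triangle (DCoh.D Y), T' ∈ distinguishedTriangles ∧
      Nonempty (T'.obj₁ ≅ (DCoh.Lpull f).obj T.obj₁) ∧ Nonempty (T'.obj₂ ≅ (DCoh.Lpull f).obj T.obj₂) ∧
      Nonempty (T'.obj₃ ≅ (DCoh.Lpull f).obj T.obj₃) := by
  obtain ⟨P, N, b, ⟨hP, hPf⟩, ⟨hN, hNf⟩, ⟨e⟩⟩ := DCK91.exists_KFF_triangle T hT
  let G := (Scheme.Modules.pullback f).mapHomologicalComplex (ComplexShape.up ℤ)
  refine ⟨_, DerivedCategory.mappingCone_triangle_distinguished (G.map b), ⟨?_⟩, ⟨?_⟩, ⟨?_⟩⟩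
  · exact (DCK91.lpullIso f P hP hPf).symm ≪≫ (DCoh.Lpull f).mapIso (Triangle.π₁.mapIso e)
  · exact (DCK91.lpullIso f N hN hNf).symm ≪≫ (DCoh.Lpull f).mapIso (Triangle.π₂.mapIso e)
  · exact DerivedCategory.Q.mapIso
        (CochainComplex.mappingCone.mapHomologicalComplexIso b (Scheme.Modules.pullback f)).symm ≪≫
      (DCK91.lpullIso f _ ((Mod48.isKFlat_cone_two_out_of_three (O := X.sheaf) b).1 hP hN)
        (Mod48.isFlat_cone_X (O := X.sheaf) b hPf hNf)).symm ≪≫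
      (DCoh.Lpull f).mapIso (Triangle.π₃.mapIso e)

lemma HasPCApprox.lpull {m : ℤ} {K : DCoh.D X} (h : HasPCApprox m K) (f : Y ⟶ X) [DCoh.HasLpull f] :
    HasPCApprox m ((DCoh.Lpull f).obj K) := by
  obtain ⟨E, α, hE, hα⟩ := h
  obtain ⟨C, β, γ, hT⟩ := distinguished_cocone_triangle α
  obtain ⟨T', hT', ⟨e₁⟩, ⟨e₂⟩, ⟨e₃⟩⟩ := exists_Lpull_triangle f _ hT
  have hC : T'.obj₃.IsLE (m - 1) :=
    have : ((DCoh.Lpull f).obj (Triangle.mk α β γ).obj₃).IsLE (m - 1) :=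
      isLE_Lpull f ((pcMap_iff_isLE hT m).1 hα)
    (TStructure.t).isLE_of_iso e₃.symm (m - 1)
  have h1 : PCMap m T'.mor₁ := (pcMap_iff_isLE (β := T'.mor₂) (γ := T'.mor₃) hT' m).2 hC
  exact ⟨_, (lpullSP f hE).inv ≫ e₁.inv ≫ T'.mor₁ ≫ e₂.hom, isStrictlyPerfect_pullback f hE,
    (PCMap.of_isIso m _).comp ((PCMap.of_isIso m _).comp (h1.comp (PCMap.of_isIso m _)))⟩

/-- `Lf^*` preserves pseudo-coherence. -/
theorem isPC_Lpull (f : Y ⟶ X) [DCoh.HasLpull f] {m : ℤ} {K : DCoh.D X}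
    (h : DCoh.IsPseudoCoherentD m K) : DCoh.IsPseudoCoherentD m ((DCoh.Lpull f).obj K) := by
  rw [isPC_iff] at h ⊢
  intro y
  obtain ⟨W, hy, hW⟩ := h (f y)
  have := DCK91.hasLpull (f ∣_ W)
  obtain ⟨e⟩ := nonempty_Lpull_resD f W.ι (f ⁻¹ᵁ W).ι (f ∣_ W) (morphismRestrict_ι f W)
  exact ⟨f ⁻¹ᵁ W, hy, (hW.lpull (f ∣_ W)).of_iso (e.app K).symm⟩

/-- `Lf^*` preserves perfectness. -/
theorem isPerfect_Lpull (f : Y ⟶ X) [DCoh.HasLpull f] {K : DCoh.D X}
    (h : DCoh.IsPerfect K) : DCoh.IsPerfect ((DCoh.Lpull f).obj K) := by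
  rw [isPerfect_iff] at h ⊢
  intro y
  obtain ⟨W, hy, hW⟩ := h (f y)
  have := DCK91.hasLpull (f ∣_ W)
  obtain ⟨e⟩ := nonempty_Lpull_resD f W.ι (f ⁻¹ᵁ W).ι (f ∣_ W) (morphismRestrict_ι f W)
  exact ⟨f ⁻¹ᵁ W, hy, (hW.lpull (f ∣_ W)).of_iso (e.app K).symm⟩

end Groth.Agent.DCX42
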