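import Groth.Agent.DCK91.LpullComp
import Groth.Agent.DCK91.KFlatTilde
import Groth.Agent.DR39.Derived
import Groth.Agent.TildePull72.Basic
import Groth.Prelude.Def_DCoh3

/-!
# `tilde` commutes with derived base change and derived inverse image
-/

set_option autoImplicit false
set_option backward.isDefEq.respectTransparency false

universe u

open CategoryTheory Limits AlgebraicGeometry
attribute [local instance] HasDerivedCategory.standard

noncomputable section

namespace Groth.Agent.DCX42

variable {A B : Type u} [CommRing A] [CommRing B] (φ : A →+* B)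

/-- Classes of K-projective complexes with projective terms. -/
def KProjh (A : Type u) [CommRing A] :
    ObjectProperty (HomotopyCategory (ModuleCat.{u} A) (ComplexShape.up ℤ)) :=
  fun X => ∃ P : DRing.Cx A, X = (HomotopyCategory.quotient _ _).obj P ∧ P.IsKProjective ∧
    ∀ i, Projective (P.X i)

lemma hasRes_KProjh (A : Type u) [CommRing A] :
    DCK91.HasRes (HomotopyCategory.quasiIso (ModuleCat.{u} A) (ComplexShape.up ℤ)) (KProjh A) := by
  intro X
  obtain ⟨M, rfl⟩ := HomotopyCategory.quotient_obj_surjective X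
  exact ⟨_, (HomotopyCategory.quotient _ _).map (DR39.SF.aug M),
    ⟨_, rfl, DR39.SF.isKProjective_res M, DR39.SF.projective_res M⟩,
    (HomotopyCategory.quotient_map_mem_quasiIso_iff _).2 (DR39.SF.quasiIso_aug M)⟩

lemma inverts_KProjh {B : Type*} [Category B] [Abelian B] [HasDerivedCategory B]
    (F : ModuleCat.{u} A ⥤ B) [F.Additive] :
    (DCK91.W₀ (HomotopyCategory.quasiIso (ModuleCat.{u} A) (ComplexShape.up ℤ)) (KProjh A)).IsInvertedBy
      ((KProjh A).ι ⋙ F.mapHomotopyCategory (ComplexShape.up ℤ) ⋙ DerivedCategory.Qh) := by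
  rintro ⟨_, K, rfl, hK, _⟩ ⟨_, L, rfl, hL, _⟩ f hf
  obtain ⟨g, hg⟩ := (HomotopyCategory.quotient (ModuleCat.{u} A) (ComplexShape.up ℤ)).map_surjective f.hom
  change HomotopyCategory.quasiIso _ _ f.hom at hf
  have hq : QuasiIso g := (HomotopyCategory.quotient_map_mem_quasiIso_iff g).1 (by rw [hg]; exact hf)
  have h1 := (CochainComplex.IsKProjective.quasiIso_iff g).1 hq
  rw [← HomotopyCategory.inverseImage_quotient_isomorphisms, MorphismProperty.inverseImage_iff,
    MorphismProperty.isomorphisms.iff, hg] at h1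
  exact inferInstanceAs (IsIso ((F.mapHomotopyCategory (ComplexShape.up ℤ) ⋙ DerivedCategory.Qh).map f.hom))

/-- Projective modules give flat sheaves. -/
lemma isFlat_tilde (R : CommRingCat.{u}) (M : ModuleCat.{u} R) (hM : Module.Flat R M) :
    FlatMod.IsFlat ((tilde.functor R).obj M) := by
  intro x
  have : Module.Flat ((Spec R).presheaf.stalk x) ((ModuleCat.extendScalars.{u, u, u} (DCK91.specGerm R x)).obj M) := by
    letI := (DCK91.specGerm R x).toAlgebra
    exact Module.Flat.baseChange R ((Spec R).presheaf.stalk x) M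
  exact Module.Flat.of_linearEquiv ((DCK91.tildeStalkIso R x).app M).toLinearEquiv

theorem LBaseChange_comp_tildeD (R S : CommRingCat.{u}) (f : R ⟶ S)
    [PreservesFiniteLimits (tilde.functor R)] [PreservesFiniteLimits (tilde.functor S)]
    [DRing.HasLBaseChange f.hom] [DCoh.HasLpull (Spec.map f)] :
    Nonempty (DRing.LBaseChange f.hom ⋙ (tilde.functor S).mapDerivedCategory ≅
      (tilde.functor R).mapDerivedCategory ⋙ DCoh.Lpull (Spec.map f)) := by
  let W := HomotopyCategory.quasiIso (ModuleCat.{u} R) (ComplexShape.up ℤ)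
  haveI := DRing.additive_extendScalars f.hom
  haveI : (tilde.functor S).Additive := inferInstance
  haveI : (ModuleCat.extendScalars.{u, u, u} f.hom ⋙ tilde.functor S).Additive := inferInstance
  let K := (ModuleCat.extendScalars.{u, u, u} f.hom ⋙ tilde.functor S).mapHomotopyCategory (ComplexShape.up ℤ)
  obtain ⟨LK, αK, hLK, hK⟩ := DCK91.exists_leftDerived (F := K ⋙ DerivedCategory.Qh) (DerivedCategory.Qh) (hasRes_KProjh R)
    (inverts_KProjh (ModuleCat.extendScalars.{u, u, u} f.hom ⋙ tilde.functor S))
  obtain ⟨e₁⟩ := DCK91.nonempty_comp (W := W) DerivedCategory.Qh DerivedCategory.Qh DerivedCategory.Qh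
    (hasRes_KProjh R)
    (Functor.mapHomotopyCategoryCompIso (Iso.refl (ModuleCat.extendScalars.{u, u, u} f.hom ⋙ tilde.functor S))
      (ComplexShape.up ℤ))
    (DRing.LBaseChange f.hom) ((DRing.baseChangeKh f.hom).totalLeftDerivedCounit DerivedCategory.Qh _)
    ((tilde.functor S).mapDerivedCategory) (tilde.functor S).mapDerivedCategoryFactorsh.hom
    LK αK
    (fun X ⟨P, hX, hP, _⟩ => (DR39.khDeformation (ModuleCat.extendScalars.{u, u, u} f.hom)).isIso_counit W
      ((DRing.baseChangeKh f.hom).totalLeftDerivedCounit DerivedCategory.Qh _) ⟨P, hP, hX.symm⟩)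
    (fun _ _ => inferInstance) hK
  obtain ⟨e₂⟩ := DCK91.nonempty_comp (W := W) DerivedCategory.Qh DerivedCategory.Qh DerivedCategory.Qh
    (hasRes_KProjh R)
    (Functor.mapHomotopyCategoryCompIso (TildePull72.pullbackTildeIso f) (ComplexShape.up ℤ))
    ((tilde.functor R).mapDerivedCategory) (tilde.functor R).mapDerivedCategoryFactorsh.hom
    (DCoh.Lpull (Spec.map f)) ((DCoh.pullKh (Spec.map f)).totalLeftDerivedCounit DerivedCategory.Qh _)
    LK αK
    (fun _ _ => inferInstance)
    (fun X ⟨P, hX, hP, hp⟩ => by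
      subst hX
      refine DCK91.isIso_pullCounit (Spec.map f) _ ⟨((tilde.functor R).mapHomologicalComplex (ComplexShape.up ℤ)).obj P,
        rfl, DCK91.isKFlat_tilde R P (DR39.isKFlat_of_isKProjective (P := P)), fun i => ?_⟩
      exact DCK91.isFlat_of_flatMod _ (isFlat_tilde R _ (Module.Flat.of_projective)))
    hK
  exact ⟨e₁ ≪≫ e₂.symm⟩

end Groth.Agent.DCX42
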