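import Groth.Agent.DCX42.HBij
import Groth.Agent.DerComp18.AffineSec
import Groth.Agent.CohDer42.RdAdj
import Groth.Agent.DCX42.Coh
import Groth.Prelude.Def_DCoh3

/-!
# `D(R) ≅ D_QCoh(Spec R)`
-/

set_option autoImplicit false
set_option backward.isDefEq.respectTransparency false
set_option synthInstance.maxHeartbeats 200000

universe u

open CategoryTheory Limits AlgebraicGeometry DerivedCategory
attribute [local instance] HasDerivedCategory.standard

noncomputable section

namespace Groth.Agent.DCX42

section QC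

variable {X : Scheme.{u}}

lemma isQCohD_shift {E : DCoh.D X} (h : DCoh.IsQCohD E) (n : ℤ) : DCoh.IsQCohD (E⟦n⟧) := fun i =>
  QC70.isQuasicoherent_of_iso (((homologyFunctor X.Modules 0).shiftIso n i (n + i) rfl).app E).symm (h (n + i))

lemma isQCohD_of_iso {E E' : DCoh.D X} (e : E ≅ E') (h : DCoh.IsQCohD E) : DCoh.IsQCohD E' := fun i =>
  QC70.isQuasicoherent_of_iso ((homologyFunctor X.Modules i).mapIso e) (h i)

lemma hb_unit [IsAffine X] {G : X.Modules} (e : G ≅ SheafOfModules.unit X.ringCatSheaf) (E : DCoh.D X)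
    (hE : DCoh.IsQCohD E) : HB 0 ((singleFunctor X.Modules 0).obj G) E := by
  refine HB.of_iso (HB.single (P := SheafOfModules.unit X.ringCatSheaf) ?_)
    ((singleFunctor X.Modules 0).mapIso e.symm)
  exact DerComp18.evLin_bijective E hE

end QC

instance additive_moduleSpecΓ (R : CommRingCat.{u}) : (moduleSpecΓFunctor (R := R)).Additive :=
  (tilde.adjunction (R := R)).right_adjoint_additive

variable (R : CommRingCat.{u}) [PreservesFiniteLimits (tilde.functor R)]

local notation "XR" => Spec (CommRingCat.of R)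
set_option quotPrecheck false in
local notation "T" => (tilde.functor R).mapDerivedCategory

lemma isQCohD_tildeD (M : DerivedCategory (ModuleCat.{u} R)) :
    DCoh.IsQCohD ((T).obj M) := fun i =>
  QC70.isQuasicoherent_of_iso (X := XR) ((Mod48.homologyMapDerivedIso (tilde.functor R) i).app M).symm
    (inferInstanceAs ((tilde ((homologyFunctor (ModuleCat.{u} R) i).obj M)).IsQuasicoherent))

/-- The generator `R` placed in degree `n`. -/
abbrev gen (n : ℤ) : DerivedCategory (ModuleCat.{u} R) :=
  ((singleFunctor (ModuleCat.{u} R) 0).obj (ModuleCat.of R R))⟦-n⟧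

lemma hb_gen (n : ℤ) (M : DerivedCategory (ModuleCat.{u} R)) : HB n (gen R n) M :=
  HB.shift (HB.single (DR39.homToH0_bijective _ _))

lemma hb_tildeD_gen (n : ℤ) (E : DCoh.D XR) (hE : DCoh.IsQCohD E) :
    HB n ((T).obj (gen R n)) E :=
  (HB.shift (hb_unit (X := XR) tildeSelf (E⟦n⟧) (isQCohD_shift hE n))).of_iso
    (((shiftFunctor (DCoh.D XR) (-n)).mapIso
      (((tilde.functor R).mapDerivedCategorySingleFunctor 0).app (ModuleCat.of R R)).symm) ≪≫
      (((T).commShiftIso (-n)).app _).symm)

lemma tildeD_map_gen_bijective (n : ℤ) (M : DerivedCategory (ModuleCat.{u} R)) :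
    Function.Bijective fun f : gen R n ⟶ M => (T).map f :=
  map_bijective_of_HB (tilde.functor R) (hb_gen R n M) (hb_tildeD_gen R n _ (isQCohD_tildeD R M))

/-- `H^n` of the generator is `R`. -/
def homGenIso (n : ℤ) : (homologyFunctor (ModuleCat.{u} R) n).obj (gen R n) ≅ ModuleCat.of R R :=
  ((homologyFunctor (ModuleCat.{u} R) 0).shiftIso (-n) n 0 (by omega)).app _ ≪≫
    DR39.singleH0Iso (ModuleCat.of R R)

lemma isIso_module {M N : ModuleCat.{u} R} (f : M ⟶ N)
    (h : Function.Bijective fun g : ModuleCat.of R R ⟶ M => g ≫ f) : IsIso f := by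
  refine (ConcreteCategory.isIso_iff_bijective f).2 ⟨fun a b hab => ?_, fun y => ?_⟩
  · have := h.1 (a₁ := ModuleCat.ofHom (LinearMap.toSpanSingleton R M a))
      (a₂ := ModuleCat.ofHom (LinearMap.toSpanSingleton R M b))
      (ModuleCat.hom_ext (LinearMap.ext_ring (by simpa using hab)))
    simpa using LinearMap.congr_fun (congrArg ModuleCat.Hom.hom this) 1
  · obtain ⟨g, hg⟩ := h.2 (ModuleCat.ofHom (LinearMap.toSpanSingleton R N y))
    exact ⟨g.hom 1, by simpa using LinearMap.congr_fun (congrArg ModuleCat.Hom.hom hg) 1⟩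

lemma isIso_qcoh {F G : (Spec (CommRingCat.of R)).Modules} (hF : Coh.IsQCoh F) (hG : Coh.IsQCoh G) (f : F ⟶ G)
    (h : Function.Bijective fun g : tilde (ModuleCat.of R R) ⟶ F => g ≫ f) : IsIso f := by
  have := hF
  have := hG
  let adj := tilde.adjunction (R := R)
  have h1 : IsIso (moduleSpecΓFunctor.map f) := by
    refine isIso_module R _ ?_
    have : (fun g : ModuleCat.of R R ⟶ moduleSpecΓFunctor.obj F => g ≫ moduleSpecΓFunctor.map f) =
        adj.homEquiv _ _ ∘ (fun g : tilde (ModuleCat.of R R) ⟶ F => g ≫ f) ∘ (adj.homEquiv _ _).symm := by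
      funext g
      simp only [Function.comp_apply]
      erw [Adjunction.homEquiv_naturality_right, Equiv.apply_symm_apply]
    rw [this]
    exact (Equiv.bijective _).comp (h.comp (Equiv.bijective _))
  have hn := adj.counit.naturality f
  have : IsIso (adj.counit.app F) := inferInstanceAs (IsIso (Scheme.Modules.fromTildeΓ F))
  have : IsIso (adj.counit.app G) := inferInstanceAs (IsIso (Scheme.Modules.fromTildeΓ G))
  have : IsIso ((moduleSpecΓFunctor ⋙ tilde.functor R).map f) :=
    inferInstanceAs (IsIso ((tilde.functor R).map (moduleSpecΓFunctor.map f)))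
  exact IsIso.of_isIso_fac_left hn.symm

/-- A map of objects with quasi-coherent cohomology which is bijective on cohomology classes is invertible. -/
lemma isIso_of_qcohD {E E' : DCoh.D XR} (hE : DCoh.IsQCohD E) (hE' : DCoh.IsQCohD E') (f : E ⟶ E')
    (h : ∀ n, Function.Bijective fun g : (T).obj (gen R n) ⟶ E => g ≫ f) : IsIso f := by
  rw [DerivedCategory.isIso_iff]
  intro n
  refine isIso_qcoh R (hE n) (hE' n) _ (bijective_comp_of_iso ?_ _
    (bijective_comp_homology f (hb_tildeD_gen R n E hE) (hb_tildeD_gen R n E' hE') (h n)))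
  exact (Mod48.homologyMapDerivedIso (tilde.functor R) n).app _ ≪≫ (tilde.functor R).mapIso (homGenIso R n)

theorem tildeD_fullyFaithful_essImage :
    ((tilde.functor R).mapDerivedCategory).Full ∧ ((tilde.functor R).mapDerivedCategory).Faithful ∧
      ∀ K : DCoh.D XR, DCoh.IsQCohD K ↔ ∃ M, Nonempty ((T).obj M ≅ K) := by
  let adj := CohDer42.RdAdj.adjRF (tilde.adjunction (R := R))
    (CohDer42.RdAdj.rd (moduleSpecΓFunctor (R := R))) (CohDer42.RdAdj.rdUnit (moduleSpecΓFunctor (R := R)))
  have hunit : ∀ M, IsIso (adj.unit.app M) := fun M => by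
    rw [DerivedCategory.isIso_iff]
    intro n
    refine isIso_module R _ (bijective_comp_of_iso (homGenIso R n) _
      (bijective_comp_homology _ (hb_gen R n _) (hb_gen R n _) ?_))
    have : (fun g : gen R n ⟶ M => g ≫ adj.unit.app M) =
        adj.homEquiv _ _ ∘ fun g : gen R n ⟶ M => (T).map g := by
      funext g
      simp only [Function.comp_apply, Adjunction.homEquiv_unit]
      exact adj.unit.naturality g
    exact this ▸ (Equiv.bijective _).comp (tildeD_map_gen_bijective R n M)
  have : IsIso adj.unit := NatIso.isIso_of_isIso_app _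
  let ff := adj.fullyFaithfulLOfIsIsoUnit
  refine ⟨ff.full, ff.faithful, fun K => ⟨fun hK => ?_, ?_⟩⟩
  · refine ⟨_, ⟨@asIso _ _ _ _ (adj.counit.app K)
      (isIso_of_qcohD R (isQCohD_tildeD R _) hK _ fun n => ?_)⟩⟩
    have h := tildeD_map_gen_bijective R n ((CohDer42.RdAdj.rd (moduleSpecΓFunctor (R := R))).obj K)
    refine (Function.Bijective.of_comp_iff _ h).1 ?_
    have : ((fun g : (T).obj (gen R n) ⟶ _ => g ≫ adj.counit.app K) ∘
        fun g : gen R n ⟶ _ => (T).map g) = (adj.homEquiv _ _).symm := by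
      funext g
      exact (Adjunction.homEquiv_counit adj _ _ g).symm
    exact this ▸ (Equiv.bijective _)
  · rintro ⟨M, ⟨e⟩⟩
    exact isQCohD_of_iso e (isQCohD_tildeD R M)

end Groth.Agent.DCX42
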