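import Groth.Agent.DCK91.LpullComp
import Groth.Agent.CohDer42.RdAdj
import Groth.Agent.Coh69.Grothendieck
import Groth.Agent.CohDer42.RlimRight
import Groth.Prelude.Def_DCoh2

/-!
# The derived adjunction between inverse and direct image
-/

set_option autoImplicit false
set_option backward.isDefEq.respectTransparency false

noncomputable section

universe u

open CategoryTheory Limits AlgebraicGeometry
attribute [local instance] HasDerivedCategory.standard

namespace Groth.Agent.DCX42

section Abstract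

variable {C : Type*} [Category* C] {D : Type*} [Category* D] {H : Type*} [Category* H]
  (L : C ⥤ D) {W : MorphismProperty C} [L.IsLocalization W] [W.HasRightCalculusOfFractions]
  {P : ObjectProperty C}

/-- A functor which agrees with a functor on adapted objects is its left derived functor. -/
lemma isLeftDerived_of_adapted (hP : DCK91.HasRes W P) {F : C ⥤ H} (G : D ⥤ H) (α : L ⋙ G ⟶ F)
    (h : ∀ X, P X → IsIso (α.app X)) : G.IsLeftDerivedFunctor α W := by
  have hF : (DCK91.W₀ W P).IsInvertedBy (P.ι ⋙ F) := fun A B f hf => by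
    have := h A.obj A.property
    have := h B.obj B.property
    have : IsIso (L.map f.hom) := Localization.inverts L W _ hf
    change IsIso (F.map f.hom)
    have hn : (L ⋙ G).map f.hom ≫ α.app B.obj = α.app A.obj ≫ F.map f.hom := α.naturality f.hom
    rw [← IsIso.inv_comp_eq] at hn
    rw [← hn]
    change IsIso (inv (α.app A.obj) ≫ G.map (L.map f.hom) ≫ α.app B.obj)
    infer_instance
  obtain ⟨G', α', hG', hi⟩ := DCK91.exists_leftDerived L hP hF
  rw [Functor.isLeftDerivedFunctor_iff_isIso_leftDerivedLift G' α' W G α]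
  refine DCK91.isIso_of_adapted L hP _ fun X hX => ?_
  have := h X hX
  have := hi X hX
  have e : (G'.leftDerivedLift α' W G α).app (L.obj X) = α.app X ≫ inv (α'.app X) := by
    rw [IsIso.eq_comp_inv, Functor.leftDerived_fac_app]
  rw [e]
  infer_instance

end Abstract

variable {X Y Z : Scheme.{u}}

/-- Right derived direct images exist. -/
theorem hasRpush (f : X ⟶ Y) : DCoh.HasRpush f :=
  Functor.HasRightDerivedFunctor.mk' (RF := CohDer42.RdAdj.rd (Scheme.Modules.pushforward f))
    (α := CohDer42.RdAdj.rdUnit (Scheme.Modules.pushforward f))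

/-- The unit of `Rf_*` is invertible on K-injective complexes. -/
lemma isIso_pushUnit (f : X ⟶ Y) [DCoh.HasRpush f] (I : CochainComplex X.Modules ℤ) (hI : I.IsKInjective) :
    IsIso (((DCoh.pushKh f).totalRightDerivedUnit DerivedCategory.Qh
      (HomotopyCategory.quasiIso X.Modules (ComplexShape.up ℤ))).app
        ((HomotopyCategory.quotient X.Modules (ComplexShape.up ℤ)).obj I)) :=
  Mod48.isIso_unit_of_kInjective _ _ CohDer42.RdAdj.enoughKInj I hI

/-- `Lf^* ⊣ Rf_*`. -/
def LpullRpushAdj (f : X ⟶ Y) [DCoh.HasLpull f] [DCoh.HasRpush f] : DCoh.Lpull f ⊣ DCoh.Rpush f :=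
  let WY := HomotopyCategory.quasiIso Y.Modules (ComplexShape.up ℤ)
  let WX := HomotopyCategory.quasiIso X.Modules (ComplexShape.up ℤ)
  let α := (DCoh.pullKh f).totalLeftDerivedCounit DerivedCategory.Qh WY
  let β := (DCoh.pushKh f).totalRightDerivedUnit DerivedCategory.Qh WX
  have : (DCoh.Lpull f ⋙ DCoh.Rpush f).IsLeftDerivedFunctor
      ((Functor.associator _ _ _).inv ≫ Functor.whiskerRight α (DCoh.Rpush f)) WY :=
    isLeftDerived_of_adapted DerivedCategory.Qh (DCK91.hasRes_KFFh Y) _ _ fun E hE => by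
      have := DCK91.isIso_pullCounit f E hE
      change IsIso (𝟙 _ ≫ (DCoh.Rpush f).map (α.app E))
      infer_instance
  have : (DCoh.Rpush f ⋙ DCoh.Lpull f).IsRightDerivedFunctor
      (Functor.whiskerRight β (DCoh.Lpull f) ≫ (Functor.associator _ _ _).hom) WX :=
    Mod48.isRightDerivedFunctor_comp _ β CohDer42.RdAdj.enoughKInj _ _ rfl
  (Mod48.adjHomotopy (Scheme.Modules.pullbackPushforwardAdjunction f)).derived WY WX α β

/-- `Rf_*` is a right adjoint. -/
lemma isRightAdjoint_Rpush (f : X ⟶ Y) [DCoh.HasRpush f] : (DCoh.Rpush f).IsRightAdjoint :=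
  have := DCK91.hasLpull f
  ⟨_, ⟨LpullRpushAdj f⟩⟩

/-- `Rg_* Rf_* ≅ R(gf)_*`. -/
theorem Rpush_comp (f : X ⟶ Y) (g : Y ⟶ Z) [DCoh.HasRpush f] [DCoh.HasRpush g]
    [DCoh.HasRpush (f ≫ g)] : Nonempty (DCoh.Rpush f ⋙ DCoh.Rpush g ≅ DCoh.Rpush (f ≫ g)) := by
  have := DCK91.hasLpull f
  have := DCK91.hasLpull g
  have := DCK91.hasLpull (f ≫ g)
  obtain ⟨e⟩ := DCK91.Lpull_comp f g
  exact ⟨(((LpullRpushAdj g).comp (LpullRpushAdj f)).ofNatIsoLeft e).rightAdjointUniq
    (LpullRpushAdj (f ≫ g))⟩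

open Pretriangulated in
/-- `Rf_*` commutes with derived limits. -/
theorem Rpush_isRlim (f : X ⟶ Y) [DCoh.HasRpush f] (K : ℕ → DCoh.D X) (t : ∀ n, K (n + 1) ⟶ K n)
    [HasProduct K] [HasProduct fun n => (DCoh.Rpush f).obj (K n)] (L : DCoh.D X)
    (hL : DCoh.IsRlim K t L) :
    DCoh.IsRlim (fun n => (DCoh.Rpush f).obj (K n)) (fun n => (DCoh.Rpush f).map (t n))
      ((DCoh.Rpush f).obj L) := by
  let RF := DCoh.Rpush f
  let α := (DCoh.pushKh f).totalRightDerivedUnit DerivedCategory.Qh
    (HomotopyCategory.quasiIso X.Modules (ComplexShape.up ℤ))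
  have hA := CohDer42.RdAdj.enoughKInj (A := X.Modules)
  have := CohDer42.RlimRight.additive_push RF α (isIso_pushUnit f) hA
  have := DCK91.hasLpull f
  have := (LpullRpushAdj f).rightAdjoint_preservesLimits (D := DCoh.D X)
  obtain ⟨a, c, hc⟩ := hL
  obtain ⟨c', hc'⟩ := CohDer42.RlimRight.exists_distinguished_push RF α (isIso_pushUnit f) hA _ _ c hc
  have : IsIso (piComparison RF K) := inferInstance
  let p := asIso (piComparison RF K)
  refine ⟨RF.map a ≫ p.hom, p.inv ≫ c',
    isomorphic_distinguished _ hc' _ (Triangle.isoMk _ _ (Iso.refl _) p.symm p.symm ?_ ?_ ?_)⟩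
  · change (RF.map a ≫ p.hom) ≫ p.inv = 𝟙 _ ≫ RF.map a
    simp
  · change Pi.lift _ ≫ p.inv = p.inv ≫ RF.map _
    rw [Iso.comp_inv_eq, Category.assoc, Iso.eq_inv_comp]
    refine Pi.hom_ext _ _ fun n => ?_
    simp only [p, asIso_hom, Category.assoc, Pi.lift_π, piComparison_comp_π, ← Functor.map_comp,
      Functor.map_sub, Preadditive.comp_sub]
    simp [RF, Functor.map_comp]
  · change (p.inv ≫ c') ≫ (𝟙 _)⟦(1 : ℤ)⟧' = p.inv ≫ c'
    simp

end Groth.Agent.DCX42
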