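import Groth.Agent.DCX42.HasRHom
import Groth.Agent.Mod48.ModGen
import Groth.Agent.Mod48.LocGen
import Groth.Agent.QCGroth72.Category

/-!
# `RHom(E, L)` as a function of `E`

A morphism `φ : E ⟶ E'` of complexes induces `RHom(E', L) ⟶ RHom(E, L)`; quasi-isomorphisms induce
isomorphisms and distinguished pairs induce exact sequences of cohomology sheaves.
-/

set_option autoImplicit false
set_option linter.style.haveILetI false
set_option backward.isDefEq.respectTransparency.types false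
set_option maxHeartbeats 400000

noncomputable section

universe u

open CategoryTheory Limits AlgebraicGeometry Pretriangulated DerivedCategory

attribute [local instance] HasDerivedCategory.standard

namespace Groth.Agent.DCX42.RHomCalc

open Groth.Agent.Mod48

variable {X : Scheme.{u}}

/-- The quasi-isomorphisms of complexes of `O_X`-modules. -/
abbrev qi (X : Scheme.{u}) : MorphismProperty (CochainComplex X.Modules ℤ) :=
  HomologicalComplex.quasiIso X.Modules (ComplexShape.up ℤ)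

set_option backward.isDefEq.respectTransparency false in
theorem hasLT (E : CochainComplex X.Modules ℤ) : DCoh.HasLTensorCx E := by
  obtain ⟨G, α, hG, -⟩ := DCK91.exists_leftDerived (DerivedCategory.Qh)
    (DerComp18.hasRes_KFl (O := X.sheaf)) (DerComp18.inverts_KFl (O := X.sheaf) E)
  let q := HomotopyCategory.quotient X.Modules (ComplexShape.up ℤ)
  let eF : q ⋙ DerComp18.tensorKh (O := X.sheaf) E ≅ DCoh.tensorCxQ E := CategoryTheory.Quotient.lift.isLift _ _ _
  let eL : q ⋙ DerivedCategory.Qh ≅ DerivedCategory.Q := quotientCompQhIso X.Modules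
  let a : Q ⋙ G ⟶ DCoh.tensorCxQ E :=
    Functor.whiskerRight eL.inv G ≫ (Functor.associator _ _ _).hom ≫ Functor.whiskerLeft q α ≫ eF.hom
  have ha : G.IsRightKanExtension a := DerComp18.isRightKanExtension_of_quotient eL eF G α
    hG.isRightKanExtension a fun Y => by
      simp [a, q]
  haveI : (DerivedCategory.Q (C := ModSite.Mod X.sheaf)).IsLocalization
      (HomologicalComplex.quasiIso X.Modules (ComplexShape.up ℤ)) :=
    inferInstanceAs ((DerivedCategory.Q (C := X.Modules)).IsLocalization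
      (HomologicalComplex.quasiIso X.Modules (ComplexShape.up ℤ)))
  haveI : G.IsLeftDerivedFunctor a (HomologicalComplex.quasiIso X.Modules (ComplexShape.up ℤ)) := ⟨ha⟩
  exact Functor.HasLeftDerivedFunctor.mk' (L := DerivedCategory.Q) (LF := G) (α := a)

attribute [local instance] hasLT hasRSheafHom

/-- The counit `Q X ⊗^L E ⟶ Q (X ⊗ E)`. -/
abbrev cn (E : CochainComplex X.Modules ℤ) : Q ⋙ DCoh.LTensorCx E ⟶ DCoh.tensorCxQ E :=
  (DCoh.tensorCxQ E).totalLeftDerivedCounit DerivedCategory.Q (qi X)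

/-- The counit is invertible at K-flat complexes. -/
theorem isIso_cn (E P : CochainComplex X.Modules ℤ) (hP : DCoh.IsKFlat P) : IsIso ((cn E).app P) := by
  haveI : ModSite.HasLTensorCx (O := X.sheaf) E := hasLT E
  exact DerComp18.isIso_ltCounit (O := X.sheaf) E P hP

/-- The map `- ⊗^L E ⟶ - ⊗^L E'` induced by a chain map. -/
def ltMap {E E' : CochainComplex X.Modules ℤ} (φ : E ⟶ E') : DCoh.LTensorCx E ⟶ DCoh.LTensorCx E' :=
  Functor.leftDerivedNatTrans (DCoh.LTensorCx E) (DCoh.LTensorCx E') (cn E) (cn E') (qi X)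
    (Functor.whiskerRight ((DCoh.tensorCx (X := X)).flip.map φ) DerivedCategory.Q)

lemma ltMap_app {E E' : CochainComplex X.Modules ℤ} (φ : E ⟶ E') (P : CochainComplex X.Modules ℤ) :
    (ltMap φ).app (Q.obj P) ≫ (cn E').app P =
      (cn E).app P ≫ Q.map ((DCoh.tensorCx.obj P).map φ) :=
  Functor.leftDerivedNatTrans_app _ _ _ _ _ _ _

/-- The map `RHom(E', -) ⟶ RHom(E, -)` induced by a chain map. -/
def rhMap {E E' : CochainComplex X.Modules ℤ} (φ : E ⟶ E') : DCoh.RSheafHom E' ⟶ DCoh.RSheafHom E :=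
  conjugateEquiv (DCoh.RSheafHomAdj E') (DCoh.RSheafHomAdj E) (ltMap φ)

lemma homEquiv_symm_comp {E E' : CochainComplex X.Modules ℤ} (φ : E ⟶ E') {F L : DCoh.D X}
    (x : F ⟶ (DCoh.RSheafHom E').obj L) :
    ((DCoh.RSheafHomAdj E).homEquiv F L).symm (x ≫ (rhMap φ).app L) =
      (ltMap φ).app F ≫ ((DCoh.RSheafHomAdj E').homEquiv F L).symm x := by
  rw [Adjunction.homEquiv_counit, Adjunction.homEquiv_counit, Functor.map_comp, Category.assoc, rhMap,
    conjugateEquiv_counit]
  rw [NatTrans.naturality_assoc]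

/-- Every object is represented by a K-flat complex. -/
theorem exists_kflat (F : DCoh.D X) :
    ∃ P : CochainComplex X.Modules ℤ, DCoh.IsKFlat P ∧ Nonempty (Q.obj P ≅ F) := by
  obtain ⟨P, p, hP, hp⟩ := DCK91.res₀ X (DerivedCategory.Q.objPreimage F)
  haveI := hp
  exact ⟨P, hP.1, ⟨asIso (Q.map p) ≪≫ Q.objObjPreimageIso F⟩⟩

set_option backward.isDefEq.respectTransparency false in
/-- `P ⊗ -` preserves quasi-isomorphisms for K-flat `P`. -/
theorem inverts_tensor {P : CochainComplex X.Modules ℤ} (hP : DCoh.IsKFlat P) :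
    (qi X).IsInvertedBy ((DCoh.tensorCx (X := X)).obj P ⋙ DerivedCategory.Q) := by
  intro F F' φ hφ
  haveI : QuasiIso φ := (HomologicalComplex.mem_quasiIso_iff φ).1 hφ
  exact (DerivedCategory.isIso_Q_map_iff_quasiIso X.Modules _).2
    (quasiIso_map_of_split ((ModSite.tensorCx X.sheaf).obj P) φ (preservesHtp_tensorCx_obj (O := X.sheaf) P)
      (fun S _ hσ => shortExact_tensorCx_obj_of_split (O := X.sheaf) P S hσ)
      (fun S _ _ _ _ h => acyclic_of_iso (tcSymm (O := X.sheaf) S.X₃ P)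
        ((isKFlat_iff (O := X.sheaf) P).1 hP S.X₃ h)))

/-- `P ⊗ -` on the derived category, for K-flat `P`. -/
def tenD {P : CochainComplex X.Modules ℤ} (hP : DCoh.IsKFlat P) : DCoh.D X ⥤ DCoh.D X :=
  Localization.lift ((DCoh.tensorCx (X := X)).obj P ⋙ DerivedCategory.Q) (inverts_tensor hP) DerivedCategory.Q

/-- `tenD` is computed by `P ⊗ -`. -/
def tenDIso {P : CochainComplex X.Modules ℤ} (hP : DCoh.IsKFlat P) :
    DerivedCategory.Q ⋙ tenD hP ≅ (DCoh.tensorCx (X := X)).obj P ⋙ DerivedCategory.Q :=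
  Localization.fac _ _ _

theorem triLike_tenD {P : CochainComplex X.Modules ℤ} (hP : DCoh.IsKFlat P) : QExact41.TriLike (tenD hP) := by
  haveI : ((DCoh.tensorCx (X := X)).obj P).Additive := additive_tensorCx_obj (O := X.sheaf) P
  exact QExact41.triLike_of_model (tenD hP) ((DCoh.tensorCx (X := X)).obj P)
    (fun S hS => shortExact_tensorCx_obj_of_split (O := X.sheaf) P S hS) (tenDIso hP).symm

/-- `Q P ⊗^L E` is `P ⊗ E` in the derived category. -/
def ltIso {P : CochainComplex X.Modules ℤ} (hP : DCoh.IsKFlat P) (E : CochainComplex X.Modules ℤ) :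
    (DCoh.LTensorCx E).obj (Q.obj P) ≅ (tenD hP).obj (Q.obj E) :=
  haveI := isIso_cn E P hP
  asIso ((cn E).app P) ≪≫ ((tenDIso hP).app E).symm

lemma ltIso_naturality {P : CochainComplex X.Modules ℤ} (hP : DCoh.IsKFlat P)
    {E E' : CochainComplex X.Modules ℤ} (φ : E ⟶ E') :
    (ltMap φ).app (Q.obj P) ≫ (ltIso hP E').hom = (ltIso hP E).hom ≫ (tenD hP).map (Q.map φ) := by
  simp only [ltIso, Iso.trans_hom, asIso_hom, Iso.symm_hom, Iso.app_inv, Category.assoc]
  have h : (tenDIso hP).inv.app E ≫ (tenD hP).map (Q.map φ) =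
      Q.map ((DCoh.tensorCx.obj P).map φ) ≫ (tenDIso hP).inv.app E' :=
    ((tenDIso hP).inv.naturality φ).symm
  rw [h]
  exact (Category.assoc _ _ _).symm.trans ((congrArg (· ≫ _) (ltMap_app φ P)).trans (Category.assoc _ _ _))

/-- Quasi-isomorphic chain maps induce isomorphisms on `RHom`. -/
theorem isIso_ltMap {E E' : CochainComplex X.Modules ℤ} (φ : E ⟶ E') [IsIso (Q.map φ)] : IsIso (ltMap φ) := by
  haveI : ∀ F, IsIso ((ltMap φ).app F) := fun F => by
    obtain ⟨P, hP, ⟨e⟩⟩ := exists_kflat F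
    haveI : IsIso ((ltMap φ).app (Q.obj P)) := by
      rw [(Iso.eq_comp_inv _).2 (ltIso_naturality hP φ)]
      infer_instance
    rw [← NatTrans.naturality_1 (ltMap φ) e]
    infer_instance
  exact NatIso.isIso_of_isIso_app _

/-- Complexes isomorphic in the derived category have the same `RHom`. -/
theorem nonempty_rhIso {E E' : CochainComplex X.Modules ℤ} (e : Q.obj E ≅ Q.obj E') (L : DCoh.D X) :
    Nonempty ((DCoh.RSheafHom E).obj L ≅ (DCoh.RSheafHom E').obj L) := by
  obtain ⟨M, s, hs, g, hg⟩ := DerivedCategory.right_fac e.hom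
  haveI := hs
  haveI : IsIso (Q.map g) := by
    rw [show Q.map g = Q.map s ≫ e.hom by rw [hg, IsIso.hom_inv_id_assoc]]
    infer_instance
  haveI := isIso_ltMap s
  haveI := isIso_ltMap g
  haveI : IsIso (rhMap s) := by unfold rhMap; infer_instance
  haveI : IsIso (rhMap g) := by unfold rhMap; infer_instance
  exact ⟨(asIso (rhMap s)).app L ≪≫ ((asIso (rhMap g)).app L).symm⟩

/-- Two consecutive maps of a distinguished triangle. -/
def TriPair {E₁ E₂ E₃ : CochainComplex X.Modules ℤ} (a : E₁ ⟶ E₂) (b : E₂ ⟶ E₃) : Prop :=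
  ∃ δ : Q.obj E₃ ⟶ (Q.obj E₁)⟦(1 : ℤ)⟧, Triangle.mk (Q.map a) (Q.map b) δ ∈ distTriang (DCoh.D X)

section Pair

variable {E₁ E₂ E₃ : CochainComplex X.Modules ℤ} {a : E₁ ⟶ E₂} {b : E₂ ⟶ E₃} (h : TriPair a b) (L : DCoh.D X)
include h

theorem lt_exact {F : DCoh.D X} (y : (DCoh.LTensorCx E₂).obj F ⟶ L) (hy : (ltMap a).app F ≫ y = 0) :
    ∃ z, (ltMap b).app F ≫ z = y := by
  obtain ⟨P, hP, ⟨e⟩⟩ := exists_kflat F
  obtain ⟨δ, hδ⟩ := h
  obtain ⟨δ'₀, hδ'₀⟩ := triLike_tenD hP _ hδ
  let δ' : (tenD hP).obj (Q.obj E₃) ⟶ ((tenD hP).obj (Q.obj E₁))⟦(1 : ℤ)⟧ := δ'₀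
  have hδ' : Triangle.mk ((tenD hP).map (Q.map a)) ((tenD hP).map (Q.map b)) δ' ∈ distTriang (DCoh.D X) := hδ'₀
  let j : ∀ E : CochainComplex X.Modules ℤ, (tenD hP).obj (Q.obj E) ≅ (DCoh.LTensorCx E).obj F := fun E =>
    (ltIso hP E).symm ≪≫ (DCoh.LTensorCx E).mapIso e
  have hj : ∀ {A B : CochainComplex X.Modules ℤ} (φ : A ⟶ B),
      (tenD hP).map (Q.map φ) ≫ (j B).hom = (j A).hom ≫ (ltMap φ).app F := by
    intro A B φ
    simp only [j, Iso.trans_hom, Iso.symm_hom, Functor.mapIso_hom, Category.assoc]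
    rw [(ltMap φ).naturality, ← Category.assoc, ← Category.assoc]
    refine congrArg (· ≫ _) ?_
    rw [Iso.eq_inv_comp, ← Category.assoc, ← ltIso_naturality hP φ, Category.assoc, Iso.hom_inv_id,
      Category.comp_id]
  have h0 : (tenD hP).map (Q.map a) ≫ (j E₂).hom ≫ y = 0 := by rw [reassoc_of% (hj a), hy, comp_zero]
  obtain ⟨z, hz⟩ : ∃ z : (tenD hP).obj (Q.obj E₃) ⟶ L, (j E₂).hom ≫ y = (tenD hP).map (Q.map b) ≫ z :=
    Triangle.yoneda_exact₂ _ hδ' ((j E₂).hom ≫ y) h0
  refine ⟨(j E₃).inv ≫ z, ?_⟩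
  rw [← cancel_epi (j E₂).hom, hz, ← reassoc_of% (hj b), Iso.hom_inv_id_assoc]

theorem ltMap_comp_zero (F : DCoh.D X) : (ltMap a).app F ≫ (ltMap b).app F = 0 := by
  obtain ⟨P, hP, ⟨e⟩⟩ := exists_kflat F
  obtain ⟨δ, hδ⟩ := h
  obtain ⟨δ', hδ'⟩ := triLike_tenD hP _ hδ
  have h0 : (tenD hP).map (Q.map a) ≫ (tenD hP).map (Q.map b) = 0 := comp_distTriang_mor_zero₁₂ _ hδ'
  have h1 : (ltMap a).app (Q.obj P) ≫ (ltMap b).app (Q.obj P) = 0 := by
    rw [← cancel_mono (ltIso hP E₃).hom, Category.assoc, ltIso_naturality, ← Category.assoc, ltIso_naturality,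
      Category.assoc, h0, comp_zero, zero_comp]
  rw [← cancel_epi ((DCoh.LTensorCx E₁).map e.hom), comp_zero, NatTrans.naturality_assoc,
    NatTrans.naturality, reassoc_of% h1, zero_comp]

/-- The composite is zero. -/
theorem rhMap_comp_zero : (rhMap b).app L ≫ (rhMap a).app L = 0 := by
  haveI := QExact41.TriLike.additive (QExact41.triLike_LTensorCx E₁)
  apply ((DCoh.RSheafHomAdj E₁).homEquiv _ L).symm.injective
  rw [← Category.id_comp ((rhMap b).app L), homEquiv_symm_comp, homEquiv_symm_comp, ← Category.assoc,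
    ltMap_comp_zero h, zero_comp, Adjunction.homEquiv_counit, Functor.map_zero, zero_comp]

/-- A distinguished pair induces an exact sequence of cohomology sheaves. -/
theorem exact_HD (m : ℤ) :
    (ShortComplex.mk ((DerivedCategory.homologyFunctor X.Modules m).map ((rhMap b).app L))
      ((DerivedCategory.homologyFunctor X.Modules m).map ((rhMap a).app L))
      (by rw [← Functor.map_comp, rhMap_comp_zero h L, Functor.map_zero])).Exact := by
  let G : LocGen (Opens.grothendieckTopology X) X.Modules := modGen X.sheaf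
  have hG : ∀ (U : X.Opens) (x : G.P U ⟶ (DerivedCategory.homologyFunctor X.Modules m).obj ((DCoh.RSheafHom E₂).obj L)),
      x ≫ (DerivedCategory.homologyFunctor X.Modules m).map ((rhMap a).app L) = 0 →
      ∃ S ∈ Opens.grothendieckTopology X U, ∀ ⦃V : X.Opens⦄ (g : V ⟶ U), S g →
        ∃ z, G.r g ≫ x = z ≫ (DerivedCategory.homologyFunctor X.Modules m).map ((rhMap b).app L) := by
    intro U x hx
    obtain ⟨S₁, hS₁, h₁⟩ := G.ev_locally_surjective x
    let S : Sieve U :=
      { arrows := fun V g => ∃ z, G.r g ≫ x = z ≫ (DerivedCategory.homologyFunctor X.Modules m).map ((rhMap b).app L)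
        downward_closed := fun {V W g} hg f => by
          obtain ⟨z, hz⟩ := hg
          exact ⟨G.r f ≫ z, by rw [G.r_comp, Category.assoc, hz, Category.assoc]⟩ }
    refine ⟨S, GrothendieckTopology.transitive _ hS₁ _ fun V g₁ hg₁ => ?_, fun V g hg => hg⟩
    obtain ⟨y, hy⟩ := h₁ g₁ hg₁
    obtain ⟨S₂, hS₂, h₂⟩ := G.ev_locally_injective (y ≫ (rhMap a).app L)
      (by rw [LocGen.ev_comp, hy, Category.assoc, hx, comp_zero])
    refine GrothendieckTopology.superset_covering _ (fun W g₂ hg₂ => ?_) hS₂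
    change ∃ z, G.r (g₂ ≫ g₁) ≫ x = z ≫ _
    have h0 := congrArg ((DCoh.RSheafHomAdj E₁).homEquiv _ L).symm (h₂ g₂ hg₂)
    rw [← Category.assoc, homEquiv_symm_comp] at h0
    haveI := QExact41.TriLike.additive (QExact41.triLike_LTensorCx E₁)
    rw [Adjunction.homEquiv_counit (g := 0), Functor.map_zero, zero_comp] at h0
    obtain ⟨z, hz⟩ := lt_exact h L _ h0
    refine ⟨LocGen.ev ((DCoh.RSheafHomAdj E₃).homEquiv _ L z), ?_⟩
    rw [G.r_comp, Category.assoc, ← hy, ← LocGen.ev_precomp, ← LocGen.ev_comp]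
    refine congrArg LocGen.ev (((DCoh.RSheafHomAdj E₂).homEquiv _ L).symm.injective ?_)
    rw [homEquiv_symm_comp, Equiv.symm_apply_apply, hz]
  have hw : (DerivedCategory.homologyFunctor X.Modules m).map ((rhMap b).app L) ≫
      (DerivedCategory.homologyFunctor X.Modules m).map ((rhMap a).app L) = 0 := by
    rw [← Functor.map_comp, rhMap_comp_zero h L, Functor.map_zero]
  rw [ShortComplex.exact_iff_epi_kernel_lift]
  change Epi (kernel.lift ((DerivedCategory.homologyFunctor X.Modules m).map ((rhMap a).app L))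
    ((DerivedCategory.homologyFunctor X.Modules m).map ((rhMap b).app L)) hw)
  refine G.epi_of_sep _ fun U x Q q hq => ?_
  obtain ⟨S, hS, hS'⟩ := hG U (x ≫ kernel.ι _) (by rw [Category.assoc, kernel.condition, comp_zero])
  refine G.sep _ S hS fun V g hg => ?_
  obtain ⟨z, hz⟩ := hS' g hg
  have : G.r g ≫ x = z ≫ kernel.lift _ ((DerivedCategory.homologyFunctor X.Modules m).map ((rhMap b).app L))
      hw := by
    rw [← cancel_mono (kernel.ι _), Category.assoc, hz, Category.assoc, kernel.lift_ι]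
  rw [reassoc_of% this]
  exact (congrArg (z ≫ ·) hq).trans comp_zero

end Pair

end Groth.Agent.DCX42.RHomCalc
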