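import Groth.Agent.DCX42.Summand
import Groth.Agent.FlatMor68.LocFree
import Groth.Agent.Mod48.ExactDerived
import Mathlib.Algebra.Homology.DerivedCategory.SingleTriangle
import Mathlib.Algebra.Homology.DerivedCategory.FullyFaithful

/-!
# Perfect objects: triangles and retracts
-/

set_option autoImplicit false
set_option backward.isDefEq.respectTransparency false

noncomputable section

universe u

open CategoryTheory Limits AlgebraicGeometry TopologicalSpace Opposite Pretriangulated DerivedCategory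

attribute [local instance] HasDerivedCategory.standard

namespace Groth.Agent.DCX42

variable {U V X : Scheme.{u}}

/-- A direct summand of a finite free module is finite locally free. -/
lemma isFinLocFree_of_retract {M : X.Modules} {n : ℕ} (s : M ⟶ FlatMod.freeMod X n)
    (p : FlatMod.freeMod X n ⟶ M) (h : s ≫ p = 𝟙 M) : FlatMod.IsFinLocFree M := by
  let S := ShortComplex.mk (kernel.ι p) p (kernel.condition p)
  let sp : S.Splitting := ShortComplex.Splitting.ofExactOfSection S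
    (ShortComplex.exact_of_f_is_kernel _ (kernelIsKernel p)) s h inferInstance
  exact FlatMor68.LocFree.t5626 M (kernel p) n ((biprod.braiding _ _) ≪≫ sp.isoBinaryBiproduct.symm)

lemma isPerfect_of_iso {K L : DCoh.D X} (e : K ≅ L) (h : DCoh.IsPerfect K) : DCoh.IsPerfect L := by
  rw [isPerfect_iff] at h ⊢
  intro x
  obtain ⟨V, hx, hV⟩ := h x
  exact ⟨V, hx, hV.of_iso ((resD V.ι).mapIso e)⟩

lemma HasPerfRep.shift {K : DCoh.D X} (h : HasPerfRep K) (n : ℤ) : HasPerfRep (K⟦n⟧) := by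
  obtain ⟨E, hE, ⟨e⟩⟩ := h
  exact ⟨E⟦n⟧, isStrictlyPerfect_shift hE n, ⟨(shiftFunctor _ n).mapIso e ≪≫ (Q.commShiftIso n).symm.app E⟩⟩

lemma isPerfect_shift {K : DCoh.D X} (h : DCoh.IsPerfect K) (n : ℤ) : DCoh.IsPerfect (K⟦n⟧) := by
  rw [isPerfect_iff] at h ⊢
  intro x
  obtain ⟨V, hx, hV⟩ := h x
  exact ⟨V, hx, (hV.shift n).of_iso (((resD V.ι).commShiftIso n).app K).symm⟩

/-- The key case of two out of three. -/
theorem loc_perfRep_cone {K L M : DCoh.D X} (f : K ⟶ L) (g : L ⟶ M) (h : M ⟶ K⟦(1 : ℤ)⟧)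
    (hT : Triangle.mk f g h ∈ distinguishedTriangles) (hK : HasPerfRep K) (hL : HasPerfRep L) :
    Loc (fun {_} A => HasPerfRep A) M := by
  intro x
  obtain ⟨E, hE, ⟨e⟩⟩ := hK
  obtain ⟨E', hE', ⟨e'⟩⟩ := hL
  obtain ⟨W, δ, hx, hδ⟩ := exists_rep hE (e.inv ≫ f ≫ e'.hom) x
  let P := resD W.ι
  have hA : Triangle.mk (Q.map δ) (Q.map (CochainComplex.mappingCone.inr δ))
      (Q.mapTriangle.obj (CochainComplex.mappingCone.triangle δ)).mor₃ ∈ distinguishedTriangles :=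
    (DerivedCategory.mem_distTriang_iff _).2 ⟨_, _, _, ⟨Iso.refl _⟩⟩
  let e₁ := P.mapIso e ≪≫ resQ W.ι E
  let e₂ := P.mapIso e' ≪≫ resQ W.ι E'
  have comm : P.map f ≫ e₂.hom = e₁.hom ≫ Q.map δ := by
    simp only [e₁, e₂, Iso.trans_hom, Functor.mapIso_hom, Category.assoc]
    have hδ' : P.map (e.inv ≫ f ≫ e'.hom) ≫ (resQ W.ι E').hom = (resQ W.ι E).hom ≫ Q.map δ := by
      rw [hδ]
      simp [resQ]
    rw [← hδ', ← Functor.map_comp_assoc, ← Functor.map_comp_assoc, Iso.hom_inv_id_assoc]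
  obtain ⟨e₃, -, -⟩ : ∃ (e₃ : ((P.mapTriangle.obj (Triangle.mk f g h)).obj₃ ≅ Q.obj (CochainComplex.mappingCone δ))),
      True ∧ True :=
    ⟨Triangle.π₃.mapIso (isoTriangleOfIso₁₂ _ _ (P.map_distinguished _ hT) hA e₁ e₂ comm), trivial, trivial⟩
  exact ⟨W, hx, CochainComplex.mappingCone δ,
    isStrictlyPerfect_cone δ (isStrictlyPerfect_restrict hE W.ι) (isStrictlyPerfect_restrict hE' W.ι), ⟨e₃⟩⟩

/-- Two out of three, third object. -/
theorem isPerfect₃ (T : Triangle (DCoh.D X)) (hT : T ∈ distinguishedTriangles)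
    (h₁ : DCoh.IsPerfect T.obj₁) (h₂ : DCoh.IsPerfect T.obj₂) : DCoh.IsPerfect T.obj₃ := by
  rw [isPerfect_iff] at h₁ h₂ ⊢
  intro x
  obtain ⟨V₁, hx₁, hV₁⟩ := h₁ x
  obtain ⟨V₂, hx₂, hV₂⟩ := h₂ x
  let V := V₁ ⊓ V₂
  have hK := exists_inf (P := fun {_} A => HasPerfRep A) (fun h e => h.of_iso e)
    (fun j _ h => h.restrict j) _ (inf_le_left : V ≤ V₁) hV₁
  have hL := exists_inf (P := fun {_} A => HasPerfRep A) (fun h e => h.of_iso e)
    (fun j _ h => h.restrict j) _ (inf_le_right : V ≤ V₂) hV₂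
  obtain ⟨W, hxW, hW⟩ := loc_perfRep_cone _ _ _ ((resD V.ι).map_distinguished _ hT) hK hL
    (⟨x, hx₁, hx₂⟩ : V)
  exact exists_open_of_pieces (P := fun {_} A => HasPerfRep A) (fun h e => h.of_iso e)
    (fun j _ h => h.restrict j) _ V W (show x ∈ V from ⟨hx₁, hx₂⟩) hxW hW

/-- Two out of three, second object. -/
theorem isPerfect₂ (T : Triangle (DCoh.D X)) (hT : T ∈ distinguishedTriangles)
    (h₁ : DCoh.IsPerfect T.obj₁) (h₃ : DCoh.IsPerfect T.obj₃) : DCoh.IsPerfect T.obj₂ :=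
  isPerfect₃ T.invRotate (inv_rot_of_distTriang _ hT) (isPerfect_shift h₃ (-1)) h₁

/-- Two out of three, first object. -/
theorem isPerfect₁ (T : Triangle (DCoh.D X)) (hT : T ∈ distinguishedTriangles)
    (h₂ : DCoh.IsPerfect T.obj₂) (h₃ : DCoh.IsPerfect T.obj₃) : DCoh.IsPerfect T.obj₁ :=
  isPerfect₂ T.invRotate (inv_rot_of_distTriang _ hT) (isPerfect_shift h₃ (-1)) h₂

/-- The top cohomology of a strictly perfect complex is locally a quotient of a finite free module. -/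
theorem exists_epi_homology {E : CochainComplex X.Modules ℤ} (hE : DCoh.IsStrictlyPerfect E) (m : ℤ)
    (hex : ∀ i, m < i → E.ExactAt i) (x : X) :
    ∃ (W : X.Opens) (n : ℕ) (π : FlatMod.freeMod W n ⟶ ((resCx W.ι).obj E).homology m),
      x ∈ W ∧ Epi π := by
  obtain ⟨W₁, hx₁, hfree⟩ := exists_termFree hE x
  let E₁ := (resCx W₁.ι).obj E
  obtain ⟨T, hxT, ⟨H⟩⟩ := exists_null (σIncl E₁ (m + 1))
    (isStrictlyPerfect_σGE (isStrictlyPerfect_restrict hE W₁.ι) _) (m + 1)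
    (fun i hi => isZero_σX E₁ (m + 1) hi) (fun i hi => exactAt_resCx W₁.ι (hex i (by omega))) ⟨x, hx₁⟩
  let G := Scheme.Modules.restrictFunctor T.ι
  let E₂ := (resCx T.ι).obj E₁
  have : IsIso (((resCx T.ι).map (σIncl E₁ (m + 1))).f (m + 1)) := by
    have := isIso_σIncl_f E₁ (m + 1) (le_refl (m + 1))
    exact inferInstanceAs (IsIso (G.map _))
  have : IsIso (((resCx T.ι).map (σIncl E₁ (m + 1))).f (m + 1 + 1)) := by
    have := isIso_σIncl_f E₁ (m + 1) (show m + 1 ≤ m + 1 + 1 by omega)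
    exact inferInstanceAs (IsIso (G.map _))
  let ι₁ := asIso (((resCx T.ι).map (σIncl E₁ (m + 1))).f (m + 1))
  let ι₂ := asIso (((resCx T.ι).map (σIncl E₁ (m + 1))).f (m + 1 + 1))
  have hH := H.comm (m + 1)
  rw [HomologicalComplex.zero_f_apply, add_zero,
    dNext_eq _ (show (ComplexShape.up ℤ).Rel (m + 1) (m + 1 + 1) from rfl),
    prevD_eq _ (show (ComplexShape.up ℤ).Rel m (m + 1) from rfl)] at hH
  let q : E₂.X m ⟶ E₂.X m := 𝟙 _ - E₂.d m (m + 1) ≫ ι₁.inv ≫ H.hom (m + 1) m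
  have hd : ι₁.inv ≫ ((resCx T.ι).obj (σGE E₁ (m + 1))).d (m + 1) (m + 1 + 1) =
      E₂.d (m + 1) (m + 1 + 1) ≫ ι₂.inv := by
    rw [Iso.inv_comp_eq, ← Category.assoc, Iso.eq_comp_inv]
    exact (((resCx T.ι).map (σIncl E₁ (m + 1))).comm (m + 1) (m + 1 + 1)).symm
  have hq : q ≫ E₂.d m (m + 1) = 0 := by
    simp only [q, Preadditive.sub_comp, Category.id_comp, Category.assoc]
    have e : H.hom (m + 1) m ≫ E₂.d m (m + 1) = ι₁.hom -
        ((resCx T.ι).obj (σGE E₁ (m + 1))).d (m + 1) (m + 1 + 1) ≫ H.hom (m + 1 + 1) (m + 1) :=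
      eq_sub_of_add_eq' hH.symm
    rw [e, Preadditive.comp_sub, Iso.inv_hom_id, reassoc_of% hd, Preadditive.comp_sub, Category.comp_id,
      HomologicalComplex.d_comp_d_assoc, zero_comp, sub_zero, sub_self]
  let p := E₂.liftCycles q (m + 1) (by simp) hq
  have hp : E₂.iCycles m ≫ p = 𝟙 _ := by
    rw [← cancel_mono (E₂.iCycles m), Category.assoc, HomologicalComplex.liftCycles_i, Category.id_comp]
    simp [q, Preadditive.comp_sub]
  have : IsSplitEpi p := ⟨⟨⟨E₂.iCycles m, hp⟩⟩⟩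
  obtain ⟨n, ⟨e⟩⟩ := (hfree.restrict T.ι) m
  obtain ⟨i, _, hi⟩ := exists_opens_iso (T.ι ≫ W₁.ι)
  let e' : (resCx i).obj E₂ ≅ (resCx (T.ι ≫ W₁.ι).opensRange.ι).obj E :=
    (resCx i).mapIso ((resCompCx T.ι W₁.ι).app E) ≪≫ (resCompCx i (T.ι ≫ W₁.ι)).app E ≪≫ (resCongrCx hi).app E
  let π : FlatMod.freeMod _ n ⟶ ((resCx i).obj E₂).homology m :=
    (LF71.restrictFree i n).inv ≫ (Scheme.Modules.restrictFunctor i).map (e.inv ≫ p ≫ E₂.homologyπ m) ≫
      (Mod48.mapHomologyIsoCx (Scheme.Modules.restrictFunctor i) E₂ m).inv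
  have : Epi π := by
    have : Epi (p ≫ E₂.homologyπ m) := epi_comp _ _
    have : Epi (e.inv ≫ p ≫ E₂.homologyπ m) := epi_comp _ _
    have : Epi ((Scheme.Modules.restrictFunctor i).map (e.inv ≫ p ≫ E₂.homologyπ m)) := inferInstance
    exact inferInstanceAs (Epi (_ ≫ _ ≫ _))
  exact ⟨_, n, π ≫ HomologicalComplex.homologyMap e'.hom m, mem_opensRange W₁ T hx₁ hxT, epi_comp _ _⟩

end Groth.Agent.DCX42
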