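import Groth.Agent.CohDer42.DerProd
import Groth.Agent.CohDer42.KInj
import Mathlib.CategoryTheory.Abelian.GrothendieckCategory.Basic
import Mathlib.CategoryTheory.Abelian.GrothendieckAxioms.Basic
import Mathlib.Algebra.Homology.ShortComplex.PreservesHomology
import Mathlib.Algebra.Homology.HomologicalComplexLimits
import Mathlib.CategoryTheory.Abelian.FunctorCategory

/-!
# Coproducts in the derived category and cohomology
-/

set_option autoImplicit false
set_option backward.isDefEq.respectTransparency false

universe w v u

open CategoryTheory Limits HomologicalComplex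

noncomputable section

namespace Groth.Agent.DCX42

variable {A : Type u} [Category.{v} A] [Abelian A] [IsGrothendieckAbelian.{v} A] {ι : Type v}

/-- The complex of families attached to a family of complexes. -/
def famCx (X : ι → CochainComplex A ℤ) : CochainComplex (Discrete ι ⥤ A) ℤ where
  X n := Discrete.functor fun i => (X i).X n
  d m n := Discrete.natTrans fun i => (X i.as).d m n
  shape m n h := by
    ext i
    exact (X i.as).shape m n h
  d_comp_d' m n p _ _ := by
    ext i
    exact (X i.as).d_comp_d m n p

/-- Coproducts of complexes are formed termwise. -/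
def coprodCxIso (X : ι → CochainComplex A ℤ) :
    (colim.mapHomologicalComplex (ComplexShape.up ℤ)).obj (famCx X) ≅ ∐ X :=
  HomologicalComplex.Hom.isoOfComponents
    (fun n => asIso (sigmaComparison (HomologicalComplex.eval A (ComplexShape.up ℤ) n) X))
    fun m n _ => by
      refine colimit.hom_ext fun ⟨i⟩ => ?_
      have h : Sigma.ι (fun i => (X i).X m) i ≫ sigmaComparison (eval A (ComplexShape.up ℤ) m) X =
          (Sigma.ι X i).f m := ι_comp_sigmaComparison (eval A (ComplexShape.up ℤ) m) X i
      have h' : Sigma.ι (fun i => (X i).X n) i ≫ sigmaComparison (eval A (ComplexShape.up ℤ) n) X =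
          (Sigma.ι X i).f n := ι_comp_sigmaComparison (eval A (ComplexShape.up ℤ) n) X i
      have hd : colimit.ι (Discrete.functor fun i => (X i).X m) ⟨i⟩ ≫ colimMap ((famCx X).d m n) =
          (X i).d m n ≫ colimit.ι (Discrete.functor fun i => (X i).X n) ⟨i⟩ := ι_colimMap _ _
      change Sigma.ι (fun i => (X i).X m) i ≫ sigmaComparison (eval A (ComplexShape.up ℤ) m) X ≫ (∐ X).d m n =
        Sigma.ι (fun i => (X i).X m) i ≫ colimMap ((famCx X).d m n) ≫
          sigmaComparison (eval A (ComplexShape.up ℤ) n) X
      rw [reassoc_of% h, reassoc_of% hd]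
      exact ((Sigma.ι X i).comm m n).trans (congrArg ((X i).d m n ≫ ·) h'.symm)

/-- Cohomology commutes with coproducts. -/
theorem nonempty_homology_coprod (X : ι → CochainComplex A ℤ) (n : ℤ) :
    Nonempty ((∐ X).homology n ≅ ∐ fun i => (X i).homology n) := by
  let H := (famCx X).homology n
  let e : ∀ i, H.obj ⟨i⟩ ≅ (X i).homology n := fun i =>
    (((famCx X).sc n).mapHomologyIso ((evaluation (Discrete ι) A).obj ⟨i⟩)).symm
  have : HasExactColimitsOfShape (Discrete ι) A := inferInstance
  exact ⟨(HomologicalComplex.homologyFunctor _ _ n).mapIso (coprodCxIso X).symm ≪≫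
    ((famCx X).sc n).mapHomologyIso (colim (J := Discrete ι) (C := A)) ≪≫
    (colim (J := Discrete ι) (C := A)).mapIso (Discrete.natIso fun i => e i.as)⟩

variable [HasDerivedCategory.{w} A]

/-- The coproduct of complexes is the coproduct in the derived category. -/
theorem nonempty_isColimit_Q (X : ι → CochainComplex A ℤ) :
    Nonempty (IsColimit (Cofan.mk (DerivedCategory.Q.obj (∐ X))
      (fun i => DerivedCategory.Q.map (Sigma.ι X i)))) := by
  have hu : ∀ (T : DerivedCategory A) (φ : ∀ i, DerivedCategory.Q.obj (X i) ⟶ T),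
      ∃! m : DerivedCategory.Q.obj (∐ X) ⟶ T,
        ∀ i, DerivedCategory.Q.map (Sigma.ι X i) ≫ m = φ i := by
    intro T φ
    obtain ⟨J, f, hJ, hf, -⟩ := CohDer42.exists_kinjective_resolution (DerivedCategory.Q.objPreimage T)
    have := hJ
    let e : DerivedCategory.Q.obj J ≅ T := (asIso (DerivedCategory.Q.map f)).symm ≪≫
      DerivedCategory.Q.objObjPreimageIso T
    choose g hg using fun i => CohDer42.Q_map_surjective_of_isKInjective (φ i ≫ e.inv)
    refine ⟨DerivedCategory.Q.map (Sigma.desc g) ≫ e.hom, fun i => ?_, fun m hm => ?_⟩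
    · rw [← Functor.map_comp_assoc, Sigma.ι_desc, hg, Category.assoc, e.inv_hom_id, Category.comp_id]
    · obtain ⟨h, hh⟩ := CohDer42.Q_map_surjective_of_isKInjective (m ≫ e.inv)
      have : DerivedCategory.Q.map h = DerivedCategory.Q.map (Sigma.desc g) :=
        CohDer42.Q_map_eq_of_forall_sigma fun i => by
          rw [Functor.map_comp, hh, ← Category.assoc, hm, Sigma.ι_desc, hg]
      rw [← this, hh, Category.assoc, e.inv_hom_id, Category.comp_id]
  exact ⟨mkCofanColimit _ (fun s => (hu s.pt s.inj).choose)
      (fun s => (hu s.pt s.inj).choose_spec.1)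
      (fun s m hm => (hu s.pt s.inj).choose_spec.2 m hm)⟩

/-- Cohomology commutes with coproducts in the derived category. -/
theorem nonempty_HD_coprod (K : ι → DerivedCategory A) [HasCoproduct K] (n : ℤ) :
    Nonempty ((DerivedCategory.homologyFunctor A n).obj (∐ K) ≅
      ∐ fun i => (DerivedCategory.homologyFunctor A n).obj (K i)) := by
  let X := fun i => DerivedCategory.Q.objPreimage (K i)
  let e := fun i => DerivedCategory.Q.objObjPreimageIso (K i)
  obtain ⟨hc⟩ := nonempty_isColimit_Q X
  let E : ∐ K ≅ DerivedCategory.Q.obj (∐ X) :=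
    ((hc.coconePointsIsoOfNatIso (colimit.isColimit (Discrete.functor K))
      (Discrete.natIso fun i => e i.as)).symm)
  obtain ⟨h⟩ := nonempty_homology_coprod X n
  exact ⟨(DerivedCategory.homologyFunctor A n).mapIso E ≪≫
    (DerivedCategory.homologyFunctorFactors A n).app (∐ X) ≪≫ h ≪≫
    Sigma.mapIso fun i => ((DerivedCategory.homologyFunctorFactors A n).app (X i)).symm ≪≫
      (DerivedCategory.homologyFunctor A n).mapIso (e i)⟩

end Groth.Agent.DCX42
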