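import Groth.Agent.DCX42.MV

/-!
Mayer-Vietoris triangles.
-/

set_option autoImplicit false
set_option backward.isDefEq.respectTransparency false

noncomputable section

universe w v u u'

open CategoryTheory Limits AlgebraicGeometry TopologicalSpace Opposite Pretriangulated DerivedCategory
attribute [local instance] HasDerivedCategory.standard

namespace Groth.Agent.DCX42

section General

variable {C : Type u'} [Category.{v} C] [Abelian C] [HasDerivedCategory.{w} C]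

lemma exists_triangle_of_iso {T : Triangle (DerivedCategory C)} (hT : T ∈ distinguishedTriangles)
    {A B B' Z : DerivedCategory C} (e₁ : T.obj₁ ≅ A) (e₂ : T.obj₂ ≅ B ⊞ B') (e₃ : T.obj₃ ≅ Z) :
    ∃ (a : A ⟶ B ⊞ B') (b : B ⊞ B' ⟶ Z) (c : Z ⟶ A⟦(1 : ℤ)⟧),
      Triangle.mk a b c ∈ distinguishedTriangles := by
  refine ⟨e₁.inv ≫ T.mor₁ ≫ e₂.hom, e₂.inv ≫ T.mor₂ ≫ e₃.hom,
    e₃.inv ≫ T.mor₃ ≫ e₁.hom⟦(1 : ℤ)⟧', isomorphic_distinguished _ hT _
    (Triangle.isoMk _ _ e₁.symm e₂.symm e₃.symm ?_ ?_ ?_)⟩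
  · simp
  · simp
  · simp [← Functor.map_comp]

end General

section Model

variable {X Y : Scheme.{u}}

/-- K-injective models. -/
lemma exists_kinj (E : DCoh.D X) :
    ∃ I : CochainComplex X.Modules ℤ, I.IsKInjective ∧ Nonempty (Q.obj I ≅ E) := by
  obtain ⟨I, hI, ⟨e⟩⟩ := Mod48.exists_Qh_iso_kInjective X.Modules CohDer42.RdAdj.enoughKInj E
  exact ⟨I, hI, ⟨((quotientCompQhIso X.Modules).app I).symm ≪≫ e⟩⟩

lemma nonempty_Rpush_model (f : X ⟶ Y) [DCoh.HasRpush f] (I : CochainComplex X.Modules ℤ) (hI : I.IsKInjective) :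
    Nonempty ((DCoh.Rpush f).obj (Q.obj I) ≅
      Q.obj (((Scheme.Modules.pushforward f).mapHomologicalComplex (ComplexShape.up ℤ)).obj I)) := by
  have := isIso_pushUnit f I hI
  exact ⟨(DCoh.Rpush f).mapIso ((quotientCompQhIso X.Modules).app I).symm ≪≫
    (asIso (((DCoh.pushKh f).totalRightDerivedUnit DerivedCategory.Qh
      (HomotopyCategory.quasiIso X.Modules (ComplexShape.up ℤ))).app
        ((HomotopyCategory.quotient X.Modules (ComplexShape.up ℤ)).obj I))).symm ≪≫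
    DerivedCategory.Qh.mapIso (((Scheme.Modules.pushforward f).mapHomotopyCategoryFactors (ComplexShape.up ℤ)).app I) ≪≫
    (quotientCompQhIso Y.Modules).app _⟩

lemma nonempty_RΓ_model [DCoh.HasRΓ X] (I : CochainComplex X.Modules ℤ) (hI : I.IsKInjective) :
    Nonempty ((DCoh.RΓ X).obj (Q.obj I) ≅
      Q.obj (((DCoh.gammaAb X).mapHomologicalComplex (ComplexShape.up ℤ)).obj I)) := by
  have : IsIso (((DCoh.gammaKh X).totalRightDerivedUnit DerivedCategory.Qh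
      (HomotopyCategory.quasiIso X.Modules (ComplexShape.up ℤ))).app
        ((HomotopyCategory.quotient X.Modules (ComplexShape.up ℤ)).obj I)) :=
    Mod48.isIso_unit_of_kInjective _ _ CohDer42.RdAdj.enoughKInj I hI
  exact ⟨(DCoh.RΓ X).mapIso ((quotientCompQhIso X.Modules).app I).symm ≪≫
    (asIso (((DCoh.gammaKh X).totalRightDerivedUnit DerivedCategory.Qh
      (HomotopyCategory.quasiIso X.Modules (ComplexShape.up ℤ))).app
        ((HomotopyCategory.quotient X.Modules (ComplexShape.up ℤ)).obj I))).symm ≪≫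
    DerivedCategory.Qh.mapIso (((DCoh.gammaAb X).mapHomotopyCategoryFactors (ComplexShape.up ℤ)).app I) ≪≫
    (quotientCompQhIso AddCommGrpCat.{u}).app _⟩

lemma isKInjective_openPush (U : X.Opens) (I : CochainComplex X.Modules ℤ) (hI : I.IsKInjective) :
    CochainComplex.IsKInjective (((Scheme.Modules.pushforward U.ι).mapHomologicalComplex (ComplexShape.up ℤ)).obj
      ((resCx U.ι).obj I)) :=
  isKInjective_pushforward U.ι _ (isKInjective_restrict U.ι I hI)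

lemma nonempty_Rpush_restrict_model (U : X.Opens) [DCoh.HasRpush U.ι]
    [PreservesFiniteLimits (Scheme.Modules.restrictFunctor U.ι)]
    (I : CochainComplex X.Modules ℤ) (hI : I.IsKInjective) :
    Nonempty ((DCoh.Rpush U.ι).obj ((DCoh.restrictD U.ι).obj (Q.obj I)) ≅
      Q.obj (((openPush U).mapHomologicalComplex (ComplexShape.up ℤ)).obj I)) := by
  obtain ⟨e⟩ := nonempty_Rpush_model U.ι ((resCx U.ι).obj I) (isKInjective_restrict U.ι I hI)
  exact ⟨(DCoh.Rpush U.ι).mapIso ((Scheme.Modules.restrictFunctor U.ι).mapDerivedCategoryFactors.app I) ≪≫ e ≪≫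
    Q.mapIso (HomologicalComplex.Hom.isoOfComponents (fun _ => Iso.refl _) (by intros; simp))⟩

/-- The Mayer-Vietoris triangle. -/
theorem exists_mv_triangle (U V : X.Opens) (hUV : U ⊔ V = ⊤)
    [DCoh.HasRpush U.ι] [DCoh.HasRpush V.ι] [DCoh.HasRpush (U ⊓ V).ι]
    [PreservesFiniteLimits (Scheme.Modules.restrictFunctor U.ι)]
    [PreservesFiniteLimits (Scheme.Modules.restrictFunctor V.ι)]
    [PreservesFiniteLimits (Scheme.Modules.restrictFunctor (U ⊓ V).ι)] (E : DCoh.D X) :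
    ∃ (a : E ⟶ ((DCoh.Rpush U.ι).obj ((DCoh.restrictD U.ι).obj E) ⊞ (DCoh.Rpush V.ι).obj ((DCoh.restrictD V.ι).obj E)))
      (b : ((DCoh.Rpush U.ι).obj ((DCoh.restrictD U.ι).obj E) ⊞ (DCoh.Rpush V.ι).obj ((DCoh.restrictD V.ι).obj E)) ⟶
        (DCoh.Rpush (U ⊓ V).ι).obj ((DCoh.restrictD (U ⊓ V).ι).obj E))
      (c : (DCoh.Rpush (U ⊓ V).ι).obj ((DCoh.restrictD (U ⊓ V).ι).obj E) ⟶ E⟦(1 : ℤ)⟧),
      Triangle.mk a b c ∈ distinguishedTriangles := by
  obtain ⟨I, hI, ⟨e⟩⟩ := exists_kinj E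
  obtain ⟨T, hT, ⟨i₁⟩, ⟨i₂⟩, ⟨i₃⟩⟩ := exists_triangle_mv (openUnit U) (openUnit V)
    (openRes inf_le_left) (openRes inf_le_right) (openUnit_openRes_eq U V) (shortExact_mv hUV) I
  obtain ⟨eU⟩ := nonempty_Rpush_restrict_model U I hI
  obtain ⟨eV⟩ := nonempty_Rpush_restrict_model V I hI
  obtain ⟨eW⟩ := nonempty_Rpush_restrict_model (U ⊓ V) I hI
  exact exists_triangle_of_iso hT (i₁ ≪≫ e)
    (i₂ ≪≫ biprod.mapIso (eU.symm ≪≫ (DCoh.restrictD U.ι ⋙ DCoh.Rpush U.ι).mapIso e)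
      (eV.symm ≪≫ (DCoh.restrictD V.ι ⋙ DCoh.Rpush V.ι).mapIso e))
    (i₃ ≪≫ eW.symm ≪≫ (DCoh.restrictD (U ⊓ V).ι ⋙ DCoh.Rpush (U ⊓ V).ι).mapIso e)

/-- Global sections of `Rj_*(E|_U)`. -/
lemma nonempty_RΓ_Rpush_restrict (U : X.Opens) [DCoh.HasRpush U.ι] [DCoh.HasRΓ X] [DCoh.HasRΓ (U : Scheme.{u})]
    [PreservesFiniteLimits (Scheme.Modules.restrictFunctor U.ι)] (E : DCoh.D X) :
    Nonempty ((DCoh.RΓ X).obj ((DCoh.Rpush U.ι).obj ((DCoh.restrictD U.ι).obj E)) ≅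
      (DCoh.RΓ (U : Scheme.{u})).obj ((DCoh.restrictD U.ι).obj E)) := by
  obtain ⟨I, hI, ⟨e⟩⟩ := exists_kinj E
  obtain ⟨eP⟩ := nonempty_Rpush_model U.ι ((resCx U.ι).obj I) (isKInjective_restrict U.ι I hI)
  obtain ⟨eX⟩ := nonempty_RΓ_model _ (isKInjective_openPush U I hI)
  obtain ⟨eU⟩ := nonempty_RΓ_model _ (isKInjective_restrict U.ι I hI)
  let f := (DCoh.restrictD U.ι).mapIso e.symm ≪≫
    (Scheme.Modules.restrictFunctor U.ι).mapDerivedCategoryFactors.app I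
  exact ⟨(DCoh.RΓ X).mapIso ((DCoh.Rpush U.ι).mapIso f ≪≫ eP) ≪≫ eX ≪≫
    Q.mapIso (HomologicalComplex.Hom.isoOfComponents (fun _ => Iso.refl _)
      (by intros; exact (Category.id_comp _).trans (Category.comp_id _).symm)) ≪≫ eU.symm ≪≫
    (DCoh.RΓ (U : Scheme.{u})).mapIso f.symm⟩

/-- The adjunction `j_!(-|_U) ⊣ j_*(-|_U)`. -/
abbrev openAdj (U : X.Opens) : Scheme.Modules.restrictFunctor U.ι ⋙ CxOX.extZero U.ι ⊣ openPush U :=
  (Scheme.Modules.restrictAdjunction U.ι).comp (CxOX.extZeroAdj U.ι)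

instance additive_extZero (U : X.Opens) : (CxOX.extZero U.ι).Additive :=
  (CxOX.extZeroAdj U.ι).left_adjoint_additive

lemma nonempty_extZeroD_restrict_model (U : X.Opens) [PreservesFiniteLimits (CxOX.extZero U.ι)]
    (F : CochainComplex X.Modules ℤ) :
    Nonempty ((CxOX.extZeroD U.ι).obj ((DCoh.restrictD U.ι).obj (Q.obj F)) ≅
      Q.obj (((Scheme.Modules.restrictFunctor U.ι ⋙ CxOX.extZero U.ι).mapHomologicalComplex
        (ComplexShape.up ℤ)).obj F)) :=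
  ⟨(CxOX.extZeroD U.ι).mapIso ((Scheme.Modules.restrictFunctor U.ι).mapDerivedCategoryFactors.app F) ≪≫
    (CxOX.extZero U.ι).mapDerivedCategoryFactors.app _ ≪≫
    Q.mapIso (HomologicalComplex.Hom.isoOfComponents (fun _ => Iso.refl _)
      (by intros; exact (Category.id_comp _).trans (Category.comp_id _).symm))⟩

/-- Pushing a Mayer-Vietoris triangle along a derived functor. -/
lemma exists_triangle_push {B : Type u'} [Category.{v} B] [Abelian B] [HasDerivedCategory.{w} B]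
    {R : X.Modules ⥤ B} [R.Additive] (RF : DCoh.D X ⥤ DerivedCategory B)
    (α : R.mapHomotopyCategory (ComplexShape.up ℤ) ⋙ Qh ⟶ Qh ⋙ RF)
    (hα : ∀ I : CochainComplex X.Modules ℤ, I.IsKInjective →
      IsIso (α.app ((HomotopyCategory.quotient X.Modules (ComplexShape.up ℤ)).obj I)))
    {A P P' Z : DCoh.D X} {a : A ⟶ P ⊞ P'} {b : P ⊞ P' ⟶ Z} {c : Z ⟶ A⟦(1 : ℤ)⟧}
    (hT : Triangle.mk a b c ∈ distinguishedTriangles) {A₁ P₁ P₁' Z₁ : DerivedCategory B}
    (eA : RF.obj A ≅ A₁) (eP : RF.obj P ≅ P₁) (eP' : RF.obj P' ≅ P₁') (eZ : RF.obj Z ≅ Z₁) :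
    ∃ (a : A₁ ⟶ P₁ ⊞ P₁') (b : P₁ ⊞ P₁' ⟶ Z₁) (c : Z₁ ⟶ A₁⟦(1 : ℤ)⟧),
      Triangle.mk a b c ∈ distinguishedTriangles := by
  have hA := CohDer42.RdAdj.enoughKInj (A := X.Modules)
  have := CohDer42.RlimRight.additive_push RF α hα hA
  obtain ⟨c', hc'⟩ := CohDer42.RlimRight.exists_distinguished_push RF α hα hA a b c hT
  have : PreservesBinaryBiproducts RF := preservesBinaryBiproducts_of_preservesBiproducts _
  exact exists_triangle_of_iso hc' eA (RF.mapBiprod P P' ≪≫ biprod.mapIso eP eP') eZ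

end Model

end Groth.Agent.DCX42
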