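import Groth.Prelude.Def_DCoh2
import Groth.Agent.ZClos93.Exact
import Groth.Agent.LF71.Restrict
import Mathlib.Data.Int.Interval

/-!
# Restriction of complexes of modules along open immersions
-/

set_option autoImplicit false
set_option backward.isDefEq.respectTransparency false

noncomputable section

universe u

open CategoryTheory Limits AlgebraicGeometry TopologicalSpace Opposite

namespace Groth.Agent.DCX42

variable {U V X : Scheme.{u}}

instance preservesFiniteLimits_restrict (j : U ⟶ X) [IsOpenImmersion j] :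
    PreservesFiniteLimits (Scheme.Modules.restrictFunctor j) :=
  ZClos93.preservesFiniteLimits_restrictFunctor j

instance preservesFiniteColimits_restrict (j : U ⟶ X) [IsOpenImmersion j] :
    PreservesFiniteColimits (Scheme.Modules.restrictFunctor j) :=
  PreservesColimitsOfSize.preservesFiniteColimits.{0, 0} _

/-- Restriction of complexes along an open immersion. -/
abbrev resCx (j : U ⟶ X) [IsOpenImmersion j] :
    CochainComplex X.Modules ℤ ⥤ CochainComplex U.Modules ℤ :=
  (Scheme.Modules.restrictFunctor j).mapHomologicalComplex (ComplexShape.up ℤ)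

/-- Restriction along a composite. -/
def resCompCx (i : V ⟶ U) (j : U ⟶ X) [IsOpenImmersion i] [IsOpenImmersion j] :
    resCx j ⋙ resCx i ≅ resCx (i ≫ j) :=
  Functor.mapHomologicalComplexCompIso (Scheme.Modules.restrictFunctorComp i j).symm _

/-- Restriction along equal immersions. -/
def resCongrCx {i j : U ⟶ X} (h : i = j) [IsOpenImmersion i] [IsOpenImmersion j] :
    resCx i ≅ resCx j :=
  NatIso.mapHomologicalComplex (Scheme.Modules.restrictFunctorCongr h) _

lemma isFinLocFree_of_iso {M N : X.Modules} (e : M ≅ N) (h : FlatMod.IsFinLocFree M) :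
    FlatMod.IsFinLocFree N := fun x => by
  obtain ⟨W, n, hx, ⟨i⟩⟩ := h x
  exact ⟨W, n, hx, ⟨((Scheme.Modules.restrictFunctor W.ι).mapIso e).symm ≪≫ i⟩⟩

/-- The terms of the complex are free of finite rank. -/
def IsTermFree (E : CochainComplex X.Modules ℤ) : Prop :=
  ∀ i : ℤ, ∃ n : ℕ, Nonempty (E.X i ≅ FlatMod.freeMod X n)

lemma isFree_restrict {M : X.Modules} {n : ℕ} (e : M ≅ FlatMod.freeMod X n) (j : U ⟶ X)
    [IsOpenImmersion j] :
    Nonempty ((Scheme.Modules.restrictFunctor j).obj M ≅ FlatMod.freeMod U n) :=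
  ⟨(Scheme.Modules.restrictFunctor j).mapIso e ≪≫ LF71.restrictFree j n⟩

lemma IsTermFree.restrict {E : CochainComplex X.Modules ℤ} (h : IsTermFree E) (j : U ⟶ X)
    [IsOpenImmersion j] : IsTermFree ((resCx j).obj E) := fun i => by
  obtain ⟨n, ⟨e⟩⟩ := h i
  exact ⟨n, isFree_restrict e j⟩

lemma isFinLocFree_restrict {M : X.Modules} (h : FlatMod.IsFinLocFree M) (j : U ⟶ X)
    [IsOpenImmersion j] : FlatMod.IsFinLocFree ((Scheme.Modules.restrictFunctor j).obj M) := fun x => by
  obtain ⟨W, n, hx, ⟨e⟩⟩ := h (j x)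
  have hr : Set.range ((j ⁻¹ᵁ W).ι ≫ j) ⊆ Set.range W.ι := by
    rintro _ ⟨a, rfl⟩
    rw [Scheme.Opens.range_ι]
    exact a.2
  let g := IsOpenImmersion.lift W.ι ((j ⁻¹ᵁ W).ι ≫ j) hr
  have hg : g ≫ W.ι = (j ⁻¹ᵁ W).ι ≫ j := IsOpenImmersion.lift_fac _ _ _
  have : IsOpenImmersion g := by
    have : IsOpenImmersion (g ≫ W.ι) := by rw [hg]; infer_instance
    exact IsOpenImmersion.of_comp g W.ι
  obtain ⟨e'⟩ := isFree_restrict e g
  refine ⟨j ⁻¹ᵁ W, n, hx, ⟨?_ ≪≫ e'⟩⟩
  exact (Scheme.Modules.restrictFunctorComp _ j).symm.app M ≪≫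
    (Scheme.Modules.restrictFunctorCongr hg.symm).app M ≪≫
    (Scheme.Modules.restrictFunctorComp g W.ι).app M

lemma isStrictlyPerfect_restrict {E : CochainComplex X.Modules ℤ} (h : DCoh.IsStrictlyPerfect E)
    (j : U ⟶ X) [IsOpenImmersion j] : DCoh.IsStrictlyPerfect ((resCx j).obj E) := by
  obtain ⟨⟨a, b, hab⟩, hE⟩ := h
  exact ⟨⟨a, b, fun i hi => Functor.map_isZero (Scheme.Modules.restrictFunctor j) (hab i hi)⟩, fun i => isFinLocFree_restrict (hE i) j⟩

/-- A complex with finitely many nonzero terms, all finite locally free, is termwise free near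
every point. -/
lemma exists_termFree {E : CochainComplex X.Modules ℤ} (h : DCoh.IsStrictlyPerfect E) (x : X) :
    ∃ W : X.Opens, x ∈ W ∧ IsTermFree ((resCx W.ι).obj E) := by
  obtain ⟨⟨a, b, hab⟩, hE⟩ := h
  choose W n hxW e using fun i => hE i x
  refine ⟨(Finset.Icc a b).inf W, ?_, fun i => ?_⟩
  · refine Finset.inf_induction (p := fun V : X.Opens => x ∈ V) trivial (fun _ h₁ _ h₂ => ⟨h₁, h₂⟩)
      fun i _ => hxW i
  · by_cases hi : i ∈ Finset.Icc a b
    · have hle := Finset.inf_le (f := W) hi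
      obtain ⟨e'⟩ := e i
      obtain ⟨e''⟩ := isFree_restrict e' (X.homOfLE hle)
      exact ⟨n i, ⟨((Scheme.Modules.restrictFunctorCongr (X.homOfLE_ι hle)).symm.app (E.X i) ≪≫
        (Scheme.Modules.restrictFunctorComp _ _).app (E.X i)) ≪≫ e''⟩⟩
    · rw [Finset.mem_Icc] at hi
      refine ⟨0, ⟨(Functor.map_isZero (Scheme.Modules.restrictFunctor _) (hab i (by omega))).iso ?_⟩⟩
      exact (IsZero.iff_id_eq_zero _).2 (Sigma.hom_ext _ _ fun k => k.elim0)

/-- Passage from an open immersion to an open subscheme. -/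
lemma exists_opens_iso (j : U ⟶ X) [IsOpenImmersion j] :
    ∃ (e : (j.opensRange : Scheme.{u}) ⟶ U), IsIso e ∧ e ≫ j = j.opensRange.ι :=
  ⟨(IsOpenImmersion.isoOfRangeEq j.opensRange.ι j (by simp)).hom, inferInstance,
    IsOpenImmersion.isoOfRangeEq_hom_fac _ _ _⟩

end Groth.Agent.DCX42
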