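import Groth.Agent.DCX42.PushAdj
import Groth.Agent.DCX42.Res
import Groth.Agent.Big45.Mono
import Groth.Agent.GSS45.RelExt
import Groth.Agent.QC70.ExtZero
import Groth.Agent.DCK91.PullMono
import Mathlib.AlgebraicGeometry.Morphisms.Flat

/-!
# K-injective complexes under restriction and flat direct image; base change of `Rf_*` to opens
-/

set_option autoImplicit false
set_option backward.isDefEq.respectTransparency false

noncomputable section

universe u

open CategoryTheory Limits AlgebraicGeometry TopologicalSpace Opposite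
attribute [local instance] HasDerivedCategory.standard

namespace Groth.Agent.DCX42

variable {U X Y : Scheme.{u}}

/-- The inverse image along a flat morphism preserves monomorphisms. -/
instance preservesMonomorphisms_pullback (f : X ⟶ Y) [Flat f] :
    (Scheme.Modules.pullback f).PreservesMonomorphisms where
  preserves {A B} u _ := DCK91.mono_pullback_map f u fun x => by
    letI := (f.stalkMap x).hom.toAlgebra
    have : Module.Flat (Y.presheaf.stalk (f x)) (X.presheaf.stalk x) := Flat.stalkMap f x
    exact Module.Flat.rTensor_preserves_injective_linearMap _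
      (QC70.injective_stalkMapM_of_mono u (f x))

lemma preservesHomology_pullback (f : X ⟶ Y) [Flat f] :
    (Scheme.Modules.pullback f).PreservesHomology := by
  have : PreservesColimitsOfSize.{0, 0} (Scheme.Modules.pullback f) :=
    (Scheme.Modules.pullbackPushforwardAdjunction f).leftAdjoint_preservesColimits
  exact (Scheme.Modules.pullback f).preservesHomology_of_preservesMonos_and_cokernels

/-- Direct images along flat morphisms preserve K-injective complexes. -/
theorem isKInjective_pushforward (f : X ⟶ Y) [Flat f] (I : CochainComplex X.Modules ℤ) (hI : I.IsKInjective) :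
    CochainComplex.IsKInjective (((Scheme.Modules.pushforward f).mapHomologicalComplex (ComplexShape.up ℤ)).obj I) :=
  have := preservesHomology_pullback f
  have := hI
  Big45.isKInjective_of_adj (Scheme.Modules.pullbackPushforwardAdjunction f) I

/-- Restriction to opens preserves K-injective complexes. -/
theorem isKInjective_restrict (j : U ⟶ X) [IsOpenImmersion j] (I : CochainComplex X.Modules ℤ) (hI : I.IsKInjective) :
    CochainComplex.IsKInjective ((resCx j).obj I) :=
  have : PreservesColimitsOfSize.{0, 0} (CxOX.extZero j) := (CxOX.extZeroAdj j).leftAdjoint_preservesColimits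
  have := preservesBinaryBiproducts_of_preservesBinaryCoproducts (CxOX.extZero j)
  have : (CxOX.extZero j).Additive := Functor.additive_of_preservesBinaryBiproducts _
  have : (CxOX.extZero j).PreservesHomology :=
    (CxOX.extZero j).preservesHomology_of_preservesMonos_and_cokernels
  have := hI
  Big45.isKInjective_of_adj (CxOX.extZeroAdj j) I

/-- `(Rf_* E)|_V ≅ Rg_*(E|_U)`. -/
theorem nonempty_Rpush_restrict (f : X ⟶ Y) (V : Y.Opens) [DCoh.HasRpush f] [DCoh.HasRpush (f ∣_ V)] :
    Nonempty (DCoh.Rpush f ⋙ (Scheme.Modules.restrictFunctor V.ι).mapDerivedCategory ≅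
      (Scheme.Modules.restrictFunctor (f ⁻¹ᵁ V).ι).mapDerivedCategory ⋙ DCoh.Rpush (f ∣_ V)) := by
  let G := (Scheme.Modules.restrictFunctor V.ι).mapDerivedCategory
  let RV := Scheme.Modules.restrictFunctor V.ι
  let RU := Scheme.Modules.restrictFunctor (f ⁻¹ᵁ V).ι
  let qis := HomotopyCategory.quasiIso X.Modules (ComplexShape.up ℤ)
  let α := (DCoh.pushKh f).totalRightDerivedUnit DerivedCategory.Qh qis
  let α' := (DCoh.pushKh (f ∣_ V)).totalRightDerivedUnit DerivedCategory.Qh
    (HomotopyCategory.quasiIso _ (ComplexShape.up ℤ))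
  let β := Functor.whiskerRight α G ≫ (Functor.associator _ _ _).hom
  have : (DCoh.Rpush f ⋙ G).IsRightDerivedFunctor β qis :=
    Mod48.isRightDerivedFunctor_comp _ α CohDer42.RdAdj.enoughKInj G β rfl
  let k₁ := Functor.mapHomotopyCategoryCompIso (GSS45.RelExt.pushRestrictIso f V) (ComplexShape.up ℤ)
  let k₂ := Functor.mapHomotopyCategoryCompIso
    (Iso.refl (RU ⋙ Scheme.Modules.pushforward (f ∣_ V))) (ComplexShape.up ℤ)
  let c : DCoh.pushKh f ⋙ G ≅ RU.mapHomotopyCategory (ComplexShape.up ℤ) ⋙ DCoh.pushKh (f ∣_ V) :=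
    Functor.associator _ _ _ ≪≫ Functor.isoWhiskerLeft _ RV.mapDerivedCategoryFactorsh ≪≫
      (Functor.associator _ _ _).symm ≪≫ Functor.isoWhiskerRight (k₁ ≪≫ k₂.symm) _ ≪≫ Functor.associator _ _ _
  let γ : DCoh.pushKh f ⋙ G ⟶
      DerivedCategory.Qh ⋙ RU.mapDerivedCategory ⋙ DCoh.Rpush (f ∣_ V) :=
    c.hom ≫ Functor.whiskerLeft _ α' ≫ (Functor.associator _ _ _).inv ≫
      Functor.whiskerRight RU.mapDerivedCategoryFactorsh.inv _ ≫ (Functor.associator _ _ _).hom
  let τ := (DCoh.Rpush f ⋙ G).rightDerivedDesc β qis _ γ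
  have hτ : IsIso τ := by
    rw [NatTrans.isIso_iff_isIso_app]
    intro Z
    obtain ⟨I, hI, ⟨e⟩⟩ := Mod48.exists_Qh_iso_kInjective X.Modules CohDer42.RdAdj.enoughKInj Z
    refine (NatTrans.isIso_app_iff_of_iso τ e).1 ?_
    let q := (HomotopyCategory.quotient X.Modules (ComplexShape.up ℤ)).obj I
    have h1 : IsIso (β.app q) := by
      have := isIso_pushUnit f I hI
      change IsIso (G.map (α.app q) ≫ 𝟙 _)
      infer_instance
    have h2 : IsIso (γ.app q) := by
      have := isIso_pushUnit (f ∣_ V) ((resCx (f ⁻¹ᵁ V).ι).obj I) (isKInjective_restrict _ I hI)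
      have : IsIso (α'.app ((RU.mapHomotopyCategory (ComplexShape.up ℤ)).obj q)) := this
      change IsIso (c.hom.app q ≫ α'.app _ ≫ 𝟙 _ ≫ (DCoh.Rpush (f ∣_ V)).map _ ≫ 𝟙 _)
      infer_instance
    exact IsIso.of_isIso_fac_left ((DCoh.Rpush f ⋙ G).rightDerived_fac_app β qis _ γ q)
  exact ⟨asIso τ⟩

end Groth.Agent.DCX42
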