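import Groth.Agent.DCX42.TildeEq
import Groth.Agent.DCX42.TildeDer
import Groth.Agent.DCX42.LpullLoc
import Groth.Agent.DCX42.LocalFP
import Groth.Agent.S9498

/-!
# Objects with quasi-coherent cohomology: locality and derived inverse image
-/

set_option autoImplicit false
set_option backward.isDefEq.respectTransparency false

universe u

open CategoryTheory Limits AlgebraicGeometry DerivedCategory
attribute [local instance] HasDerivedCategory.standard

noncomputable section

namespace Groth.Agent.DCX42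

variable {U X Y : Scheme.{u}}

lemma isQCohD_resD {K : DCoh.D X} (h : DCoh.IsQCohD K) (j : U ⟶ X) [IsOpenImmersion j] :
    DCoh.IsQCohD ((resD j).obj K) := fun i =>
  have : (DCoh.HD K i).IsQuasicoherent := h i
  QC70.isQuasicoherent_of_iso ((Mod48.homologyMapDerivedIso (Scheme.Modules.restrictFunctor j) i).app K).symm
    (inferInstanceAs (((DCoh.HD K i).restrict j).IsQuasicoherent))

/-- Quasi-coherence of the cohomology is local. -/
theorem isQCohD_of_local {K : DCoh.D X}
    (h : ∀ x : X, ∃ (U : Scheme.{u}) (j : U ⟶ X) (_ : IsOpenImmersion j),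
      x ∈ Set.range j ∧ DCoh.IsQCohD ((resD j).obj K)) : DCoh.IsQCohD K := by
  intro i
  refine isQCoh_of_local _ fun x => ?_
  obtain ⟨U, j, _, hx, hU⟩ := h x
  obtain ⟨e, _, he⟩ := exists_opens_iso j
  refine ⟨j.opensRange, hx, ?_⟩
  have h1 : Coh.IsQCoh ((Scheme.Modules.restrictFunctor j).obj (DCoh.HD K i)) :=
    QC70.isQuasicoherent_of_iso ((Mod48.homologyMapDerivedIso (Scheme.Modules.restrictFunctor j) i).app K) (hU i)
  exact QC70.isQuasicoherent_of_iso
    ((Scheme.Modules.restrictFunctorComp e j).symm.app _ ≪≫ (Scheme.Modules.restrictFunctorCongr he).app _)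
    (inferInstanceAs ((((Scheme.Modules.restrictFunctor j).obj (DCoh.HD K i)).restrict e).IsQuasicoherent))

/-- Derived base change of modules exists. -/
theorem hasLBaseChange {A B : Type u} [CommRing A] [CommRing B] (φ : A →+* B) : DRing.HasLBaseChange φ :=
  DCK91.hasLeftDerived (hasRes_KProjh A) (inverts_KProjh (ModuleCat.extendScalars.{u, u, u} φ))

/-- Derived inverse image between affine schemes preserves quasi-coherent cohomology. -/
theorem isQCohD_Lpull_spec {R S : CommRingCat.{u}} (f : R ⟶ S) [DCoh.HasLpull (Spec.map f)]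
    {K : DCoh.D (Spec R)} (hK : DCoh.IsQCohD K) : DCoh.IsQCohD ((DCoh.Lpull (Spec.map f)).obj K) := by
  have : PreservesFiniteLimits (tilde.functor R) := (Groth.Agent.S9498.tilde_exact R).1
  have : PreservesFiniteLimits (tilde.functor S) := (Groth.Agent.S9498.tilde_exact S).1
  obtain ⟨M, ⟨e⟩⟩ := ((tildeD_fullyFaithful_essImage R).2.2 K).1 hK
  have := hasLBaseChange f.hom
  obtain ⟨η⟩ := LBaseChange_comp_tildeD R S f
  exact isQCohD_of_iso ((η.app M) ≪≫ (DCoh.Lpull (Spec.map f)).mapIso e) (isQCohD_tildeD S _)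

/-- `Lf^*` preserves quasi-coherent cohomology. -/
theorem isQCohD_Lpull (f : Y ⟶ X) [DCoh.HasLpull f] {K : DCoh.D X} (hK : DCoh.IsQCohD K) :
    DCoh.IsQCohD ((DCoh.Lpull f).obj K) := by
  refine isQCohD_of_local fun y => ?_
  obtain ⟨W, hW, hy, -⟩ := exists_isAffineOpen_mem_and_subset (x := f y) (U := (⊤ : X.Opens)) trivial
  obtain ⟨V, hV, hyV, hVW⟩ := exists_isAffineOpen_mem_and_subset (x := y) (U := f ⁻¹ᵁ W) hy
  have := DCK91.hasLpull (Spec.map (f.appLE W V hVW))
  obtain ⟨e⟩ := nonempty_Lpull_resD f hW.fromSpec hV.fromSpec (Spec.map (f.appLE W V hVW))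
    (IsAffineOpen.SpecMap_appLE_fromSpec f hW hV hVW)
  exact ⟨_, hV.fromSpec, inferInstance, by rw [hV.range_fromSpec]; exact hyV,
    isQCohD_of_iso (e.app K).symm (isQCohD_Lpull_spec _ (isQCohD_resD hK hW.fromSpec))⟩

end Groth.Agent.DCX42
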