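import Groth.Agent.DCX42.Perfect
import Groth.Agent.DCX42.LocalFP
import Groth.Agent.LimTop61.FPDescend
import Groth.Agent.Props58.LocFree.Criteria

/-!
# Top cohomology of pseudo-coherent objects
-/

set_option autoImplicit false
set_option backward.isDefEq.respectTransparency false

noncomputable section

universe u

open CategoryTheory Limits AlgebraicGeometry TopologicalSpace Opposite Pretriangulated DerivedCategory

attribute [local instance] HasDerivedCategory.standard

namespace Groth.Agent.DCX42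

variable {U V X : Scheme.{u}}

/-- The top cycles of a strictly perfect complex are locally a direct summand of a finite free module. -/
theorem exists_cycles_retract {E : CochainComplex X.Modules ℤ} (hE : DCoh.IsStrictlyPerfect E) (m : ℤ)
    (hex : ∀ i, m < i → E.ExactAt i) (x : X) :
    ∃ (U : Scheme.{u}) (j : U ⟶ X) (_ : IsOpenImmersion j) (n : ℕ)
      (s : ((resCx j).obj E).cycles m ⟶ FlatMod.freeMod U n)
      (p : FlatMod.freeMod U n ⟶ ((resCx j).obj E).cycles m),
      x ∈ Set.range j ∧ s ≫ p = 𝟙 _ := by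
  obtain ⟨W₁, hx₁, hfree⟩ := exists_termFree hE x
  let E₁ := (resCx W₁.ι).obj E
  obtain ⟨T, hxT, ⟨H⟩⟩ := exists_null (σIncl E₁ (m + 1))
    (isStrictlyPerfect_σGE (isStrictlyPerfect_restrict hE W₁.ι) _) (m + 1)
    (fun i hi => isZero_σX E₁ (m + 1) hi) (fun i hi => exactAt_resCx W₁.ι (hex i (by omega))) ⟨x, hx₁⟩
  let G := Scheme.Modules.restrictFunctor T.ι
  let E₂ := (resCx T.ι).obj E₁
  have : IsIso (((resCx T.ι).map (σIncl E₁ (m + 1))).f (m + 1)) := by
    have := isIso_σIncl_f E₁ (m + 1) (le_refl (m + 1))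
    exact inferInstanceAs (IsIso (G.map _))
  have : IsIso (((resCx T.ι).map (σIncl E₁ (m + 1))).f (m + 1 + 1)) := by
    have := isIso_σIncl_f E₁ (m + 1) (show m + 1 ≤ m + 1 + 1 by omega)
    exact inferInstanceAs (IsIso (G.map _))
  let ι₁ := asIso (((resCx T.ι).map (σIncl E₁ (m + 1))).f (m + 1))
  let ι₂ := asIso (((resCx T.ι).map (σIncl E₁ (m + 1))).f (m + 1 + 1))
  have hH := H.comm (m + 1)
  rw [HomologicalComplex.zero_f_apply, add_zero,
    dNext_eq _ (show (ComplexShape.up ℤ).Rel (m + 1) (m + 1 + 1) from rfl),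
    prevD_eq _ (show (ComplexShape.up ℤ).Rel m (m + 1) from rfl)] at hH
  let q : E₂.X m ⟶ E₂.X m := 𝟙 _ - E₂.d m (m + 1) ≫ ι₁.inv ≫ H.hom (m + 1) m
  have hd : ι₁.inv ≫ ((resCx T.ι).obj (σGE E₁ (m + 1))).d (m + 1) (m + 1 + 1) =
      E₂.d (m + 1) (m + 1 + 1) ≫ ι₂.inv := by
    rw [Iso.inv_comp_eq, ← Category.assoc, Iso.eq_comp_inv]
    exact (((resCx T.ι).map (σIncl E₁ (m + 1))).comm (m + 1) (m + 1 + 1)).symm
  have hq : q ≫ E₂.d m (m + 1) = 0 := by
    simp only [q, Preadditive.sub_comp, Category.id_comp, Category.assoc]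
    have e : H.hom (m + 1) m ≫ E₂.d m (m + 1) = ι₁.hom -
        ((resCx T.ι).obj (σGE E₁ (m + 1))).d (m + 1) (m + 1 + 1) ≫ H.hom (m + 1 + 1) (m + 1) :=
      eq_sub_of_add_eq' hH.symm
    rw [e, Preadditive.comp_sub, Iso.inv_hom_id, reassoc_of% hd, Preadditive.comp_sub, Category.comp_id,
      HomologicalComplex.d_comp_d_assoc, zero_comp, sub_zero, sub_self]
  let p := E₂.liftCycles q (m + 1) (by simp) hq
  have hp : E₂.iCycles m ≫ p = 𝟙 _ := by
    rw [← cancel_mono (E₂.iCycles m), Category.assoc, HomologicalComplex.liftCycles_i, Category.id_comp]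
    simp [q, Preadditive.comp_sub]
  obtain ⟨n, ⟨e⟩⟩ := (hfree.restrict T.ι) m
  let c := (HomologicalComplex.cyclesFunctor _ _ m).mapIso ((resCompCx T.ι W₁.ι).app E)
  exact ⟨T, T.ι ≫ W₁.ι, inferInstance, n, c.inv ≫ E₂.iCycles m ≫ e.hom, e.inv ≫ p ≫ c.hom,
    ⟨⟨⟨x, hx₁⟩, hxT⟩, rfl⟩, by
      simp only [Category.assoc, Iso.hom_inv_id_assoc, reassoc_of% hp]
      exact c.inv_hom_id⟩

/-- Restrictions of finitely presented modules are finitely presented. -/
lemma isFP_restrict {M : X.Modules} (h : CohB1.IsFP M) (j : U ⟶ X) [IsOpenImmersion j] :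
    CohB1.IsFP (M.restrict j) := by
  have : (M.restrict j).IsQuasicoherent :=
    have : M.IsQuasicoherent := inferInstance
    inferInstanceAs ((Scheme.Modules.restrictFunctor j).obj M).IsQuasicoherent
  exact Props58.Ext.isFP_of_fpOn _ ((Props58.Ext.fpOn_restrict_iff j ⊤).2 (Props58.Ext.fpOn_of_isFP M _))

lemma isFP_of_iso {M N : X.Modules} (e : M ≅ N) (h : CohB1.IsFP M) : CohB1.IsFP N := by
  have : N.IsQuasicoherent := QC70.isQuasicoherent_of_iso e inferInstance
  exact Props58.Ext.isFP_of_fpOn _ ((Props58.Ext.fpOn_of_isFP M ⊤).of_bijective e.hom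
    fun T _ => ConcreteCategory.bijective_of_isIso (e.hom.app T))

/-- The top cohomology of a strictly perfect complex is finitely presented. -/
theorem isFP_homology {E : CochainComplex X.Modules ℤ} (hE : DCoh.IsStrictlyPerfect E) (m : ℤ)
    (hex : ∀ i, m < i → E.ExactAt i) : CohB1.IsFP (E.homology m) := by
  refine isFP_of_local _ fun x => ?_
  obtain ⟨U, j, _, n, s, p, hx, hsp⟩ := exists_cycles_retract hE m hex x
  let F := (resCx j).obj E
  have hZ := Props58.LocFree.isFP_of_isFinLocFree (isFinLocFree_of_retract s p hsp)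
  have hB := Props58.LocFree.isFP_of_isFinLocFree ((isStrictlyPerfect_restrict hE j).2 (m - 1))
  have hH : CohB1.IsFP (F.homology m) :=
    isFP_of_iso ((cokernelIsCokernel (F.toCycles (m - 1) m)).coconePointUniqueUpToIso
      (F.homologyIsCokernel (m - 1) m (by simp)))
      (LimTop61.isFP_cokernel _ hB hZ)
  have h' : CohB1.IsFP ((Scheme.Modules.restrictFunctor j).obj (E.homology m)) :=
    isFP_of_iso (Mod48.mapHomologyIsoCx (Scheme.Modules.restrictFunctor j) E m) hH
  obtain ⟨g, _, hg⟩ := exists_opens_iso j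
  exact ⟨j.opensRange, hx, isFP_of_iso
    (((Scheme.Modules.restrictFunctorComp g j).symm ≪≫ Scheme.Modules.restrictFunctorCongr hg).app (E.homology m))
    (isFP_restrict h' g)⟩

lemma exactAt_of_pcMap {m : ℤ} {E : CochainComplex X.Modules ℤ} {K : DCoh.D X} {α : Q.obj E ⟶ K}
    (h : PCMap m α) {i : ℤ} (hi : m < i) (hK : IsZero ((homologyFunctor _ i).obj K)) : E.ExactAt i := by
  have := h.1 i hi
  rw [HomologicalComplex.exactAt_iff_isZero_homology]
  exact (hK.of_iso (asIso ((homologyFunctor _ i).map α))).of_iso ((homologyFunctorFactors _ i).app _).symm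

/-- (1): the top cohomology is of finite type. -/
theorem isFT_HD {m : ℤ} {K : DCoh.D X} (hK : DCoh.IsPseudoCoherentD m K)
    (h : ∀ i, m < i → IsZero (DCoh.HD K i)) : CohB1.IsFT (DCoh.HD K m) := by
  rw [isPC_iff] at hK
  refine isFT_of_local_epi _ fun x => ?_
  obtain ⟨V, hx, E, α, hE, hα⟩ := hK x
  let G := Scheme.Modules.restrictFunctor V.ι
  have hz : ∀ i, m < i → IsZero ((homologyFunctor _ i).obj ((resD V.ι).obj K)) := fun i hi =>
    (G.map_isZero (h i hi)).of_iso (Mod48.nonempty_homology_mapDerivedCategory G K i).some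
  obtain ⟨W, n, π, hxW, hπ⟩ := exists_epi_homology hE m
    (fun i hi => exactAt_of_pcMap hα hi (hz i hi)) ⟨x, hx⟩
  let H := Scheme.Modules.restrictFunctor W.ι
  let q : E.homology m ⟶ G.obj (DCoh.HD K m) :=
    (homologyFunctorFactors _ m).inv.app E ≫ (homologyFunctor _ m).map α ≫
      (Mod48.nonempty_homology_mapDerivedCategory G K m).some.hom
  have := hα.2
  have : Epi q := by
    exact @epi_comp _ _ _ _ _ _ inferInstance _ (epi_comp _ _)
  obtain ⟨g, _, hg⟩ := exists_opens_iso (W.ι ≫ V.ι)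
  let π' : FlatMod.freeMod W n ⟶ H.obj (G.obj (DCoh.HD K m)) :=
    π ≫ (Mod48.mapHomologyIsoCx H E m).hom ≫ H.map q
  have : Epi π' := epi_comp _ _
  let e := (Functor.isoWhiskerRight (Scheme.Modules.restrictFunctorComp W.ι V.ι).symm _ ≪≫
    (Scheme.Modules.restrictFunctorComp g (W.ι ≫ V.ι)).symm ≪≫
    Scheme.Modules.restrictFunctorCongr hg).app (DCoh.HD K m)
  exact ⟨_, n, (LF71.restrictFree g n).inv ≫ (Scheme.Modules.restrictFunctor g).map π' ≫ e.hom,
    mem_opensRange V W hx hxW,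
    @epi_comp _ _ _ _ _ _ inferInstance _ (epi_comp _ _)⟩

/-- (2): the next cohomology is of finite presentation. -/
theorem isFP_HD {m : ℤ} {K : DCoh.D X} (hK : DCoh.IsPseudoCoherentD m K)
    (h : ∀ i, m + 1 < i → IsZero (DCoh.HD K i)) : CohB1.IsFP (DCoh.HD K (m + 1)) := by
  rw [isPC_iff] at hK
  refine isFP_of_local _ fun x => ?_
  obtain ⟨V, hx, E, α, hE, hα⟩ := hK x
  let G := Scheme.Modules.restrictFunctor V.ι
  have hz : ∀ i, m + 1 < i → IsZero ((homologyFunctor _ i).obj ((resD V.ι).obj K)) := fun i hi =>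
    (G.map_isZero (h i hi)).of_iso (Mod48.nonempty_homology_mapDerivedCategory G K i).some
  have := hα.1 (m + 1) (by omega)
  exact ⟨V, hx, isFP_of_iso (((homologyFunctorFactors _ (m + 1)).app E).symm ≪≫
    asIso ((homologyFunctor _ (m + 1)).map α) ≪≫ (Mod48.nonempty_homology_mapDerivedCategory G K (m + 1)).some)
    (isFP_homology hE (m + 1) fun i hi => exactAt_of_pcMap hα (by omega) (hz i hi))⟩

end Groth.Agent.DCX42
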