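import Groth.Agent.DCX42.PerfectRetract
import Groth.Agent.DCX42.TopH
import Groth.Agent.DCX42.Coh
import Groth.Agent.Props58.Ext.FPExt
import Groth.Agent.QC70.ExtCoh

/-!
# Pseudo-coherent modules in one degree
-/

set_option autoImplicit false
set_option backward.isDefEq.respectTransparency false

universe u

open CategoryTheory Limits AlgebraicGeometry DerivedCategory TopologicalSpace Pretriangulated
attribute [local instance] HasDerivedCategory.standard

noncomputable section

namespace Groth.Agent.DCX42

variable {U V X : Scheme.{u}}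

/-- A finite type module is locally a quotient of a finite free module. -/
theorem exists_local_free_epi (M : X.Modules) (h : CohB1.IsFT M) (x : X) :
    ∃ (W : X.Opens) (n : ℕ) (π : FlatMod.freeMod (W : Scheme.{u}) n ⟶ M.restrict W.ι), x ∈ W ∧ Epi π := by
  obtain ⟨σ, hσ⟩ := h.exists_localGeneratorsData
  obtain ⟨k, hk⟩ := (show IsOpenCover σ.X from (Opens.coversTop_iff _ _).mp σ.coversTop).exists_mem x
  let W : X.Opens := σ.X k
  have : (σ.generators k).IsFiniteType := hσ.isFiniteType k
  let E := Scheme.Modules.overEquiv W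
  let G₀ := (σ.generators k).map E.functor (W.sheafOfModulesEquivOverUnit X.ringCatSheaf).symm
  let G : (M.restrict W.ι).GeneratingSections :=
    G₀.ofEpi ((Scheme.Modules.overFunctorEquiv W).app M).hom
  have : Finite G.I := inferInstanceAs (Finite (σ.generators k).I)
  have := Fintype.ofFinite G.I
  let p : QC70.freeMod (W : Scheme.{u}) G.I ⟶ M.restrict W.ι := G.π
  have : Epi p := G.epi
  let e : FlatMod.freeMod (W : Scheme.{u}) (Fintype.card G.I) ≅ QC70.freeMod (W : Scheme.{u}) G.I :=
    Sigma.whiskerEquiv (f := fun _ : Fin (Fintype.card G.I) => Coh.structureModule (W : Scheme.{u}))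
      (g := fun _ : G.I => QC70.unitMod (W : Scheme.{u})) (Fintype.equivFin G.I).symm fun _ => Iso.refl _
  exact ⟨W, _, e.hom ≫ p, hk, epi_comp _ _⟩

lemma isPC_of_local {m : ℤ} {K : DCoh.D X}
    (h : ∀ x : X, ∃ W : X.Opens, x ∈ W ∧ DCoh.IsPseudoCoherentD m ((resD W.ι).obj K)) :
    DCoh.IsPseudoCoherentD m K := by
  rw [isPC_iff]
  intro x
  obtain ⟨W, hx, hW⟩ := h x
  obtain ⟨T, hT, hP⟩ := (isPC_iff m _).mp hW ⟨x, hx⟩
  exact exists_open_of_pieces (P := fun {_} A => HasPCApprox m A) (fun h e => h.of_iso e)
    (fun j _ h => h.restrict j) _ W T hx hT hP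

theorem isPC_single_of_isFT (M : X.Modules) (h : CohB1.IsFT M) :
    DCoh.IsPseudoCoherentD 0 ((singleFunctor X.Modules 0).obj M) := by
  refine isPC_of_local fun x => ?_
  obtain ⟨W, n, π, hx, hπ⟩ := exists_local_free_epi M h x
  let G := Scheme.Modules.restrictFunctor W.ι
  refine ⟨W, hx, isPC_of_iso ((G.mapDerivedCategorySingleFunctor 0).app M).symm ?_⟩
  let S : ShortComplex (W : Scheme.{u}).Modules := ShortComplex.mk (kernel.ι π) π (kernel.condition π)
  have hS : S.ShortExact := Props58.Ext.shortExact_kernel π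
  exact isPC₃ _ hS.singleTriangle_distinguished
    (isPC_of_isLE (inferInstanceAs (((singleFunctor _ 0).obj S.X₁).IsLE 0)))
    (isPC_of_isPerfect (isPerfect_single (QC70.isFinLocFree_freeMod _ n) 0) 0)

theorem isPC_single_of_isFP (M : X.Modules) (h : CohB1.IsFP M) :
    DCoh.IsPseudoCoherentD (-1) ((singleFunctor X.Modules 0).obj M) := by
  refine isPC_of_local fun x => ?_
  obtain ⟨W, n, π, hx, hπ⟩ := exists_local_free_epi M inferInstance x
  let G := Scheme.Modules.restrictFunctor W.ι
  refine ⟨W, hx, isPC_of_iso ((G.mapDerivedCategorySingleFunctor 0).app M).symm ?_⟩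
  have hW : CohB1.IsFP (M.restrict W.ι) := isFP_restrict h W.ι
  have := Props58.Ext.isQuasicoherent_freeMod (W : Scheme.{u}) n
  haveI : (M.restrict W.ι).IsQuasicoherent := inferInstance
  have hK : CohB1.IsFT (kernel π) := by
    haveI := QC70.isQuasicoherent_kernel π
    refine QC70.isFiniteType_of_finite_sections _ (fun i : (W : Scheme.{u}).affineOpens => i.1)
      (iSup_affineOpens_eq_top _) (fun i => i.2) fun i => ?_
    haveI := Props58.Ext.finitePresentation_free_sections (X := (W : Scheme.{u})) n i.1
    haveI := Props58.LocFree.finitePresentation_sections (M.restrict W.ι) (hM := hW) i.2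
    exact Props58.Ext.finite_kernel_sections π i.2
  let S : ShortComplex (W : Scheme.{u}).Modules := ShortComplex.mk (kernel.ι π) π (kernel.condition π)
  have hS : S.ShortExact := Props58.Ext.shortExact_kernel π
  exact isPC₃ _ hS.singleTriangle_distinguished
    (by simpa using isPC_single_of_isFT _ hK)
    (isPC_of_isPerfect (isPerfect_single (QC70.isFinLocFree_freeMod _ n) 0) (-1))

end Groth.Agent.DCX42
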