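import Groth.Agent.DCX42.TildePC
import Groth.Agent.DCX42.QCohPull
import Groth.Agent.DCX42.Coh
import Groth.Agent.DCX42.Single
import Groth.Agent.QCRes72.Basic

/-!
# Affine models of objects with quasi-coherent cohomology
-/

set_option autoImplicit false
set_option backward.isDefEq.respectTransparency false

universe u

open CategoryTheory Limits AlgebraicGeometry DerivedCategory
attribute [local instance] HasDerivedCategory.standard

noncomputable section

namespace Groth.Agent.DCX42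

variable {U X : Scheme.{u}}

lemma isPC_resD {m : ℤ} {K : DCoh.D X} (h : DCoh.IsPseudoCoherentD m K) (j : U ⟶ X) [IsOpenImmersion j] :
    DCoh.IsPseudoCoherentD m ((resD j).obj K) := by
  have := DCK91.hasLpull j
  obtain ⟨e⟩ := nonempty_Lpull_iso_resD j
  exact isPC_of_iso (e.app K) (isPC_Lpull j h)

lemma isPerfect_resD {K : DCoh.D X} (h : DCoh.IsPerfect K) (j : U ⟶ X) [IsOpenImmersion j] :
    DCoh.IsPerfect ((resD j).obj K) := by
  have := DCK91.hasLpull j
  obtain ⟨e⟩ := nonempty_Lpull_iso_resD j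
  exact isPerfect_of_iso (e.app K) (isPerfect_Lpull j h)

/-- Local properties can be checked on any covering by open immersions. -/
theorem loc_of_cover {P : ∀ {S : Scheme.{u}}, DCoh.D S → Prop}
    (hiso : ∀ {S : Scheme.{u}} {K L : DCoh.D S}, P K → (K ≅ L) → P L)
    (hres : ∀ {S T : Scheme.{u}} {K : DCoh.D S} (j : T ⟶ S) [IsOpenImmersion j], P K → P ((resD j).obj K))
    (K : DCoh.D X)
    (h : ∀ x : X, ∃ (U : Scheme.{u}) (j : U ⟶ X) (_ : IsOpenImmersion j),
      x ∈ Set.range j ∧ Loc (fun {_} L => P L) ((resD j).obj K)) : Loc (fun {_} L => P L) K := by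
  intro x
  obtain ⟨U, j, _, ⟨y, rfl⟩, hU⟩ := h x
  obtain ⟨T, hyT, hT⟩ := hU y
  obtain ⟨e, _, he⟩ := exists_opens_iso (T.ι ≫ j)
  exact ⟨(T.ι ≫ j).opensRange, ⟨⟨y, hyT⟩, rfl⟩,
    hiso (hres e (hiso hT ((resDComp T.ι j).app K))) ((resDComp e (T.ι ≫ j)).app K ≪≫ (resDCongr he).app K)⟩

theorem isPC_of_cover {m : ℤ} (K : DCoh.D X)
    (h : ∀ x : X, ∃ (U : Scheme.{u}) (j : U ⟶ X) (_ : IsOpenImmersion j),
      x ∈ Set.range j ∧ DCoh.IsPseudoCoherentD m ((resD j).obj K)) : DCoh.IsPseudoCoherentD m K := by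
  rw [isPC_iff]
  refine loc_of_cover (P := fun {_} L => HasPCApprox m L) (fun h e => h.of_iso e) (fun j _ h => h.restrict j) K
    fun x => ?_
  obtain ⟨U, j, hj, hx, hU⟩ := h x
  exact ⟨U, j, hj, hx, (isPC_iff m _).mp hU⟩

theorem isPerfect_of_cover (K : DCoh.D X)
    (h : ∀ x : X, ∃ (U : Scheme.{u}) (j : U ⟶ X) (_ : IsOpenImmersion j),
      x ∈ Set.range j ∧ DCoh.IsPerfect ((resD j).obj K)) : DCoh.IsPerfect K := by
  rw [isPerfect_iff]
  refine loc_of_cover (P := fun {_} L => HasPerfRep L) (fun h e => h.of_iso e) (fun j _ h => h.restrict j) K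
    fun x => ?_
  obtain ⟨U, j, hj, hx, hU⟩ := h x
  exact ⟨U, j, hj, hx, (isPerfect_iff _).mp hU⟩

/-- Objects with quasi-coherent cohomology are given by modules on affine opens. -/
theorem exists_affine_model {K : DCoh.D X} (hK : DCoh.IsQCohD K) {V : X.Opens} (hV : IsAffineOpen V) :
    ∃ M : Dual.D Γ(X, V), Nonempty (tD Γ(X, V) M ≅ (resD hV.fromSpec).obj K) :=
  ((tildeD_fullyFaithful_essImage Γ(X, V)).2.2 _).1 (isQCohD_resD hK hV.fromSpec)

/-- The cohomology sheaves of the tilde of an object. -/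
lemma nonempty_HD_tildeD (R : CommRingCat.{u}) (M : DerivedCategory (ModuleCat.{u} R)) (i : ℤ) :
    Nonempty (DCoh.HD ((tilde.functor R).mapDerivedCategory.obj M) i ≅
      (tilde.functor R).obj ((homologyFunctor (ModuleCat.{u} R) i).obj M)) :=
  ⟨(Mod48.homologyMapDerivedIso (tilde.functor R) i).app M⟩

lemma nonempty_HD_tD (A : Type u) [CommRing A] (M : Dual.D A) (i : ℤ) :
    Nonempty (DCoh.HD (tD A M) i ≅
      (tilde.functor (CommRingCat.of A)).obj ((homologyFunctor (ModuleCat.{u} (CommRingCat.of A)) i).obj M)) :=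
  nonempty_HD_tildeD (CommRingCat.of A) M i

/-- Coherence of the cohomology of an affine model. -/
lemma finite_of_isFT_HD {A : Type u} [CommRing A] {M : Dual.D A} {i : ℤ}
    (h : CohB1.IsFT (DCoh.HD (tD A M) i)) : Module.Finite A ((DR39.HF A i).obj M) := by
  obtain ⟨e⟩ := nonempty_HD_tD A M i
  haveI : (DCoh.HD (tD A M) i).IsFiniteType := h
  exact (QCRes72.isFiniteType_tilde_iff (R := CommRingCat.of A) _).mp (QC70.isFiniteType_of_iso e)

theorem isPC_of_coherent [IsLocallyNoetherian X] {K : DCoh.D X} (hK : DCoh.IsQCohD K) {m b : ℤ}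
    (hc : ∀ i, m ≤ i → Coh.IsCoh (DCoh.HD K i)) (hb : K.IsLE b) : DCoh.IsPseudoCoherentD m K := by
  refine isPC_of_cover K fun x => ?_
  obtain ⟨V, hV, hx, -⟩ := exists_isAffineOpen_mem_and_subset (x := x) (U := (⊤ : X.Opens)) trivial
  refine ⟨_, hV.fromSpec, inferInstance, by rw [hV.range_fromSpec]; exact hx, ?_⟩
  obtain ⟨M, ⟨e⟩⟩ := exists_affine_model hK hV
  refine isPC_of_iso e ((isPC_tildeD_iff Γ(X, V) M m).2 ?_)
  haveI : IsNoetherianRing Γ(X, V) := IsLocallyNoetherian.component_noetherian ⟨V, hV⟩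
  let G := Scheme.Modules.restrictFunctor hV.fromSpec
  have he : ∀ i, DCoh.HD (tD Γ(X, V) M) i ≅ G.obj (DCoh.HD K i) := fun i =>
    (homologyFunctor _ i).mapIso e ≪≫ (Mod48.homologyMapDerivedIso G i).app K
  have hft : ∀ i, m ≤ i → Module.Finite Γ(X, V) ((DR39.HF Γ(X, V) i).obj M) := fun i hi => by
    haveI := (hc i hi).2
    haveI : (DCoh.HD K i).IsQuasicoherent := hK i
    haveI := QCRes72.isFiniteType_restrict hV.fromSpec (DCoh.HD K i)
    exact finite_of_isFT_HD (QC70.isFiniteType_of_iso (M := (DCoh.HD K i).restrict hV.fromSpec) (he i).symm)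
  have hz : DR39.Acyc (b + 1) M := fun i hi => by
    refine (IsZero.iff_id_eq_zero _).2 ((tilde.functor Γ(X, V)).map_injective ?_)
    rw [(tilde.functor Γ(X, V)).map_id, (tilde.functor Γ(X, V)).map_zero]
    have h0 : IsZero (DCoh.HD K i) := K.isZero_of_isLE b i (by omega)
    obtain ⟨e'⟩ := nonempty_HD_tD Γ(X, V) M i
    exact ((G.map_isZero h0).of_iso (e'.symm ≪≫ he i)).eq_of_src _ _
  refine DR39.pc_of_homology hz fun i hi => ?_
  haveI := hft i hi
  exact DR39.pc_inD_of_fp_of_coherent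
    (fun I hI => haveI := Module.Finite.iff_fg.2 hI; Module.finitePresentation_of_finite _ I) _
    (Module.finitePresentation_of_finite _ _) _

end Groth.Agent.DCX42

namespace Groth.Agent.DCX42

variable {X : Scheme.{u}}

theorem isCoh_HD_of_le [IsLocallyNoetherian X] {m : ℤ} {K : DCoh.D X} (hK : DCoh.IsPseudoCoherentD m K)
    (hq : DCoh.IsQCohD K) (i : ℤ) (hi : m ≤ i) : Coh.IsCoh (DCoh.HD K i) := by
  refine isCoh_of_local _ fun x => ?_
  obtain ⟨W, E, hx, hE, h⟩ := exists_homology_approx hK x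
  obtain ⟨f, hf, -⟩ := h i hi
  have hcoh := isCoh_homology E (fun j => isCoh_of_isFP (Props58.LocFree.isFP_of_isFinLocFree (hE.2 j))) i
  have := hcoh.2
  have : (DCoh.HD K i).IsQuasicoherent := hq i
  exact ⟨W, hx, inferInstanceAs (((DCoh.HD K i).restrict W.ι).IsQuasicoherent), QC70.isFiniteType_of_epi f⟩

/-- Pseudo-coherent objects on quasi-compact schemes are bounded above. -/
theorem exists_isLE_of_isPC [CompactSpace X] {m : ℤ} {K : DCoh.D X} (hK : DCoh.IsPseudoCoherentD m K) :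
    ∃ b : ℤ, K.IsLE b := by
  choose W E hx hE h using exists_homology_approx hK
  choose a b hab using fun x => (hE x).1
  obtain ⟨t, ht⟩ := IsCompact.elim_finite_subcover isCompact_univ (fun x => (W x : Set X))
    (fun x => (W x).2) fun x _ => Set.mem_iUnion.mpr ⟨x, hx x⟩
  obtain ⟨B, hB⟩ := (t.finite_toSet.image b).bddAbove
  refine ⟨max B m, (DerivedCategory.isLE_iff _ _).mpr fun i hi => ?_⟩
  refine isZero_of_local (DCoh.HD K i) fun y => ?_
  obtain ⟨x, hxt, hy⟩ := Set.mem_iUnion₂.mp (ht (Set.mem_univ y))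
  obtain ⟨f, -, hf⟩ := h x i (by omega)
  have := hf (by omega)
  have h1 : b x ≤ B := hB ⟨x, hxt, rfl⟩
  refine ⟨W x, hy, IsZero.of_iso ?_ (asIso f).symm⟩
  exact (HomologicalComplex.exactAt_iff_isZero_homology _ _).mp
    (HomologicalComplex.ExactAt.of_isZero (hab x i (Or.inr (by omega))))

end Groth.Agent.DCX42
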