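import Groth.Agent.DCX42.Affine
import Groth.Agent.DCK91.KFlatTilde
import Groth.Agent.DR39.BC
import Groth.Agent.DR39.Perf
import Groth.Prelude.Def_DDual2
import Mathlib.RingTheory.RingHom.Flat

/-!
# Flat amplitude and perfectness
-/

set_option autoImplicit false
set_option backward.isDefEq.respectTransparency false

universe u

open CategoryTheory Limits AlgebraicGeometry DerivedCategory
open Groth.Agent.DCK91
attribute [local instance] HasDerivedCategory.standard

noncomputable section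

namespace Groth.Agent.DCX42

variable {X : Scheme.{u}}

instance preservesFiniteLimits_SP (x : X) : PreservesFiniteLimits (SP x) :=
  Functor.preservesFiniteLimits_of_preservesHomology _

instance preservesFiniteColimits_SP (x : X) : PreservesFiniteColimits (SP x) :=
  Functor.preservesFiniteColimits_of_preservesHomology _

lemma flat_specGerm (R : CommRingCat.{u}) (x : Spec R) : (specGerm R x).Flat := by
  refine RingHom.Flat.comp (RingHom.Flat.of_bijective (Scheme.ΓSpecIso R).symm.commRingCatIsoToRingEquiv.bijective) ?_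
  have h := (isAffineOpen_top (Spec R)).isLocalization_stalk ⟨x, trivial⟩
  letI := TopCat.Presheaf.algebra_section_stalk (Spec R).presheaf (⟨x, trivial⟩ : (⊤ : (Spec R).Opens))
  have hf : Module.Flat Γ(Spec R, ⊤) ((Spec R).presheaf.stalk x) :=
    IsLocalization.flat _ ((isAffineOpen_top (Spec R)).primeIdealOf ⟨x, trivial⟩).asIdeal.primeCompl
  exact RingHom.flat_algebraMap_iff.mpr hf

/-- The flat amplitude of the stalks of the tilde of a complex. -/
theorem ta_stalk (R : CommRingCat.{u}) (E₀ : CochainComplex (ModuleCat.{u} R) ℤ) {a b : ℤ}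
    (h : DCoh.HasFlatAmplitudeIn a b ((tilde.functor R).mapDerivedCategory.obj (Q.obj E₀))) (x : Spec R) :
    DR39.TA a b (Q.obj (((ModuleCat.extendScalars.{u, u, u} (specGerm R x)).mapHomologicalComplex
      (ComplexShape.up ℤ)).obj E₀)) := by
  obtain ⟨F, hv, hflat, ⟨e⟩⟩ := h
  let G := ((tilde.functor R).mapHomologicalComplex (ComplexShape.up ℤ)).obj E₀
  let e₁ : Q.obj F ≅ Q.obj G := e ≪≫ (tilde.functor R).mapDerivedCategoryFactors.app E₀
  let eS : ((SP x).mapHomologicalComplex (ComplexShape.up ℤ)).obj G ≅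
      ((ModuleCat.extendScalars.{u, u, u} (specGerm R x)).mapHomologicalComplex (ComplexShape.up ℤ)).obj E₀ :=
    HomologicalComplex.Hom.isoOfComponents (fun n => (tildeStalkIso R x).app (E₀.X n))
      (fun i j _ => ((tildeStalkIso R x).hom.naturality (E₀.d i j)).symm)
  refine (DR39.ta_iff_rep a b _).2 ⟨((SP x).mapHomologicalComplex (ComplexShape.up ℤ)).obj F,
    fun i hi => (SP x).map_isZero (hv i ?_), fun i => hflat i x,
    ⟨((SP x).mapDerivedCategoryFactors.app F).symm ≪≫ (SP x).mapDerivedCategory.mapIso e₁ ≪≫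
      (SP x).mapDerivedCategoryFactors.app G ≪≫ Q.mapIso eS⟩⟩
  rw [Set.mem_Icc] at hi
  omega

/-- An object of modules whose tilde has flat amplitude in `[a, b]` has tor amplitude in `[a, b]`. -/
theorem ta_of_flatAmp_tildeD (R : CommRingCat.{u}) (M : DerivedCategory (ModuleCat.{u} R)) {a b : ℤ}
    (h : DCoh.HasFlatAmplitudeIn a b ((tilde.functor R).mapDerivedCategory.obj M)) :
    DR39.TA a b M := by
  obtain ⟨E₀, ⟨e⟩⟩ := DR39.exists_complex_iso (A := R) M
  obtain ⟨F, hv, hflat, ⟨i⟩⟩ := h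
  have h' : DCoh.HasFlatAmplitudeIn a b ((tilde.functor R).mapDerivedCategory.obj (Q.obj E₀)) :=
    ⟨F, hv, hflat, ⟨i ≪≫ (tilde.functor R).mapDerivedCategory.mapIso e.symm⟩⟩
  letI alg : ∀ x : Spec R, Algebra R ((Spec R).presheaf.stalk x) := fun x => (specGerm R x).toAlgebra
  have hflat : ∀ x : Spec R, Module.Flat R ((Spec R).presheaf.stalk x) := fun x =>
    RingHom.flat_algebraMap_iff.mp (flat_specGerm R x)
  refine DR39.ta_descent (A := R) (B := fun x : Spec R => (Spec R).presheaf.stalk x) (fun N hN => ?_) fun x => ?_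
  · have h1 : IsZero ((tilde.functor R).obj N) := DCK91.isZero_of_stalks fun x =>
      (hN x).of_iso ((tildeStalkIso R x).app N)
    refine (IsZero.iff_id_eq_zero _).2 ((tilde.functor R).map_injective ?_)
    rw [(tilde.functor R).map_id, (tilde.functor R).map_zero]
    exact h1.eq_of_src _ _
  · exact (ta_stalk R E₀ h' x).of_iso ((DR39.DFQ (DR39.extA R ((Spec R).presheaf.stalk x)) E₀).symm ≪≫
      (DR39.DF (DR39.extA R ((Spec R).presheaf.stalk x))).mapIso e)

/-- The tilde of an object of tor amplitude in `[a, b]`. -/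
theorem flatAmp_tildeD (R : CommRingCat.{u}) (M : DerivedCategory (ModuleCat.{u} R)) {a b : ℤ}
    (h : DR39.TA a b M) : DCoh.HasFlatAmplitudeIn a b ((tilde.functor R).mapDerivedCategory.obj M) := by
  obtain ⟨E, hE, hflat, ⟨e⟩⟩ := (DR39.ta_iff_rep a b M).1 h
  exact ⟨((tilde.functor R).mapHomologicalComplex (ComplexShape.up ℤ)).obj E,
    fun i hi => (tilde.functor R).map_isZero (hE i fun hm => by rw [Set.mem_Icc] at hm; omega),
    fun i => isFlat_tilde R (E.X i) (hflat i),
    ⟨((tilde.functor R).mapDerivedCategoryFactors.app E).symm ≪≫ (tilde.functor R).mapDerivedCategory.mapIso e⟩⟩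

theorem flatAmp_tD_iff (A : Type u) [CommRing A] (M : Dual.D A) (a b : ℤ) :
    DCoh.HasFlatAmplitudeIn a b (tD A M) ↔ DR39.TA a b M :=
  ⟨ta_of_flatAmp_tildeD (CommRingCat.of A) M, flatAmp_tildeD (CommRingCat.of A) M⟩

theorem flatAmp_resD {U : Scheme.{u}} {K : DCoh.D X} {a b : ℤ} (h : DCoh.HasFlatAmplitudeIn a b K)
    (j : U ⟶ X) [IsOpenImmersion j] : DCoh.HasFlatAmplitudeIn a b ((resD j).obj K) := by
  have := DCK91.hasLpull j
  obtain ⟨e⟩ := nonempty_Lpull_iso_resD j
  obtain ⟨F, hv, hf, ⟨i⟩⟩ := DCK91.flatAmp_Lpull j h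
  exact ⟨F, hv, hf, ⟨i ≪≫ e.app K⟩⟩

/-- Pseudo-coherence and flat amplitude give perfectness. -/
theorem isPerfect_of_flatAmp {K : DCoh.D X} {a b : ℤ} (hK : DCoh.HasFlatAmplitudeIn a b K)
    (hp : DCoh.IsPseudoCoherentD (a - 1) K) : DCoh.IsPerfect K := by
  have hq : DCoh.IsQCohD K := fun i => by
    by_cases hi : a - 1 < i
    · exact isQCoh_HD_of_lt hp i hi
    · obtain ⟨F, hv, -, ⟨e⟩⟩ := hK
      exact QC70.isQuasicoherent_of_isZero ((DCK91.isZero_HD_toD F i (hv i (Or.inl (by omega)))).of_iso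
        ((homologyFunctor _ i).mapIso e.symm))
  refine isPerfect_of_cover K fun x => ?_
  obtain ⟨V, hV, hx, -⟩ := exists_isAffineOpen_mem_and_subset (x := x) (U := (⊤ : X.Opens)) trivial
  refine ⟨_, hV.fromSpec, inferInstance, by rw [hV.range_fromSpec]; exact hx, ?_⟩
  obtain ⟨M, ⟨e⟩⟩ := exists_affine_model hq hV
  obtain ⟨F, hv, hf, ⟨i⟩⟩ := flatAmp_resD hK hV.fromSpec
  refine isPerfect_of_iso e ((isPerfect_tildeD_iff Γ(X, V) M).2 ((DR39.perfect_iff_rep M).2
    ⟨a, b, DR39.rep_FP_of_pc_of_ta ((isPC_tildeD_iff Γ(X, V) M (a - 1)).1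
      (isPC_of_iso e.symm (isPC_resD hp hV.fromSpec)))
      ((flatAmp_tD_iff _ M a b).1 ⟨F, hv, hf, ⟨i ≪≫ e.symm⟩⟩)⟩))

end Groth.Agent.DCX42
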