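import Groth.Agent.DCX42.Perfect

/-!
# Retracts of perfect objects
-/

set_option autoImplicit false
set_option backward.isDefEq.respectTransparency false

noncomputable section

universe u

open CategoryTheory Limits AlgebraicGeometry TopologicalSpace Opposite Pretriangulated DerivedCategory

attribute [local instance] HasDerivedCategory.standard

namespace Groth.Agent.DCX42

variable {U V X : Scheme.{u}}

lemma isPC_restrict {m : ℤ} {K : DCoh.D X} (h : DCoh.IsPseudoCoherentD m K) (V : X.Opens) :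
    DCoh.IsPseudoCoherentD m ((resD V.ι).obj K) := by
  rw [isPC_iff] at h ⊢
  intro x
  obtain ⟨T, hT, hP⟩ := h (V.ι x)
  let j := (V.ι ⁻¹ᵁ T).ι ≫ V.ι
  have hr : Set.range j ⊆ Set.range T.ι := by
    rintro _ ⟨a, rfl⟩
    rw [Scheme.Opens.range_ι]
    exact a.2
  let g := IsOpenImmersion.lift T.ι j hr
  have hg : g ≫ T.ι = j := IsOpenImmersion.lift_fac _ _ _
  have : IsOpenImmersion g := by
    have : IsOpenImmersion (g ≫ T.ι) := by rw [hg]; infer_instance
    exact IsOpenImmersion.of_comp g T.ι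
  exact ⟨_, hT, (hP.restrict g).of_iso
    ((resDComp g T.ι).app K ≪≫ (resDCongr hg).app K ≪≫ ((resDComp (V.ι ⁻¹ᵁ T).ι V.ι).app K).symm)⟩

lemma isPerfect_restrict {K : DCoh.D X} (h : DCoh.IsPerfect K) (V : X.Opens) :
    DCoh.IsPerfect ((resD V.ι).obj K) := by
  rw [isPerfect_iff] at h ⊢
  intro x
  obtain ⟨T, hT, hP⟩ := h (V.ι x)
  let j := (V.ι ⁻¹ᵁ T).ι ≫ V.ι
  have hr : Set.range j ⊆ Set.range T.ι := by
    rintro _ ⟨a, rfl⟩
    rw [Scheme.Opens.range_ι]
    exact a.2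
  let g := IsOpenImmersion.lift T.ι j hr
  have hg : g ≫ T.ι = j := IsOpenImmersion.lift_fac _ _ _
  have : IsOpenImmersion g := by
    have : IsOpenImmersion (g ≫ T.ι) := by rw [hg]; infer_instance
    exact IsOpenImmersion.of_comp g T.ι
  exact ⟨_, hT, (hP.restrict g).of_iso
    ((resDComp g T.ι).app K ≪≫ (resDCongr hg).app K ≪≫ ((resDComp (V.ι ⁻¹ᵁ T).ι V.ι).app K).symm)⟩

lemma isPC_of_perfRep {K : DCoh.D X} (h : HasPerfRep K) (m : ℤ) : DCoh.IsPseudoCoherentD m K := by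
  obtain ⟨E, hE, ⟨e⟩⟩ := h
  exact isPC_of_approx ⟨E, e.inv, hE, PCMap.of_isIso m _⟩

lemma isPerfect_single {M : X.Modules} (h : FlatMod.IsFinLocFree M) (n : ℤ) :
    DCoh.IsPerfect ((singleFunctor X.Modules n).obj M) := by
  rw [isPerfect_iff]
  refine fun x => ⟨⊤, trivial, HasPerfRep.restrict ⟨(CochainComplex.singleFunctor X.Modules n).obj M,
    ⟨⟨n, n, fun i hi => HomologicalComplex.isZero_single_obj_X _ n M i (by omega)⟩, fun i => ?_⟩,
    ⟨(singleFunctorIsoCompQ X.Modules n).app M⟩⟩ _⟩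
  by_cases hi : i = n
  · subst hi
    exact isFinLocFree_of_iso (HomologicalComplex.singleObjXSelf (ComplexShape.up ℤ) i M).symm h
  · exact isFinLocFree_of_isZero (HomologicalComplex.isZero_single_obj_X _ n M i hi)

/-- A module whose degree zero object is a retract of a strictly perfect complex in degrees `≥ 0`
is locally a direct summand of a finite free module. -/
theorem isFinLocFree_of_single_retract (M : X.Modules) {E : CochainComplex X.Modules ℤ}
    (hE : DCoh.IsStrictlyPerfect E) (hE0 : ∀ i < (0 : ℤ), IsZero (E.X i))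
    (u : (singleFunctor X.Modules 0).obj M ⟶ Q.obj E) (r : Q.obj E ⟶ (singleFunctor X.Modules 0).obj M)
    (hur : u ≫ r = 𝟙 _) : FlatMod.IsFinLocFree M := by
  intro x
  let MD := (singleFunctor X.Modules 0).obj M
  have hPC := isPC_of_retract u r hur (isPC_of_perfRep ⟨E, hE, ⟨Iso.refl _⟩⟩ 0)
  rw [isPC_iff] at hPC
  obtain ⟨W, hxW, E₂, β, hE₂, hβ⟩ := hPC x
  let G := Scheme.Modules.restrictFunctor W.ι
  let MW := G.obj M
  let eS : (resD W.ι).obj MD ≅ (singleFunctor _ 0).obj MW := (G.mapDerivedCategorySingleFunctor 0).app M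
  let α : Q.obj (σGE E₂ 0) ⟶ (singleFunctor _ 0).obj MW := Q.map (σIncl E₂ 0) ≫ β ≫ eS.hom
  have hα : PCMap 0 α := ((pcMap_Q_iff _ _).2 (σIncl_spec E₂ 0)).comp (hβ.comp (PCMap.of_isIso 0 _))
  have hex : ∀ i : ℤ, 0 < i → (σGE E₂ 0).ExactAt i := fun i hi => by
    have := hα.1 i hi
    rw [HomologicalComplex.exactAt_iff_isZero_homology]
    exact ((((singleFunctor _ 0).obj MW).isZero_of_isLE 0 i hi).of_iso (asIso ((homologyFunctor _ i).map α))).of_iso
      ((homologyFunctorFactors _ i).app _).symm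
  obtain ⟨T, n, π₀, hxT, hπ₀⟩ := exists_epi_homology (isStrictlyPerfect_σGE hE₂ 0) 0 hex ⟨x, hxW⟩
  let H := Scheme.Modules.restrictFunctor T.ι
  have := hα.2
  let q : (σGE E₂ 0).homology 0 ⟶ MW :=
    (homologyFunctorFactors _ 0).inv.app _ ≫ (homologyFunctor _ 0).map α ≫
      (homologyFunctor _ 0).map ((singleFunctorIsoCompQ _ 0).hom.app MW) ≫
      (homologyFunctorFactors _ 0).hom.app _ ≫
      (HomologicalComplex.singleObjHomologySelfIso (ComplexShape.up ℤ) 0 MW).hom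
  have : Epi q := by
    refine @epi_comp _ _ _ _ _ _ inferInstance _ ?_
    exact epi_comp _ _
  let π : FlatMod.freeMod T n ⟶ H.obj MW :=
    π₀ ≫ (Mod48.mapHomologyIsoCx H (σGE E₂ 0) 0).hom ≫ H.map q
  have : Epi π := epi_comp _ _
  let S := ShortComplex.mk (kernel.ι π) π (kernel.condition π)
  have hS : S.ShortExact :=
    { exact := ShortComplex.exact_of_f_is_kernel _ (kernelIsKernel π), mono_f := inferInstance, epi_g := this }
  let j := T.ι ≫ W.ι
  let eM : (resD j).obj MD ≅ (singleFunctor _ 0).obj (H.obj MW) :=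
    ((resDComp T.ι W.ι).app MD).symm ≪≫ (resD T.ι).mapIso eS ≪≫ (H.mapDerivedCategorySingleFunctor 0).app MW
  let N' := ((singleFunctor _ 0).obj S.X₁)⟦(1 : ℤ)⟧
  have hN : N'.IsLE (0 - 1) := TStructure.t.isLE_shift ((singleFunctor _ 0).obj S.X₁) 0 1 (0 - 1) (by omega)
  obtain ⟨R, hxR, hR⟩ := exists_map_eq_zero (isStrictlyPerfect_restrict hE j) (a := 0)
    (fun i hi => Functor.map_isZero (Scheme.Modules.restrictFunctor j) (hE0 i hi)) hN
    ((resQ j E).inv ≫ (resD j).map r ≫ eM.hom ≫ hS.singleTriangle.mor₃) (⟨⟨x, hxW⟩, hxT⟩ : T)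
  let P := resD R.ι
  have hδ : P.map hS.singleTriangle.mor₃ = 0 := by
    have e : hS.singleTriangle.mor₃ = eM.inv ≫ (resD j).map u ≫ (resQ j E).hom ≫
        ((resQ j E).inv ≫ (resD j).map r ≫ eM.hom ≫ hS.singleTriangle.mor₃) := by
      rw [Iso.hom_inv_id_assoc, ← Functor.map_comp_assoc, hur, CategoryTheory.Functor.map_id,
        Category.id_comp, Iso.inv_hom_id_assoc]
    rw [e, Functor.map_comp, Functor.map_comp, Functor.map_comp, hR, comp_zero, comp_zero, comp_zero]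
  obtain ⟨t, ht⟩ := Triangle.coyoneda_exact₃ _ (P.map_distinguished _ hS.singleTriangle_distinguished)
    (𝟙 _) (by
      change 𝟙 _ ≫ (P.map hS.singleTriangle.mor₃ ≫ _) = 0
      rw [hδ, zero_comp, comp_zero])
  let K := Scheme.Modules.restrictFunctor R.ι
  obtain ⟨s, hs⟩ := (singleFunctor (R : Scheme.{u}).Modules 0).map_surjective
    ((K.mapDerivedCategorySingleFunctor 0).inv.app (H.obj MW) ≫ t ≫
      (K.mapDerivedCategorySingleFunctor 0).hom.app S.X₂)
  have hsp : s ≫ K.map π = 𝟙 _ := by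
    apply (singleFunctor (R : Scheme.{u}).Modules 0).map_injective
    rw [Functor.map_comp, hs, Category.assoc, Category.assoc, CategoryTheory.Functor.map_id]
    have hn := (K.mapDerivedCategorySingleFunctor 0).hom.naturality π
    dsimp at hn ⊢
    change _ ≫ t ≫ (K.mapDerivedCategorySingleFunctor 0).hom.app (FlatMod.freeMod T n) ≫ _ = _
    rw [← hn]
    have ht' : t ≫ P.map ((singleFunctor _ 0).map π) = 𝟙 _ := ht.symm
    rw [← Category.assoc t, ht', Category.id_comp, Iso.inv_hom_id_app]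
    rfl
  have hf : FlatMod.IsFinLocFree (K.obj (H.obj MW)) :=
    isFinLocFree_of_retract (s ≫ (LF71.restrictFree R.ι n).hom) ((LF71.restrictFree R.ι n).inv ≫ K.map π)
      (by simp [hsp])
  obtain ⟨Z, k, hxZ, ⟨e⟩⟩ := hf (⟨⟨⟨x, hxW⟩, hxT⟩, hxR⟩ : R)
  let jj := ((Z.ι ≫ R.ι) ≫ T.ι) ≫ W.ι
  have e' : (Scheme.Modules.restrictFunctor jj).obj M ≅ FlatMod.freeMod (Z : Scheme.{u}) k :=
    (Scheme.Modules.restrictFunctorComp _ W.ι).app M ≪≫
      (Scheme.Modules.restrictFunctorComp _ T.ι).app MW ≪≫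
      (Scheme.Modules.restrictFunctorComp Z.ι R.ι).app (H.obj MW) ≪≫ e
  obtain ⟨g, _, hg⟩ := exists_opens_iso jj
  obtain ⟨e''⟩ := isFree_restrict e' g
  exact ⟨jj.opensRange, k, ⟨⟨⟨⟨⟨x, hxW⟩, hxT⟩, hxR⟩, hxZ⟩, rfl⟩,
    ⟨((Scheme.Modules.restrictFunctorCongr hg).symm.app M ≪≫
      (Scheme.Modules.restrictFunctorComp g jj).app M) ≪≫ e''⟩⟩

/-- Retracts of perfect objects are perfect. -/
theorem isPerfect_of_retract {K S : DCoh.D X} (i : K ⟶ S) (r : S ⟶ K) (hir : i ≫ r = 𝟙 K)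
    (hS : DCoh.IsPerfect S) : DCoh.IsPerfect K := by
  rw [isPerfect_iff] at hS ⊢
  intro x
  obtain ⟨V, hx, hV⟩ := hS x
  obtain ⟨E, hE, ⟨e⟩⟩ := hV
  let P := resD V.ι
  obtain ⟨a, hEa⟩ : ∃ a : ℤ, ∀ i < a, IsZero (E.X i) :=
    ⟨_, fun i hi => hE.1.choose_spec.choose_spec i (Or.inl hi)⟩
  have hK : DCoh.IsPseudoCoherentD a (P.obj K) := isPC_of_retract (P.map i ≫ e.hom) (e.inv ≫ P.map r)
    (by rw [Category.assoc, Iso.hom_inv_id_assoc, ← Functor.map_comp, hir, CategoryTheory.Functor.map_id])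
    (isPC_of_perfRep ⟨E, hE, ⟨Iso.refl _⟩⟩ a)
  rw [isPC_iff] at hK
  obtain ⟨W, hxW, E₀, β₀, hE₀, hβ₀⟩ := hK ⟨x, hx⟩
  let E₁ := σGE E₀ a
  let β : Q.obj E₁ ⟶ (resD W.ι).obj (P.obj K) := Q.map (σIncl E₀ a) ≫ β₀
  have hβ : PCMap a β := ((pcMap_Q_iff _ _).2 (σIncl_spec E₀ a)).comp hβ₀
  obtain ⟨C, v, w, hC⟩ := distinguished_cocone_triangle β
  obtain ⟨T, hxT, hT⟩ := exists_map_eq_zero (isStrictlyPerfect_restrict hE W.ι) (a := a)
    (fun i hi => Functor.map_isZero (Scheme.Modules.restrictFunctor W.ι) (hEa i hi))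
    ((pcMap_iff_isLE hC a).1 hβ)
    ((resQ W.ι E).inv ≫ (resD W.ι).map (e.inv ≫ P.map r) ≫ v) (⟨⟨x, hx⟩, hxW⟩ : W)
  let R := resD T.ι
  have hv : R.map v = 0 := by
    have ev : v = (resD W.ι).map (P.map i ≫ e.hom) ≫ (resQ W.ι E).hom ≫
        ((resQ W.ι E).inv ≫ (resD W.ι).map (e.inv ≫ P.map r) ≫ v) := by
      rw [Iso.hom_inv_id_assoc, ← Functor.map_comp_assoc, Category.assoc, Iso.hom_inv_id_assoc,
        ← Functor.map_comp, hir, CategoryTheory.Functor.map_id, CategoryTheory.Functor.map_id,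
        Category.id_comp]
    rw [ev, Functor.map_comp]
    refine (congrArg (_ ≫ ·) ((Functor.map_comp _ _ _).trans ((congrArg (_ ≫ ·) hT).trans comp_zero))).trans comp_zero
  let A := (resCx T.ι).obj E₁
  let b : Q.obj A ⟶ R.obj ((resD W.ι).obj (P.obj K)) := (resQ T.ι E₁).inv ≫ R.map β
  have hb : PCMap a b := (PCMap.of_isIso _ _).comp (hβ.map _)
  obtain ⟨s, hs⟩ : ∃ s, s ≫ b = 𝟙 _ := by
    obtain ⟨s, hs⟩ := Triangle.coyoneda_exact₂ _ (R.map_distinguished _ hC) (𝟙 _) (by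
      change 𝟙 _ ≫ R.map v = 0
      rw [hv, comp_zero])
    exact ⟨s ≫ (resQ T.ι E₁).hom, by
      simp only [b, Category.assoc, Iso.hom_inv_id_assoc]
      exact hs.symm⟩
  obtain ⟨D, v', w', hD⟩ := distinguished_cocone_triangle b
  have hv' : v' = 0 := by
    rw [← Category.id_comp v', ← hs, Category.assoc,
      show b ≫ v' = 0 from comp_distTriang_mor_zero₁₂ _ hD, comp_zero]
  let Tr := (Triangle.mk b v' w').invRotate
  have hTr : Tr ∈ distinguishedTriangles := inv_rot_of_distTriang _ hD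
  have hm3 : Tr.mor₃ = 0 := by simp [Tr, hv']
  have : Mono Tr.mor₁ := Triangle.mono₁ _ hTr hm3
  have : IsSplitMono Tr.mor₁ := isSplitMono_of_mono _
  have hle : Tr.obj₁.IsLE a := by
    have := (pcMap_iff_isLE hD a).1 hb
    exact TStructure.t.isLE_shift D (a - 1) (-1) a (by omega)
  have hge : Tr.obj₁.IsGE a := by
    rw [isGE_iff]
    intro j hj
    have hz : IsZero ((homologyFunctor _ j).obj (Q.obj A)) :=
      (HomologicalComplex.ExactAt.isZero_homology (HomologicalComplex.ExactAt.of_isZero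
        (Functor.map_isZero (Scheme.Modules.restrictFunctor T.ι) (isZero_σX E₀ a hj)))).of_iso
        ((homologyFunctorFactors _ j).app A)
    rw [IsZero.iff_id_eq_zero, ← CategoryTheory.Functor.map_id, ← IsSplitMono.id Tr.mor₁, Functor.map_comp]
    exact (congrArg (_ ≫ ·) (hz.eq_of_src ((homologyFunctor _ j).map (retraction Tr.mor₁)) 0)).trans comp_zero
  have : (Tr.obj₁⟦a⟧).IsLE 0 := TStructure.t.isLE_shift _ a a 0 (by omega)
  have : (Tr.obj₁⟦a⟧).IsGE 0 := TStructure.t.isGE_shift _ a a 0 (by omega)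
  obtain ⟨M, ⟨eM⟩⟩ := exists_iso_singleFunctor_obj_of_isGE_of_isLE (Tr.obj₁⟦a⟧) 0
  have hE₁ : DCoh.IsStrictlyPerfect A := isStrictlyPerfect_restrict (isStrictlyPerfect_σGE hE₀ a) T.ι
  have hM : FlatMod.IsFinLocFree M := isFinLocFree_of_single_retract M (isStrictlyPerfect_shift hE₁ a)
    (fun i hi => Functor.map_isZero (Scheme.Modules.restrictFunctor T.ι) (isZero_σX E₀ a (show i + a < a by omega)))
    (eM.inv ≫ Tr.mor₁⟦a⟧' ≫ (Q.commShiftIso a).inv.app A)
    ((Q.commShiftIso a).hom.app A ≫ (retraction Tr.mor₁)⟦a⟧' ≫ eM.hom) (by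
      rw [Category.assoc, Category.assoc, Iso.inv_hom_id_app_assoc, ← Functor.map_comp_assoc,
        IsSplitMono.id, CategoryTheory.Functor.map_id, Category.id_comp, Iso.inv_hom_id])
  have h1 : DCoh.IsPerfect Tr.obj₁ := isPerfect_of_iso ((shiftEquiv _ a).unitIso.app Tr.obj₁).symm
    (isPerfect_shift (isPerfect_of_iso eM.symm (isPerfect_single hM 0)) (-a))
  have h2 : DCoh.IsPerfect (Q.obj A) := by
    rw [isPerfect_iff]
    exact fun y => ⟨⊤, trivial, HasPerfRep.restrict ⟨A, hE₁, ⟨Iso.refl _⟩⟩ _⟩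
  have h3 : DCoh.IsPerfect (R.obj ((resD W.ι).obj (P.obj K))) := isPerfect₃ Tr hTr h1 h2
  rw [isPerfect_iff] at h3
  obtain ⟨Z, hZ, hZ'⟩ := h3 (⟨⟨⟨x, hx⟩, hxW⟩, hxT⟩ : T)
  obtain ⟨T₁, hT₁, hT₁'⟩ := exists_open_of_pieces (P := fun {_} A => HasPerfRep A) (fun h e => h.of_iso e)
    (fun j _ h => h.restrict j) _ T Z hxT hZ hZ'
  obtain ⟨T₂, hT₂, hT₂'⟩ := exists_open_of_pieces (P := fun {_} A => HasPerfRep A) (fun h e => h.of_iso e)
    (fun j _ h => h.restrict j) _ W T₁ hxW hT₁ hT₁'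
  exact exists_open_of_pieces (P := fun {_} A => HasPerfRep A) (fun h e => h.of_iso e)
    (fun j _ h => h.restrict j) K V T₂ hx hT₂ hT₂'

end Groth.Agent.DCX42
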