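import Groth.Agent.Mod48.LocalHomotopyLift
import Mathlib.Algebra.Homology.DerivedCategory.TStructure
import Mathlib.Algebra.Homology.DerivedCategory.ExactFunctor

/-!
# Maps which are isomorphisms on cohomology in high degrees; stupid truncations
-/

set_option autoImplicit false
set_option backward.isDefEq.respectTransparency false

noncomputable section

universe w w' v v' u u'

open CategoryTheory Limits Pretriangulated DerivedCategory

namespace Groth.Agent.DCX42

variable {A : Type u} [Category.{v} A] [Abelian A]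

section Derived

variable [HasDerivedCategory.{w} A]

/-- Isomorphism on `H^i` for `i > m` and epimorphism on `H^m`. -/
def PCMap {K L : DerivedCategory A} (m : ℤ) (α : K ⟶ L) : Prop :=
  (∀ i : ℤ, m < i → IsIso ((homologyFunctor A i).map α)) ∧ Epi ((homologyFunctor A m).map α)

lemma PCMap.mono_degree {K L : DerivedCategory A} {m n : ℤ} {α : K ⟶ L} (h : PCMap m α) (hmn : m ≤ n) :
    PCMap n α := by
  refine ⟨fun i hi => h.1 i (by omega), ?_⟩
  rcases eq_or_lt_of_le hmn with rfl | hlt
  · exact h.2
  · have := h.1 n hlt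
    infer_instance

lemma PCMap.comp {K L M : DerivedCategory A} {m : ℤ} {α : K ⟶ L} {β : L ⟶ M} (h : PCMap m α)
    (h' : PCMap m β) : PCMap m (α ≫ β) := by
  refine ⟨fun i hi => ?_, ?_⟩
  · have := h.1 i hi
    have := h'.1 i hi
    rw [Functor.map_comp]
    infer_instance
  · have := h.2
    have := h'.2
    rw [Functor.map_comp]
    exact epi_comp _ _

lemma PCMap.of_isIso {K L : DerivedCategory A} (m : ℤ) (α : K ⟶ L) [IsIso α] : PCMap m α :=
  ⟨fun _ _ => inferInstance, inferInstance⟩

lemma PCMap.zero_left {K L : DerivedCategory A} {m : ℤ} (h : L.IsLE (m - 1)) (hK : IsZero K)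
    (α : K ⟶ L) : PCMap m α := by
  have hz : ∀ i, m ≤ i → IsZero ((homologyFunctor A i).obj L) := fun i hi =>
    have := h
    L.isZero_of_isLE (m - 1) i (by omega)
  have hK' : ∀ i, IsZero ((homologyFunctor A i).obj K) := fun i => Functor.map_isZero _ hK
  refine ⟨fun i hi => ⟨0, (hK' i).eq_of_src _ _, (hz i hi.le).eq_of_src _ _⟩,
    ⟨fun g₁ g₂ _ => (hz m le_rfl).eq_of_src _ _⟩⟩

/-- The cone criterion. -/
lemma pcMap_iff_isLE {K L C : DerivedCategory A} {α : K ⟶ L} {β : L ⟶ C} {γ : C ⟶ K⟦(1 : ℤ)⟧}
    (hT : Triangle.mk α β γ ∈ distinguishedTriangles) (m : ℤ) :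
    PCMap m α ↔ C.IsLE (m - 1) := by
  let T := Triangle.mk α β γ
  have hz : ∀ i, IsZero ((homologyFunctor A i).obj T.obj₃) ↔
      Epi ((homologyFunctor A i).map α) ∧ Mono ((homologyFunctor A (i + 1)).map α) := fun i => by
    constructor
    · intro h
      exact ⟨(HomologySequence.epi_homologyMap_mor₁_iff T hT i).2 (h.eq_of_tgt _ _),
        (HomologySequence.mono_homologyMap_mor₁_iff T hT i (i + 1) rfl).2 (h.eq_of_src _ _)⟩
    · rintro ⟨h1, h2⟩
      exact (HomologySequence.exact₃ T hT i (i + 1) rfl).isZero_X₂_iff.2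
        ⟨(HomologySequence.epi_homologyMap_mor₁_iff T hT i).1 h1,
          (HomologySequence.mono_homologyMap_mor₁_iff T hT i (i + 1) rfl).1 h2⟩
  rw [isLE_iff]
  constructor
  · intro h i hi
    have := h.1 (i + 1) (by omega)
    exact (hz i).2 ⟨(h.mono_degree (show m ≤ i by omega)).2, inferInstance⟩
  · intro h
    refine ⟨fun i hi => ?_, ((hz m).1 (h m (by omega))).1⟩
    obtain ⟨j, rfl⟩ : ∃ j, j + 1 = i := ⟨i - 1, by omega⟩
    have := ((hz j).1 (h j (by omega))).2
    have := ((hz (j + 1)).1 (h (j + 1) (by omega))).1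
    exact isIso_of_mono_of_epi _

lemma pcMap_Q_iff {E F : CochainComplex A ℤ} (f : E ⟶ F) (m : ℤ) :
    PCMap m (Q.map f) ↔ (∀ i : ℤ, m < i → IsIso (HomologicalComplex.homologyMap f i)) ∧
      Epi (HomologicalComplex.homologyMap f m) := by
  have e : ∀ i, Arrow.mk ((homologyFunctor A i).map (Q.map f)) ≅
      Arrow.mk (HomologicalComplex.homologyMap f i) := fun i =>
    Arrow.isoMk ((homologyFunctorFactors A i).app E) ((homologyFunctorFactors A i).app F)
      ((homologyFunctorFactors A i).hom.naturality f).symm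
  exact and_congr (forall_congr' fun i => imp_congr_right fun _ =>
    (MorphismProperty.isomorphisms A).arrow_mk_iso_iff (e i))
    ((MorphismProperty.epimorphisms A).arrow_mk_iso_iff (e m))

lemma PCMap.shift {K L : DerivedCategory A} {m : ℤ} {α : K ⟶ L} (h : PCMap m α) (n : ℤ) :
    PCMap (m - n) (α⟦n⟧') := by
  have e : ∀ i, Arrow.mk ((homologyFunctor A i).map (α⟦n⟧')) ≅
      Arrow.mk ((homologyFunctor A (n + i)).map α) := fun i =>
    Arrow.isoMk (((homologyFunctor A 0).shiftIso n i (n + i) rfl).app K)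
      (((homologyFunctor A 0).shiftIso n i (n + i) rfl).app L)
      (((homologyFunctor A 0).shiftIso n i (n + i) rfl).hom.naturality α).symm
  refine ⟨fun i hi => ((MorphismProperty.isomorphisms A).arrow_mk_iso_iff (e i)).2 (h.1 _ (by omega)),
    ((MorphismProperty.epimorphisms A).arrow_mk_iso_iff (e (m - n))).2 ?_⟩
  rw [show n + (m - n) = m by omega]
  exact h.2

variable {B : Type u'} [Category.{v'} B] [Abelian B] [HasDerivedCategory.{w'} B]
  (G : A ⥤ B) [G.Additive] [PreservesFiniteLimits G] [PreservesFiniteColimits G]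

lemma isLE_map {K : DerivedCategory A} {n : ℤ} (h : K.IsLE n) : (G.mapDerivedCategory.obj K).IsLE n := by
  obtain ⟨F, hF, ⟨e⟩⟩ := exists_iso_Q_obj_of_isLE K n
  refine ⟨(G.mapHomologicalComplex _).obj F,
    G.mapDerivedCategory.mapIso e ≪≫ G.mapDerivedCategoryFactors.app F, ?_⟩
  exact (CochainComplex.isStrictlyLE_iff _ _).2
    fun i hi => G.map_isZero (CochainComplex.isZero_of_isStrictlyLE F n i hi)

lemma PCMap.map {K L : DerivedCategory A} {m : ℤ} {α : K ⟶ L} (h : PCMap m α) :
    PCMap m (G.mapDerivedCategory.map α) := by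
  obtain ⟨C, β, γ, hT⟩ := distinguished_cocone_triangle α
  refine (pcMap_iff_isLE (G.mapDerivedCategory.map_distinguished _ hT) m).2 ?_
  exact isLE_map G ((pcMap_iff_isLE hT m).1 h)

end Derived

section Stupid

open CochainComplex

variable (E : CochainComplex A ℤ) (a : ℤ)

open Classical in
/-- The terms of the stupid truncation. -/
def σX (i : ℤ) : A := if a ≤ i then E.X i else ⊥_ A

lemma σX_of_le {i : ℤ} (h : a ≤ i) : σX E a i = E.X i := if_pos h

lemma isZero_σX {i : ℤ} (h : i < a) : IsZero (σX E a i) := by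
  rw [σX, if_neg (by omega)]
  exact (isZero_zero A).of_iso (initialIsoIsInitial ((isZero_zero A).isInitial))

/-- The inclusion in each degree. -/
def σι (i : ℤ) : σX E a i ⟶ E.X i :=
  if h : a ≤ i then eqToHom (σX_of_le E a h) else 0

/-- The differential of the stupid truncation. -/
def σd (i j : ℤ) : σX E a i ⟶ σX E a j :=
  if h : a ≤ i ∧ a ≤ j then eqToHom (σX_of_le E a h.1) ≫ E.d i j ≫ eqToHom (σX_of_le E a h.2).symm else 0

/-- The stupid truncation `σ_{≥ a}`. -/
def σGE : CochainComplex A ℤ where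
  X := σX E a
  d := σd E a
  shape i j hij := by
    unfold σd
    split_ifs with h
    · rw [E.shape i j hij, zero_comp, comp_zero]
    · rfl
  d_comp_d' i j k hij hjk := by
    unfold σd
    change i + 1 = j at hij
    change j + 1 = k at hjk
    split_ifs <;> simp

/-- The inclusion of the stupid truncation. -/
def σIncl : σGE E a ⟶ E where
  f := σι E a
  comm' i j hij := by
    change i + 1 = j at hij
    change σι E a i ≫ E.d i j = σd E a i j ≫ σι E a j
    by_cases h : a ≤ i
    · rw [σι, σι, σd, dif_pos h, dif_pos (show a ≤ i ∧ a ≤ j from ⟨h, by omega⟩), dif_pos (show a ≤ j by omega)]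
      simp
    · exact (isZero_σX E a (by omega)).eq_of_src _ _

lemma isIso_σIncl_f {i : ℤ} (h : a ≤ i) : IsIso ((σIncl E a).f i) := by
  change IsIso (σι E a i)
  rw [σι, dif_pos h]
  infer_instance

lemma σIncl_spec : (∀ i : ℤ, a < i → IsIso (HomologicalComplex.homologyMap (σIncl E a) i)) ∧
    Epi (HomologicalComplex.homologyMap (σIncl E a) a) := by
  refine ⟨fun i hi => ?_, ?_⟩
  · rw [← quasiIsoAt_iff_isIso_homologyMap, quasiIsoAt_iff' _ (i - 1) i (i + 1) (by simp) (by simp)]
    have := isIso_σIncl_f E a (show a ≤ i - 1 by omega)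
    have := isIso_σIncl_f E a (show a ≤ i by omega)
    have := isIso_σIncl_f E a (show a ≤ i + 1 by omega)
    have : Epi ((HomologicalComplex.shortComplexFunctor' A (ComplexShape.up ℤ) (i - 1) i (i + 1)).map (σIncl E a)).τ₁ :=
      inferInstanceAs (Epi ((σIncl E a).f (i - 1)))
    have : IsIso ((HomologicalComplex.shortComplexFunctor' A (ComplexShape.up ℤ) (i - 1) i (i + 1)).map (σIncl E a)).τ₂ :=
      inferInstanceAs (IsIso ((σIncl E a).f i))
    have : Mono ((HomologicalComplex.shortComplexFunctor' A (ComplexShape.up ℤ) (i - 1) i (i + 1)).map (σIncl E a)).τ₃ :=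
      inferInstanceAs (Mono ((σIncl E a).f (i + 1)))
    exact ShortComplex.quasiIso_of_epi_of_isIso_of_mono _
  · have h2 := isIso_σIncl_f E a (le_refl a)
    have h3 : Mono ((σIncl E a).f ((ComplexShape.up ℤ).next a)) := by
      have := isIso_σIncl_f E a (show a ≤ (ComplexShape.up ℤ).next a by simp)
      infer_instance
    have : IsIso (HomologicalComplex.cyclesMap (σIncl E a) a) :=
      ShortComplex.isIso_cyclesMap_of_isIso_of_mono' ((HomologicalComplex.shortComplexFunctor A _ a).map (σIncl E a)) h2 h3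
    have e := HomologicalComplex.homologyπ_naturality (σIncl E a) a
    have : Epi ((σGE E a).homologyπ a ≫ HomologicalComplex.homologyMap (σIncl E a) a) := by
      rw [e]
      exact epi_comp _ _
    exact epi_of_epi ((σGE E a).homologyπ a) _

end Stupid

end Groth.Agent.DCX42
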