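import Groth.Agent.DCX42.Local
import Groth.Agent.DCX42.Trunc

/-!
# Local approximations of objects of `D(O_X)`
-/

set_option autoImplicit false
set_option backward.isDefEq.respectTransparency false

noncomputable section

universe u

open CategoryTheory Limits AlgebraicGeometry TopologicalSpace Opposite Pretriangulated DerivedCategory

attribute [local instance] HasDerivedCategory.standard

namespace Groth.Agent.DCX42

variable {U V X : Scheme.{u}}

/-- Restriction on derived categories. -/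
abbrev resD (j : U ⟶ X) [IsOpenImmersion j] : DCoh.D X ⥤ DCoh.D U :=
  (Scheme.Modules.restrictFunctor j).mapDerivedCategory

/-- Restriction of the image of a complex. -/
def resQ (j : U ⟶ X) [IsOpenImmersion j] (F : CochainComplex X.Modules ℤ) :
    (resD j).obj (Q.obj F) ≅ Q.obj ((resCx j).obj F) :=
  (Scheme.Modules.restrictFunctor j).mapDerivedCategoryFactors.app F

/-- Representatives. -/
def rep (K : DCoh.D X) : Q.obj (Q.objPreimage K) ≅ K := Q.objObjPreimageIso K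

/-- The quasi-isomorphisms. -/
abbrev qis (X : Scheme.{u}) : MorphismProperty (CochainComplex X.Modules ℤ) :=
  HomologicalComplex.quasiIso X.Modules (ComplexShape.up ℤ)

/-- Restriction along a composite. -/
def resDComp (i : V ⟶ U) (j : U ⟶ X) [IsOpenImmersion i] [IsOpenImmersion j] :
    resD j ⋙ resD i ≅ resD (i ≫ j) :=
  let e₁ := (Scheme.Modules.restrictFunctor j).mapDerivedCategoryFactors
  let e₂ := (Scheme.Modules.restrictFunctor i).mapDerivedCategoryFactors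
  letI : Localization.Lifting Q (qis X) ((resCx j ⋙ resCx i) ⋙ Q) (resD j ⋙ resD i) :=
    ⟨(Functor.associator _ _ _).symm ≪≫ Functor.isoWhiskerRight e₁ _ ≪≫ Functor.associator _ _ _ ≪≫
      Functor.isoWhiskerLeft _ e₂ ≪≫ (Functor.associator _ _ _).symm⟩
  letI : Localization.Lifting Q (qis X) (resCx (i ≫ j) ⋙ Q) (resD (i ≫ j)) :=
    ⟨(Scheme.Modules.restrictFunctor (i ≫ j)).mapDerivedCategoryFactors⟩
  Localization.liftNatIso Q (qis X) ((resCx j ⋙ resCx i) ⋙ Q) (resCx (i ≫ j) ⋙ Q) _ _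
    (Functor.isoWhiskerRight (resCompCx i j) Q)

/-- Restriction along equal immersions. -/
def resDCongr {i j : U ⟶ X} (h : i = j) [IsOpenImmersion i] [IsOpenImmersion j] :
    resD i ≅ resD j :=
  letI : Localization.Lifting Q (qis X) (resCx i ⋙ Q) (resD i) :=
    ⟨(Scheme.Modules.restrictFunctor i).mapDerivedCategoryFactors⟩
  letI : Localization.Lifting Q (qis X) (resCx j ⋙ Q) (resD j) :=
    ⟨(Scheme.Modules.restrictFunctor j).mapDerivedCategoryFactors⟩
  Localization.liftNatIso Q (qis X) (resCx i ⋙ Q) (resCx j ⋙ Q) _ _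
    (Functor.isoWhiskerRight (resCongrCx h) Q)

/-- An approximation by a strictly perfect complex in degrees `≥ m`. -/
def HasPCApprox (m : ℤ) (K : DCoh.D X) : Prop :=
  ∃ (E : CochainComplex X.Modules ℤ) (α : Q.obj E ⟶ K), DCoh.IsStrictlyPerfect E ∧ PCMap m α

/-- An isomorphism with a strictly perfect complex. -/
def HasPerfRep (K : DCoh.D X) : Prop :=
  ∃ E : CochainComplex X.Modules ℤ, DCoh.IsStrictlyPerfect E ∧ Nonempty (K ≅ Q.obj E)

lemma HasPCApprox.of_iso {m : ℤ} {K L : DCoh.D X} (h : HasPCApprox m K) (e : K ≅ L) : HasPCApprox m L := by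
  obtain ⟨E, α, hE, hα⟩ := h
  exact ⟨E, α ≫ e.hom, hE, hα.comp (PCMap.of_isIso m _)⟩

lemma HasPerfRep.of_iso {K L : DCoh.D X} (h : HasPerfRep K) (e : K ≅ L) : HasPerfRep L := by
  obtain ⟨E, hE, ⟨i⟩⟩ := h
  exact ⟨E, hE, ⟨e.symm ≪≫ i⟩⟩

lemma HasPCApprox.restrict {m : ℤ} {K : DCoh.D X} (h : HasPCApprox m K) (j : U ⟶ X) [IsOpenImmersion j] :
    HasPCApprox m ((resD j).obj K) := by
  obtain ⟨E, α, hE, hα⟩ := h
  exact ⟨(resCx j).obj E, (resQ j E).inv ≫ (resD j).map α, isStrictlyPerfect_restrict hE j,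
    (PCMap.of_isIso m _).comp (hα.map _)⟩

lemma HasPerfRep.restrict {K : DCoh.D X} (h : HasPerfRep K) (j : U ⟶ X) [IsOpenImmersion j] :
    HasPerfRep ((resD j).obj K) := by
  obtain ⟨E, hE, ⟨e⟩⟩ := h
  exact ⟨(resCx j).obj E, isStrictlyPerfect_restrict hE j, ⟨(resD j).mapIso e ≪≫ resQ j E⟩⟩

/-- A property which holds near every point. -/
def Loc (P : ∀ {S : Scheme.{u}}, DCoh.D S → Prop) (K : DCoh.D X) : Prop :=
  ∀ x : X, ∃ V : X.Opens, x ∈ V ∧ P ((resD V.ι).obj K)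

lemma isPC_iff (m : ℤ) (K : DCoh.D X) :
    DCoh.IsPseudoCoherentD m K ↔ Loc (fun {_} L => HasPCApprox m L) K := by
  refine forall_congr' fun x => exists_congr fun V => and_congr_right fun _ => ⟨fun h => ?_, fun h F ⟨e⟩ => ?_⟩
  · obtain ⟨E, α, hE, h1, h2⟩ := h (Q.objPreimage K) ⟨rep K⟩
    exact ⟨E, α ≫ (resQ V.ι _).inv ≫ (resD V.ι).map (rep K).hom, hE,
      (show PCMap m α from ⟨h1, h2⟩).comp (PCMap.of_isIso m _)⟩
  · obtain ⟨E, α, hE, h1, h2⟩ := h.of_iso ((resD V.ι).mapIso e.symm ≪≫ resQ V.ι F)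
    exact ⟨E, α, hE, h1, h2⟩

lemma isPerfect_iff (K : DCoh.D X) :
    DCoh.IsPerfect K ↔ Loc (fun {_} L => HasPerfRep L) K := by
  refine forall_congr' fun x => exists_congr fun V => and_congr_right fun _ => ⟨fun h => ?_, fun h F ⟨e⟩ => ?_⟩
  · obtain ⟨E, hE, ⟨i⟩⟩ := h (Q.objPreimage K) ⟨rep K⟩
    exact ⟨E, hE, ⟨(resD V.ι).mapIso (rep K).symm ≪≫ resQ V.ι _ ≪≫ i⟩⟩
  · exact h.of_iso ((resD V.ι).mapIso e.symm ≪≫ resQ V.ι F)

/-- Passing from a piece of a piece to an open of the whole scheme. -/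
lemma exists_open_of_pieces {P : ∀ {S : Scheme.{u}}, DCoh.D S → Prop}
    (hiso : ∀ {S : Scheme.{u}} {A B : DCoh.D S}, P A → (A ≅ B) → P B)
    (hres : ∀ {S T : Scheme.{u}} {A : DCoh.D S} (j : T ⟶ S) [IsOpenImmersion j], P A → P ((resD j).obj A))
    (K : DCoh.D X) (V : X.Opens) (W : (V : Scheme.{u}).Opens) {x : X} (hx : x ∈ V)
    (hW : (⟨x, hx⟩ : V) ∈ W) (h : P ((resD W.ι).obj ((resD V.ι).obj K))) :
    ∃ T : X.Opens, x ∈ T ∧ P ((resD T.ι).obj K) := by
  obtain ⟨e, he, hfac⟩ := exists_opens_iso (W.ι ≫ V.ι)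
  exact ⟨_, mem_opensRange V W hx hW,
    hiso (hres e (hiso h ((resDComp W.ι V.ι).app K))) ((resDComp e (W.ι ≫ V.ι)).app K ≪≫ (resDCongr hfac).app K)⟩

/-- Shrinking to a common open. -/
lemma exists_inf {P : ∀ {S : Scheme.{u}}, DCoh.D S → Prop}
    (hiso : ∀ {S : Scheme.{u}} {A B : DCoh.D S}, P A → (A ≅ B) → P B)
    (hres : ∀ {S T : Scheme.{u}} {A : DCoh.D S} (j : T ⟶ S) [IsOpenImmersion j], P A → P ((resD j).obj A))
    (K : DCoh.D X) {V W : X.Opens} (h : W ≤ V) (hP : P ((resD V.ι).obj K)) : P ((resD W.ι).obj K) :=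
  hiso (hres (X.homOfLE h) hP) ((resDComp (X.homOfLE h) V.ι).app K ≪≫ (resDCongr (X.homOfLE_ι h)).app K)

/-- A map out of a strictly perfect complex, vanishing in low degrees, into an object with cohomology
in low degrees vanishes locally. -/
theorem exists_map_eq_zero {E : CochainComplex X.Modules ℤ} (hE : DCoh.IsStrictlyPerfect E) {a : ℤ}
    (hEa : ∀ i < a, IsZero (E.X i)) {C : DCoh.D X} (hC : C.IsLE (a - 1)) (φ : Q.obj E ⟶ C) (x : X) :
    ∃ W : X.Opens, x ∈ W ∧ (resD W.ι).map φ = 0 := by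
  obtain ⟨F, hF, ⟨e⟩⟩ := exists_iso_Q_obj_of_isLE C (a - 1)
  obtain ⟨W, β, hx, hβ⟩ := exists_rep hE (φ ≫ e.hom) x
  obtain ⟨T, hT, ⟨H⟩⟩ := exists_null β (isStrictlyPerfect_restrict hE W.ι) a
    (fun i hi => Functor.map_isZero (Scheme.Modules.restrictFunctor W.ι) (hEa i hi))
    (fun i hi => HomologicalComplex.ExactAt.of_isZero
      (Functor.map_isZero (Scheme.Modules.restrictFunctor W.ι)
        (CochainComplex.isZero_of_isStrictlyLE F (a - 1) i (by omega)))) ⟨x, hx⟩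
  have h0 : (resD T.ι).map ((resD W.ι).map φ) = 0 := by
    rw [← cancel_mono ((resD T.ι).map ((resD W.ι).map e.hom)), ← Functor.map_comp, ← Functor.map_comp,
      hβ, zero_comp]
    have h1 : (resD T.ι).map (Q.map β) = 0 := by
      rw [← cancel_mono ((Scheme.Modules.restrictFunctor T.ι).mapDerivedCategoryFactors.hom.app _), zero_comp]
      refine ((Scheme.Modules.restrictFunctor T.ι).mapDerivedCategoryFactors.hom.naturality β).trans ?_
      change _ ≫ Q.map ((resCx T.ι).map β) = 0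
      rw [DerivedCategory.Q_map_eq_of_homotopy _ H, Functor.map_zero, comp_zero]
    simp [h1]
  obtain ⟨i, _, hi⟩ := exists_opens_iso (T.ι ≫ W.ι)
  refine ⟨_, mem_opensRange W T hx hT, ?_⟩
  let n : resD W.ι ⋙ resD T.ι ⋙ resD i ≅ resD (T.ι ≫ W.ι).opensRange.ι :=
    (Functor.associator _ _ _).symm ≪≫ Functor.isoWhiskerRight (resDComp T.ι W.ι) _ ≪≫
      resDComp i (T.ι ≫ W.ι) ≪≫ resDCongr hi
  rw [← NatIso.naturality_1 n φ]
  simp [h0]

end Groth.Agent.DCX42
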