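import Mathlib.Algebra.Homology.DerivedCategory.ExactFunctor
import Mathlib.CategoryTheory.Localization.Adjunction
import Groth.Agent.DerAdj43.Basic

/-! The adjunction on derived categories induced by an adjunction of exact functors. -/

universe w w' v v' u u'

open CategoryTheory Limits

namespace Groth.Agent.DCX42

variable {A : Type u} [Category.{v} A] [Abelian A] [HasDerivedCategory.{w} A]
  {B : Type u'} [Category.{v'} B] [Abelian B] [HasDerivedCategory.{w'} B]
  {L : A ⥤ B} {R : B ⥤ A} [L.Additive] [R.Additive]
  [PreservesFiniteLimits L] [PreservesFiniteColimits L]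
  [PreservesFiniteLimits R] [PreservesFiniteColimits R] (adj : L ⊣ R)

/-- The adjunction on derived categories induced by an adjunction of exact functors. -/
noncomputable def derAdjExact : L.mapDerivedCategory ⊣ R.mapDerivedCategory :=
  letI : CatCommSq (L.mapHomologicalComplex (ComplexShape.up ℤ)) (DerivedCategory.Q (C := A))
      (DerivedCategory.Q (C := B)) L.mapDerivedCategory := ⟨L.mapDerivedCategoryFactors.symm⟩
  letI : CatCommSq (R.mapHomologicalComplex (ComplexShape.up ℤ)) (DerivedCategory.Q (C := B))
      (DerivedCategory.Q (C := A)) R.mapDerivedCategory := ⟨R.mapDerivedCategoryFactors.symm⟩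
  (DerAdj43.complexAdj adj (ComplexShape.up ℤ)).localization DerivedCategory.Q
    (HomologicalComplex.quasiIso A (ComplexShape.up ℤ)) DerivedCategory.Q
    (HomologicalComplex.quasiIso B (ComplexShape.up ℤ)) L.mapDerivedCategory R.mapDerivedCategory

/-- The derived counit is invertible where the counit on complexes is. -/
lemma isIso_derAdjExact_counit (K : CochainComplex B ℤ)
    [IsIso ((DerAdj43.complexAdj adj (ComplexShape.up ℤ)).counit.app K)] :
    IsIso ((derAdjExact adj).counit.app (DerivedCategory.Q.obj K)) := by
  rw [derAdjExact, Adjunction.localization_counit_app]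
  infer_instance

end Groth.Agent.DCX42
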