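import Groth.Agent.Mod48.EquivCohIn
import Groth.Agent.DR39.Hom
import Mathlib.CategoryTheory.Adjunction.FullyFaithful

/-!
# Testing maps of a derived category against objects with cohomology in one degree
-/

set_option autoImplicit false
set_option backward.isDefEq.respectTransparency false

universe w w' v v' u u'

open CategoryTheory Limits DerivedCategory

noncomputable section

namespace Groth.Agent.DCX42

variable {A : Type u} [Category.{v} A] [Abelian A] [HasDerivedCategory.{w} A]
  {B : Type u'} [Category.{v'} B] [Abelian B] [HasDerivedCategory.{w'} B]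

/-- Maps out of `Z` into `E` are detected on `Hⁿ`. -/
def HB (n : ℤ) (Z E : DerivedCategory A) : Prop :=
  Function.Bijective fun g : Z ⟶ E => (homologyFunctor A n).map g

lemma HB.of_iso {n : ℤ} {Z Z' E : DerivedCategory A} (h : HB n Z E) (e : Z ≅ Z') : HB n Z' E := by
  have : (fun g : Z' ⟶ E => (homologyFunctor A n).map g) =
      (((homologyFunctor A n).mapIso e).homFromEquiv) ∘
        (fun g : Z ⟶ E => (homologyFunctor A n).map g) ∘ e.homFromEquiv.symm := by
    funext g
    simp [Iso.homFromEquiv]
  rw [HB, this]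
  exact ((Equiv.bijective _).comp (h.comp (Equiv.bijective _)))

lemma HB.single {P : A} {E : DerivedCategory A} (h : Function.Bijective (DR39.homToH0 P E)) :
    HB 0 ((singleFunctor A 0).obj P) E := by
  have : (fun g : (singleFunctor A 0).obj P ⟶ E => (homologyFunctor A 0).map g) =
      (DR39.singleH0Iso P).symm.homFromEquiv ∘ DR39.homToH0 P E := by
    funext g
    simp [Iso.homFromEquiv, DR39.homToH0]
  rw [HB, this]
  exact (Equiv.bijective _).comp h

lemma HB.shift {n : ℤ} {Z E : DerivedCategory A} (h : HB 0 Z (E⟦n⟧)) : HB n (Z⟦-n⟧) E := by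
  let σ := (homologyFunctor A 0).shiftIso n 0 n (by omega)
  have h' := h.of_iso (((shiftEquiv (DerivedCategory A) n).counitIso.app Z).symm :
    Z ≅ (Z⟦-n⟧)⟦n⟧)
  have : (fun g : Z⟦-n⟧ ⟶ E => (homologyFunctor A n).map g) =
      (Iso.homCongr (σ.app _) (σ.app _)) ∘
        (fun g : (Z⟦-n⟧)⟦n⟧ ⟶ E⟦n⟧ => (homologyFunctor A 0).map g) ∘
          (fun g : Z⟦-n⟧ ⟶ E => g⟦n⟧') := by
    funext g
    simp only [Function.comp_apply, Iso.homCongr_apply, Iso.app_inv, Iso.app_hom]
    rw [← cancel_epi (σ.hom.app _)]
    simp only [Iso.hom_inv_id_app_assoc]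
    exact (σ.hom.naturality g).symm
  rw [HB, this]
  exact (Equiv.bijective _).comp (h'.comp ((Functor.FullyFaithful.ofFullyFaithful (shiftFunctor (DerivedCategory A) n)).map_bijective _ _))

variable (L : A ⥤ B) [L.Additive] [PreservesFiniteLimits L] [PreservesFiniteColimits L]

lemma map_bijective_of_HB [L.Full] [L.Faithful] {n : ℤ} {Z M : DerivedCategory A} (h : HB n Z M)
    (h' : HB n (L.mapDerivedCategory.obj Z) (L.mapDerivedCategory.obj M)) :
    Function.Bijective fun f : Z ⟶ M => L.mapDerivedCategory.map f := by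
  refine (Function.Bijective.of_comp_iff' h' _).1 ?_
  let η := Mod48.homologyMapDerivedIso L n
  have : (fun g => (homologyFunctor B n).map g) ∘ (fun f : Z ⟶ M => L.mapDerivedCategory.map f) =
      (Iso.homCongr (η.app Z).symm (η.app M).symm) ∘ (fun g => L.map g) ∘
        (fun f : Z ⟶ M => (homologyFunctor A n).map f) := by
    funext f
    simp only [Function.comp_apply, Iso.homCongr_apply, Iso.symm_inv, Iso.symm_hom, Iso.app_inv, Iso.app_hom]
    rw [← Category.assoc, eq_comm, ← cancel_mono (η.hom.app M)]
    simp only [Category.assoc, Iso.inv_hom_id_app]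
    erw [Category.comp_id]
    exact (η.hom.naturality f).symm
  rw [this]
  exact (Equiv.bijective _).comp ((Functor.FullyFaithful.map_bijective (Functor.FullyFaithful.ofFullyFaithful L) _ _).comp h)

omit [HasDerivedCategory B] in
lemma bijective_comp_homology {n : ℤ} {Z E E' : DerivedCategory A} (f : E ⟶ E') (h : HB n Z E) (h' : HB n Z E')
    (hf : Function.Bijective fun g : Z ⟶ E => g ≫ f) :
    Function.Bijective fun g : (homologyFunctor A n).obj Z ⟶ (homologyFunctor A n).obj E =>
      g ≫ (homologyFunctor A n).map f := by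
  refine (Function.Bijective.of_comp_iff _ h).1 ?_
  have : ((fun g => g ≫ (homologyFunctor A n).map f) ∘ fun g : Z ⟶ E => (homologyFunctor A n).map g) =
      (fun g : Z ⟶ E' => (homologyFunctor A n).map g) ∘ fun g : Z ⟶ E => g ≫ f := by
    funext g
    simp
  rw [this]
  exact h'.comp hf

omit [HasDerivedCategory A] [HasDerivedCategory B] in
lemma bijective_comp_of_iso {P Q E E' : A} (e : P ≅ Q) (f : E ⟶ E')
    (h : Function.Bijective fun g : P ⟶ E => g ≫ f) : Function.Bijective fun g : Q ⟶ E => g ≫ f := by
  have : (fun g : Q ⟶ E => g ≫ f) = e.homFromEquiv ∘ (fun g : P ⟶ E => g ≫ f) ∘ e.homFromEquiv.symm := by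
    funext g
    simp [Iso.homFromEquiv]
  rw [this]
  exact (Equiv.bijective _).comp (h.comp (Equiv.bijective _))

end Groth.Agent.DCX42
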