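import Groth.Agent.CohDer42.BrownGroth
import Groth.Agent.QExact41.Derived
import Groth.Agent.QCohTens72.Coprod

/-!
# The internal hom of `D(O_X)` exists

`- ⊗^L E` on `D(O_X)` preserves coproducts and distinguished triangles, so by Brown representability it has a
right adjoint, for every complex `E`.
-/

set_option autoImplicit false
set_option linter.style.haveILetI false
set_option linter.unusedSectionVars false
set_option backward.isDefEq.respectTransparency false

noncomputable section

universe w v u u' v'

open CategoryTheory Limits Pretriangulated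

namespace Groth.Agent.DCX42.HasRHom

variable {A : Type u} [Category.{v} A] [Abelian A] [IsGrothendieckAbelian.{v} A]

section Small

variable [HasDerivedCategory.{v} A]

open Pretriangulated.Opposite in
/-- A triangle preserving functor preserving coproducts has a right adjoint. -/
theorem isLeftAdjoint_of_triLike (F : DerivedCategory A ⥤ DerivedCategory A) (hF : QExact41.TriLike F)
    [∀ (ι : Type v), PreservesColimitsOfShape (Discrete ι) F] : F.IsLeftAdjoint := by
  haveI := hF.additive
  have hop : ∀ κ : Type v, PreservesLimitsOfShape (Discrete κ) F.op := fun κ => by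
    have : PreservesColimitsOfShape (Discrete κ)ᵒᵖ F :=
      preservesColimitsOfShape_of_equiv (Discrete.opposite κ).symm F
    exact preservesLimitsOfShape_op _ F
  have hhom : ∀ Y : DerivedCategory A, (F.op ⋙ preadditiveYoneda.obj Y).IsHomological := fun Y =>
    { exact := fun T hT => by
        rw [mem_distTriang_op_iff] at hT
        obtain ⟨δ, hδ⟩ := hF _ hT
        rw [ShortComplex.ab_exact_iff]
        intro x hx
        obtain ⟨g, hg⟩ := Triangle.yoneda_exact₂ _ hδ x hx
        exact ⟨g, hg.symm⟩ }
  have hrep : ∀ Y : DerivedCategory A,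
      ((F.op ⋙ preadditiveYoneda.obj Y) ⋙ forget AddCommGrpCat.{v}).IsRepresentable :=
    fun Y => CohDer42.BrownGroth.brown (F.op ⋙ preadditiveYoneda.obj Y)
  let e : ∀ (X : DerivedCategory A) (Y : DerivedCategory A),
      (F.obj X ⟶ Y) ≃ (X ⟶ ((F.op ⋙ preadditiveYoneda.obj Y) ⋙ forget _).reprX (hF := hrep Y)) :=
    fun X Y => (((F.op ⋙ preadditiveYoneda.obj Y) ⋙ forget _).representableBy (hF := hrep Y)).homEquiv.symm
  have he : ∀ X' X Y f g, e X' Y (F.map f ≫ g) = f ≫ e X Y g := by
    intro X' X Y f g
    let r := ((F.op ⋙ preadditiveYoneda.obj Y) ⋙ forget _).representableBy (hF := hrep Y)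
    apply r.homEquiv.injective
    change r.homEquiv (r.homEquiv.symm _) = r.homEquiv (f ≫ r.homEquiv.symm g)
    rw [r.homEquiv_comp, Equiv.apply_symm_apply, Equiv.apply_symm_apply]
    rfl
  exact (Adjunction.adjunctionOfEquivRight e he).isLeftAdjoint

/-- The same for a functor on any model of the derived category. -/
theorem isLeftAdjoint_of_model {C : Type u'} [Category.{v'} C] (L : CochainComplex A ℤ ⥤ C)
    [L.IsLocalization (HomologicalComplex.quasiIso A (ComplexShape.up ℤ))] (F : C ⥤ C)
    (G : CochainComplex A ℤ ⥤ CochainComplex A ℤ) [G.PreservesZeroMorphisms]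
    (hG : ∀ S : ShortComplex (CochainComplex A ℤ),
      (∀ n, Nonempty (S.map (HomologicalComplex.eval A (ComplexShape.up ℤ) n)).Splitting) → (S.map G).ShortExact)
    (e : G ⋙ L ≅ L ⋙ F) [∀ (ι : Type v), PreservesColimitsOfShape (Discrete ι) F] : F.IsLeftAdjoint := by
  let W := HomologicalComplex.quasiIso A (ComplexShape.up ℤ)
  let E : DerivedCategory A ≌ C := Localization.uniq DerivedCategory.Q L W
  let F' : DerivedCategory A ⥤ DerivedCategory A := E.functor ⋙ F ⋙ E.inverse
  let e' : G ⋙ DerivedCategory.Q ≅ DerivedCategory.Q ⋙ F' :=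
    Functor.isoWhiskerLeft G (Localization.compUniqInverse DerivedCategory.Q L W).symm ≪≫
      (Functor.associator _ _ _).symm ≪≫ Functor.isoWhiskerRight e E.inverse ≪≫ Functor.associator _ _ _ ≪≫
      Functor.isoWhiskerRight (Localization.compUniqFunctor DerivedCategory.Q L W).symm (F ⋙ E.inverse) ≪≫
      Functor.associator _ _ _
  haveI : F'.IsLeftAdjoint := isLeftAdjoint_of_triLike F' (QExact41.triLike_of_model F' G hG e')
  let eF : E.inverse ⋙ F' ⋙ E.functor ≅ F :=
    Functor.isoWhiskerLeft E.inverse (Functor.associator _ _ _ ≪≫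
      Functor.isoWhiskerLeft E.functor (Functor.associator _ _ _ ≪≫
        Functor.isoWhiskerLeft F E.counitIso ≪≫ F.rightUnitor)) ≪≫
      (Functor.associator _ _ _).symm ≪≫ Functor.isoWhiskerRight E.counitIso F ≪≫ F.leftUnitor
  exact Functor.isLeftAdjoint_of_iso eF

end Small

end Groth.Agent.DCX42.HasRHom

namespace Groth.Agent.DCX42

open AlgebraicGeometry

attribute [local instance] HasDerivedCategory.standard

universe t

variable {X : Scheme.{t}}

/-- `- ⊗^L E` has a right adjoint on `D(O_X)`. -/
theorem hasRSheafHom (E : CochainComplex X.Modules ℤ) [DCoh.HasLTensorCx E] : DCoh.HasRSheafHom E := by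
  haveI : ModSite.HasLTensorCx (O := X.sheaf) E := ‹DCoh.HasLTensorCx E›
  obtain ⟨P, p, hP, -, hp, -⟩ := Mod48.exists_resolution (O := X.sheaf) E
  haveI := hp
  obtain ⟨e⟩ := FlatModel41.nonempty_LTensorCx_iso (O := X.sheaf) E P hP p
  haveI : ∀ (ι : Type t), PreservesColimitsOfShape (Discrete ι) (DCoh.LTensorCx E) := fun ι =>
    ⟨fun {K} => by
      haveI := QCohTens72.preservesColimit_LTensorCx E (ι := ι) (K.obj ∘ Discrete.mk)
      exact preservesColimit_of_iso_diagram (DCoh.LTensorCx E) Discrete.natIsoFunctor.symm⟩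
  letI small : HasDerivedCategory.{t} X.Modules := CohDer42.hasDerivedCategorySmall _ fun M => by
    obtain ⟨I, f, h₁, h₂, -⟩ := CohDer42.exists_kinjective_resolution M
    exact ⟨I, f, h₁, h₂⟩
  haveI : ((ModSite.tensorCx X.sheaf).flip.obj P).Additive := Mod48.additive_tensorCx_flip_obj P
  exact @HasRHom.isLeftAdjoint_of_model X.Modules _ _ _ small (DCoh.D X) _
    (@DerivedCategory.Q X.Modules _ _ (HasDerivedCategory.standard _)) (by infer_instance)
    (DCoh.LTensorCx E) ((ModSite.tensorCx X.sheaf).flip.obj P) _
    (fun S hS => Mod48.shortExact_tensorCx_flip_obj_of_split P S hS) e _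

end Groth.Agent.DCX42
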