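import Groth.Agent.Mod48.TcAssoc

/-!
# Naturality of the associativity of the total tensor product
-/

set_option autoImplicit false
set_option linter.style.haveILetI false
set_option backward.isDefEq.respectTransparency false
set_option maxHeartbeats 1000000

noncomputable section

universe u

open CategoryTheory Limits HomologicalComplex

namespace Groth.Agent.DCX42

open Groth.Agent.Mod48

variable {C : Type u} [SmallCategory C] {J : GrothendieckTopology C} {O : Sheaf J CommRingCat.{u}}

lemma tcAssoc_hom_f (F K L : CC O) (j : ℤ) (p q r : ℤ) (h : p + q + r = j) :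
    ((ModSite.tensorBi O).map (ιMapBifunctor F K (ModSite.tensorBi O) (ComplexShape.up ℤ) p q (p + q) rfl)).app (L.X r) ≫
      ιMapBifunctor (tc F K) L (ModSite.tensorBi O) (ComplexShape.up ℤ) (p + q) r j h ≫ (tcAssoc F K L).hom.f j =
    (assocApp (F.X p) (K.X q) (L.X r)).hom ≫
      ((ModSite.tensorBi O).obj (F.X p)).map
        (ιMapBifunctor K L (ModSite.tensorBi O) (ComplexShape.up ℤ) q r (q + r) rfl) ≫
      ιMapBifunctor F (tc K L) (ModSite.tensorBi O) (ComplexShape.up ℤ) p (q + r) j
        ((add_assoc p q r).symm.trans h) := by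
  haveI : ∀ A : ModSite.Mod O, ((ModSite.tensorBi O).obj A).Additive := fun A => inferInstanceAs (tL A).Additive
  have h1 := mapBifunctor₁₂.ι_eq (ModSite.tensorBi O) (ModSite.tensorBi O) F K L (ComplexShape.up ℤ)
    (ComplexShape.up ℤ) p q r (p + q) j rfl h
  have h2 := mapBifunctor₂₃.ι_eq (ModSite.tensorBi O) (ModSite.tensorBi O) F K L (ComplexShape.up ℤ)
    (ComplexShape.up ℤ) (ComplexShape.up ℤ) p q r (q + r) j rfl ((add_assoc p q r).symm.trans h)
  rw [← Category.assoc]
  erw [← h1, ← h2]
  exact ι_mapBifunctorAssociatorX_hom tensorBiAssoc F K L (ComplexShape.up ℤ) (ComplexShape.up ℤ)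
    (ComplexShape.up ℤ) p q r j h

/-- The associativity of the total tensor product is natural in the first variable. -/
theorem tcAssoc_natural {F G : CC O} (g : F ⟶ G) (K L : CC O) :
    ((ModSite.tensorCx O).flip.obj L).map (((ModSite.tensorCx O).flip.obj K).map g) ≫ (tcAssoc G K L).hom =
      (tcAssoc F K L).hom ≫ ((ModSite.tensorCx O).flip.obj (tc K L)).map g := by
  haveI : ∀ A : ModSite.Mod O, ((ModSite.tensorBi O).obj A).Additive := fun A => inferInstanceAs (tL A).Additive
  refine HomologicalComplex.hom_ext _ _ fun j => ?_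
  refine mapBifunctor₁₂.hom_ext (F₁₂ := ModSite.tensorBi O) (G := ModSite.tensorBi O) fun p q r h => ?_
  rw [mapBifunctor₁₂.ι_eq (ModSite.tensorBi O) (ModSite.tensorBi O) F K L (ComplexShape.up ℤ)
    (ComplexShape.up ℤ) p q r (p + q) j rfl h]
  change (_ ≫ _) ≫ (mapBifunctorMap (mapBifunctorMap g (𝟙 K) _ _) (𝟙 L) _ _).f j ≫ _ =
    (_ ≫ _) ≫ (tcAssoc F K L).hom.f j ≫ (mapBifunctorMap g (𝟙 (tc K L)) _ _).f j
  simp only [Category.assoc, ι_mapBifunctorMap_assoc, id_f, CategoryTheory.Functor.map_id, Category.id_comp]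
  rw [← NatTrans.comp_app_assoc, ← Functor.map_comp, ι_mapBifunctorMap, id_f, CategoryTheory.Functor.map_id,
    Category.id_comp, Functor.map_comp, NatTrans.comp_app, Category.assoc, tcAssoc_hom_f,
    reassoc_of% (tcAssoc_hom_f F K L j p q r h), ι_mapBifunctorMap]
  have hn := assocApp_nat₁ (g.f p) (K.X q) (L.X r)
  refine ((Category.assoc _ _ _).symm.trans ((congrArg (· ≫ _) hn).trans (Category.assoc _ _ _))).trans ?_
  rw [id_f, CategoryTheory.Functor.map_id, Category.id_comp]
  exact congrArg (_ ≫ ·) (((ModSite.tensorBi O).map (g.f p)).naturality_assoc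
    (ιMapBifunctor K L (ModSite.tensorBi O) (ComplexShape.up ℤ) q r (q + r) rfl) _).symm

end Groth.Agent.DCX42
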