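import Groth.Agent.DCX42.RHomTri
import Groth.Agent.DCX42.TcAssocNat

/-!
# `(- ⊗^L K) ⊗^L L = - ⊗^L (K ⊗ L)` for K-flat `L`
-/

set_option autoImplicit false
set_option linter.style.haveILetI false
set_option backward.isDefEq.respectTransparency.types false
set_option maxHeartbeats 400000

noncomputable section

universe u

open CategoryTheory Limits AlgebraicGeometry DerivedCategory

attribute [local instance] HasDerivedCategory.standard

namespace Groth.Agent.DCX42.RHomCalc

open Groth.Agent.Mod48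

variable {X : Scheme.{u}}

attribute [local instance] hasLT hasRSheafHom

/-- The counit of `- ⊗^L L` is invertible everywhere for K-flat `L`. -/
theorem isIso_cn_of_isKFlat (L : CochainComplex X.Modules ℤ) (hL : DCoh.IsKFlat L)
    (F : CochainComplex X.Modules ℤ) : IsIso ((cn L).app F) := by
  obtain ⟨P, p, hP, hp⟩ := DCK91.res₀ X F
  haveI := hp
  haveI := isIso_cn L P hP.1
  haveI : QuasiIso p := (DerivedCategory.isIso_Q_map_iff_quasiIso X.Modules p).1 hp
  haveI : IsIso (Q.map (((DCoh.tensorCx (X := X)).flip.obj L).map p)) :=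
    (DerivedCategory.isIso_Q_map_iff_quasiIso X.Modules _).2 (DCK91.quasiIso_right (O := X.sheaf) L hL p ‹_›)
  have h := (cn L).naturality p
  haveI : IsIso ((Q ⋙ DCoh.LTensorCx L).map p) := inferInstanceAs (IsIso ((DCoh.LTensorCx L).map (Q.map p)))
  haveI : IsIso ((Q ⋙ DCoh.LTensorCx L).map p ≫ (cn L).app F) := by
    rw [h]
    exact inferInstanceAs (IsIso (_ ≫ Q.map (((DCoh.tensorCx (X := X)).flip.obj L).map p)))
  exact IsIso.of_isIso_comp_left ((Q ⋙ DCoh.LTensorCx L).map p) ((cn L).app F)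

/-- The comparison of `(F ⊗^L K) ⊗^L L` with `F ⊗ (K ⊗ L)`. -/
def compCn (K L : CochainComplex X.Modules ℤ) :
    Q ⋙ DCoh.LTensorCx K ⋙ DCoh.LTensorCx L ⟶ DCoh.tensorCxQ ((DCoh.tensorCx.obj K).obj L) :=
  (Functor.associator _ _ _).inv ≫ Functor.whiskerRight (cn K) (DCoh.LTensorCx L) ≫
    (Functor.associator _ _ _).hom ≫ Functor.whiskerLeft ((DCoh.tensorCx (X := X)).flip.obj K) (cn L) ≫
      { app := fun F => Q.map (tcAssoc (O := X.sheaf) F K L).hom
        naturality := fun {F G} g => by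
          refine (Q.map_comp _ _).symm.trans ((congrArg Q.map ?_).trans (Q.map_comp _ _))
          exact tcAssoc_natural (O := X.sheaf) g K L }

theorem isIso_compCn (K L : CochainComplex X.Modules ℤ) (hL : DCoh.IsKFlat L) (P : CochainComplex X.Modules ℤ)
    (hP : DCoh.IsKFlat P) : IsIso ((compCn K L).app P) := by
  haveI := isIso_cn K P hP
  haveI := isIso_cn_of_isKFlat L hL (((DCoh.tensorCx (X := X)).flip.obj K).obj P)
  simp only [compCn, NatTrans.comp_app, Functor.associator_inv_app, Functor.associator_hom_app,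
    Functor.whiskerRight_app, Functor.whiskerLeft_app]
  erw [Category.id_comp, Category.id_comp]
  haveI h1 : IsIso ((DCoh.LTensorCx L).map ((cn K).app P)) := inferInstance
  haveI h2 : IsIso (Q.map (tcAssoc (O := X.sheaf) P K L).hom) := (Q.mapIso (tcAssoc (O := X.sheaf) P K L)).isIso_hom
  exact IsIso.comp_isIso' h1 (IsIso.comp_isIso' ‹_› h2)

/-- `(- ⊗^L K) ⊗^L L = - ⊗^L (K ⊗ L)` for K-flat `L`. -/
theorem nonempty_LT_comp (K L : CochainComplex X.Modules ℤ) (hL : DCoh.IsKFlat L) :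
    Nonempty (DCoh.LTensorCx K ⋙ DCoh.LTensorCx L ≅ DCoh.LTensorCx ((DCoh.tensorCx.obj K).obj L)) := by
  let t := (DCoh.LTensorCx ((DCoh.tensorCx.obj K).obj L)).leftDerivedLift
    (cn ((DCoh.tensorCx.obj K).obj L)) (qi X) _ (compCn K L)
  haveI : ∀ F, IsIso (t.app F) := fun F => by
    obtain ⟨P, hP, ⟨e⟩⟩ := exists_kflat F
    haveI := isIso_compCn K L hL P hP
    haveI := isIso_cn ((DCoh.tensorCx.obj K).obj L) P hP
    haveI : IsIso (t.app (Q.obj P) ≫ (cn ((DCoh.tensorCx.obj K).obj L)).app P) := by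
      rw [Functor.leftDerived_fac_app]
      infer_instance
    haveI : IsIso (t.app (Q.obj P)) := IsIso.of_isIso_comp_right _ ((cn ((DCoh.tensorCx.obj K).obj L)).app P)
    rw [← NatTrans.naturality_1 t e]
    infer_instance
  haveI : IsIso t := NatIso.isIso_of_isIso_app _
  exact ⟨asIso t⟩

/-- `RHom(K, RHom(L, -)) = RHom(K ⊗ L, -)` for K-flat `L`. -/
theorem nonempty_RH_comp (K L : CochainComplex X.Modules ℤ) (hL : DCoh.IsKFlat L) :
    Nonempty (DCoh.RSheafHom ((DCoh.tensorCx.obj K).obj L) ≅ DCoh.RSheafHom L ⋙ DCoh.RSheafHom K) := by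
  obtain ⟨e⟩ := nonempty_LT_comp K L hL
  exact ⟨(DCoh.RSheafHomAdj _).rightAdjointUniq
    (((DCoh.RSheafHomAdj K).comp (DCoh.RSheafHomAdj L)).ofNatIsoLeft e)⟩

end Groth.Agent.DCX42.RHomCalc
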