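import Groth.Agent.DCX42.Res
import Groth.Agent.Props58.Ext.Local
import Mathlib.Algebra.Homology.Homotopy
import Mathlib.Algebra.Homology.ShortComplex.Exact

/-!
# Local null homotopies out of bounded complexes of locally free modules
-/

set_option autoImplicit false
set_option backward.isDefEq.respectTransparency false

noncomputable section

universe u

open CategoryTheory Limits AlgebraicGeometry TopologicalSpace Opposite

namespace Groth.Agent.DCX42

variable {U X : Scheme.{u}}

/-- Maps out of finite free modules lift locally along epimorphisms. -/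
lemma exists_free_lift {M N Z : X.Modules} {n : ℕ} (e : M ≅ FlatMod.freeMod X n) (φ : M ⟶ Z)
    (p : N ⟶ Z) [Epi p] (x : X) :
    ∃ (V : X.Opens) (l : (Scheme.Modules.restrictFunctor V.ι).obj M ⟶
        (Scheme.Modules.restrictFunctor V.ι).obj N),
      x ∈ V ∧ l ≫ (Scheme.Modules.restrictFunctor V.ι).map p =
        (Scheme.Modules.restrictFunctor V.ι).map φ := by
  classical
  let ψ := e.inv ≫ φ
  let s : Fin n → Γ(Z, ⊤) := fun i => ψ.app ⊤ (Props58.LocFree.unitVec X n i)
  choose W _ t hxW ht using fun i => QC70.exists_local_lift p (s i) (Set.mem_univ x)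
  let V := (Finset.univ : Finset (Fin n)).inf W
  have hV : ∀ i, V ≤ W i := fun i => Finset.inf_le (Finset.mem_univ i)
  refine ⟨V, (Scheme.Modules.restrictFunctor V.ι).map e.hom ≫ (LF71.restrictFree V.ι n).hom ≫
    Props58.Ext.freeDesc (fun i => QC70.res N (V.ι_image_top.le.trans (hV i)) (t i)),
    Finset.inf_induction (p := fun T : X.Opens => x ∈ T) trivial (fun _ h₁ _ h₂ => ⟨h₁, h₂⟩)
      (fun i _ => hxW i), ?_⟩
  rw [Category.assoc, Category.assoc, show φ = e.hom ≫ ψ by simp [ψ], Functor.map_comp]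
  refine congrArg (_ ≫ ·) ?_
  rw [← Iso.eq_inv_comp]
  refine Sigma.hom_ext _ _ fun i => LF71.unit_hom_ext _ _ ?_
  refine Eq.trans ?_ (LF71.restrictUnitIso_inv_one V.ι
    (Sigma.ι (fun _ : Fin n => Coh.structureModule X) i ≫ ψ)).symm |>.trans ?_
  · rw [← Category.assoc, Props58.Ext.freeDesc, Sigma.ι_desc]
    have h := congrArg (QC70.res Z (show V.ι ''ᵁ ⊤ ≤ W i from V.ι_image_top.le.trans (hV i))) (ht i)
    rw [← QC70.app_res, QC70.res_res] at h
    refine Eq.trans ?_ h
    change p.app (V.ι ''ᵁ ⊤) _ = p.app (V.ι ''ᵁ ⊤) _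
    refine congrArg (p.app (V.ι ''ᵁ ⊤)) ?_
    refine (one_smul Γ((V : Scheme.{u}), ⊤) (α := Γ((Scheme.Modules.restrictFunctor V.ι).obj N, ⊤)) _).trans ?_
    exact QC70.res_self (M := (Scheme.Modules.restrictFunctor V.ι).obj N) _
  · have h := LF71.map_ι_restrictFree V.ι n i
    rw [← Iso.eq_comp_inv, Category.assoc, ← Iso.inv_comp_eq] at h
    rw [Functor.map_comp, ← Category.assoc, h, Category.assoc]

end Groth.Agent.DCX42
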