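import Groth.Agent.DCX42.Null
import Groth.Agent.Mod48.LocalHomotopyLift
import Mathlib.Algebra.Homology.HomotopyCategory.Triangulated
import Mathlib.Algebra.Homology.DerivedCategory.Fractions

/-!
# Local lifting out of strictly perfect complexes
-/

set_option autoImplicit false
set_option backward.isDefEq.respectTransparency false

noncomputable section

universe u

open CategoryTheory Limits AlgebraicGeometry TopologicalSpace Opposite

attribute [local instance] HasDerivedCategory.standard

namespace Groth.Agent.DCX42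

variable {U V X : Scheme.{u}}

/-- Maps from strictly perfect complexes into complexes exact in the relevant degrees are locally
null homotopic. -/
theorem exists_null {E F : CochainComplex X.Modules ℤ} (α : E ⟶ F) (hE : DCoh.IsStrictlyPerfect E)
    (a : ℤ) (hEa : ∀ i < a, IsZero (E.X i)) (hF : ∀ i, a ≤ i → F.ExactAt i) (x : X) :
    ∃ W : X.Opens, x ∈ W ∧ Nonempty (Homotopy ((resCx W.ι).map α) 0) := by
  obtain ⟨W, hxW, hfree⟩ := exists_termFree hE x
  obtain ⟨⟨c, b, hb⟩, -⟩ := hE
  obtain ⟨T, hT, ⟨H⟩⟩ := exists_null_aux (b + 1 - a).toNat ((resCx W.ι).map α) hfree a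
    (fun i hi => Functor.map_isZero (Scheme.Modules.restrictFunctor W.ι) (hEa i hi))
    (fun i hi => exactAt_resCx W.ι (hF i hi))
    (fun i hi => (Functor.map_isZero (Scheme.Modules.restrictFunctor W.ι)
      (hb i (Or.inr (by omega)))).eq_of_src _ _) ⟨x, hxW⟩
  obtain ⟨H'⟩ := null_trans W T (α := α) (β := 0) (H.trans (Homotopy.ofEq (by simp)))
  exact ⟨_, mem_opensRange W T hxW hT, ⟨H'.trans (Homotopy.ofEq (by simp))⟩⟩

/-- Maps from strictly perfect complexes lift locally through maps which are isomorphisms on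
cohomology in high degrees. -/
theorem exists_lift {E F G : CochainComplex X.Modules ℤ} (α : E ⟶ F) (f : G ⟶ F)
    (hE : DCoh.IsStrictlyPerfect E) (a : ℤ) (hEa : ∀ i < a, IsZero (E.X i))
    (hiso : ∀ j : ℤ, a < j → IsIso (HomologicalComplex.homologyMap f j))
    (hepi : Epi (HomologicalComplex.homologyMap f a)) (x : X) :
    ∃ (W : X.Opens) (β : (resCx W.ι).obj E ⟶ (resCx W.ι).obj G), x ∈ W ∧
      Nonempty (Homotopy (β ≫ (resCx W.ι).map f) ((resCx W.ι).map α)) := by
  have hC : ∀ j, a ≤ j → (CochainComplex.mappingCone f).ExactAt j := fun j hj =>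
    Mod48.exactAt_mappingCone f j
      (by rcases eq_or_lt_of_le hj with rfl | h
          · exact hepi
          · have := hiso j h; infer_instance)
      (have := hiso (j + 1) (by omega); inferInstance)
  obtain ⟨W, hx, ⟨H⟩⟩ := exists_null (α ≫ CochainComplex.mappingCone.inr f) hE a hEa hC x
  let R := (Scheme.Modules.restrictFunctor W.ι).mapHomotopyCategory (ComplexShape.up ℤ)
  let q := HomotopyCategory.quotient (W : Scheme.{u}).Modules (ComplexShape.up ℤ)
  have hT : R.mapTriangle.obj (CochainComplex.mappingCone.triangleh f) ∈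
      Pretriangulated.distinguishedTriangles :=
    Functor.map_distinguished _ _ (HomotopyCategory.mappingCone_triangleh_distinguished f)
  obtain ⟨β, hβ⟩ := Pretriangulated.Triangle.coyoneda_exact₂ _ hT (q.map ((resCx W.ι).map α)) (by
    change q.map _ ≫ q.map ((resCx W.ι).map (CochainComplex.mappingCone.inr f)) = 0
    rw [← Functor.map_comp, ← Functor.map_comp, HomotopyCategory.eq_of_homotopy _ _ H,
      Functor.map_zero])
  obtain ⟨β, rfl⟩ := q.map_surjective β
  exact ⟨W, β, hx, ⟨HomotopyCategory.homotopyOfEq _ _ ((q.map_comp _ _).trans hβ.symm)⟩⟩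

/-- Maps in the derived category out of strictly perfect complexes are locally chain maps. -/
theorem exists_rep {E F : CochainComplex X.Modules ℤ} (hE : DCoh.IsStrictlyPerfect E)
    (α : DerivedCategory.Q.obj E ⟶ DerivedCategory.Q.obj F) (x : X) :
    ∃ (W : X.Opens) (β : (resCx W.ι).obj E ⟶ (resCx W.ι).obj F), x ∈ W ∧
      (Scheme.Modules.restrictFunctor W.ι).mapDerivedCategory.map α =
        (Scheme.Modules.restrictFunctor W.ι).mapDerivedCategoryFactors.hom.app E ≫
          DerivedCategory.Q.map β ≫
          (Scheme.Modules.restrictFunctor W.ι).mapDerivedCategoryFactors.inv.app F := by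
  obtain ⟨G, g, s, hs, rfl⟩ := DerivedCategory.left_fac α
  rw [DerivedCategory.isIso_Q_map_iff_quasiIso] at hs
  obtain ⟨a, hEa⟩ : ∃ a : ℤ, ∀ i < a, IsZero (E.X i) :=
    ⟨_, fun i hi => hE.1.choose_spec.choose_spec i (Or.inl hi)⟩
  obtain ⟨W, β, hx, ⟨H⟩⟩ := exists_lift g s hE a hEa (fun j _ => inferInstance) inferInstance x
  refine ⟨W, β, hx, ?_⟩
  let P := (Scheme.Modules.restrictFunctor W.ι).mapDerivedCategory
  let e := (Scheme.Modules.restrictFunctor W.ι).mapDerivedCategoryFactors
  have hq : DerivedCategory.Q.map ((resCx W.ι).map g) =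
      DerivedCategory.Q.map β ≫ DerivedCategory.Q.map ((resCx W.ι).map s) :=
    (DerivedCategory.Q_map_eq_of_homotopy _ H).symm.trans (Functor.map_comp _ _ _)
  rw [← cancel_mono (P.map (DerivedCategory.Q.map s))]
  simp only [Functor.map_comp, Category.assoc, P, ← Functor.map_comp,
    IsIso.inv_hom_id, Category.comp_id]
  have hg := e.hom.naturality g
  have hs' := e.inv.naturality s
  simp only [Functor.comp_map, e] at hg hs'
  rw [← hs', ← reassoc_of% hq, ← cancel_mono (e.hom.app G)]
  simp only [Category.assoc, e, Iso.inv_hom_id_app, Category.comp_id]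
  exact hg

end Groth.Agent.DCX42
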