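import Groth.Agent.DCX42.MVAbs
import Groth.Agent.DCX42.KInjPush
import Groth.Agent.DCX42.Coh
import Groth.Agent.DCX42.DerAdj
import Groth.Agent.Coh69.Grothendieck
import Groth.Agent.GSS45.RelExt

/-!
Mayer-Vietoris sequences of modules on a scheme covered by two opens.
-/

set_option autoImplicit false
set_option backward.isDefEq.respectTransparency false

noncomputable section

universe u

open CategoryTheory Limits AlgebraicGeometry TopologicalSpace Opposite
open Groth.Agent.QC70
attribute [local instance] HasDerivedCategory.standard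

namespace Groth.Agent.DCX42

variable {X : Scheme.{u}}

/-- `F ↦ j_*(F|_U)`. -/
abbrev openPush (U : X.Opens) : X.Modules ⥤ X.Modules :=
  Scheme.Modules.restrictFunctor U.ι ⋙ Scheme.Modules.pushforward U.ι

/-- `F → j_*(F|_U)`. -/
abbrev openUnit (U : X.Opens) : 𝟭 X.Modules ⟶ openPush U :=
  (Scheme.Modules.restrictAdjunction U.ι).unit

lemma image_preimage_ι (U O : X.Opens) : U.ι ''ᵁ (U.ι ⁻¹ᵁ O) = U ⊓ O := by
  rw [Scheme.Hom.image_preimage_eq_opensRange_inf, Scheme.Opens.opensRange_ι]

lemma image_preimage_mono {U W : X.Opens} (h : W ≤ U) (O : X.Opens) :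
    W.ι ''ᵁ (W.ι ⁻¹ᵁ O) ≤ U.ι ''ᵁ (U.ι ⁻¹ᵁ O) := by
  rw [image_preimage_ι, image_preimage_ι]
  exact inf_le_inf_right _ h

/-- `j_*(F|_U) → j'_*(F|_W)` on an object. -/
def openResApp {U W : X.Opens} (h : W ≤ U) (F : X.Modules) : (openPush U).obj F ⟶ (openPush W).obj F :=
  HomOn.toHom
    { app := fun O _ =>
        { toFun := fun s => (show Γ(F, W.ι ''ᵁ (W.ι ⁻¹ᵁ O)) from
            res F (image_preimage_mono h O) (show Γ(F, U.ι ''ᵁ (U.ι ⁻¹ᵁ O)) from s))
          map_add' := fun s t => res_add _ _ _
          map_smul' := fun r s => by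
            let s' : Γ(F, U.ι ''ᵁ (U.ι ⁻¹ᵁ O)) := s
            change res F (image_preimage_mono h O) ((U.ι.appIso _).inv (U.ι.app O r) • s') =
              (W.ι.appIso _).inv (W.ι.app O r) • res F (image_preimage_mono h O) s'
            rw [res_smul]
            congr 1
            simp only [Scheme.Opens.ι_appIso, Scheme.Opens.ι_app]
            exact resO_resO _ _ r }
      app_res := fun {O O'} _ hO s => by
        let s' : Γ(F, U.ι ''ᵁ (U.ι ⁻¹ᵁ O)) := s
        change res F (image_preimage_mono h O') (res F (U.ι.image_mono (U.ι.preimage_mono hO)) s') =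
          res F (W.ι.image_mono (W.ι.preimage_mono hO)) (res F (image_preimage_mono h O) s')
        rw [res_res, res_res] }

lemma openResApp_app {U W : X.Opens} (h : W ≤ U) (F : X.Modules) (O : X.Opens) (s : Γ(F, U.ι ''ᵁ (U.ι ⁻¹ᵁ O))) :
    (show Γ(F, W.ι ''ᵁ (W.ι ⁻¹ᵁ O)) from (openResApp h F).app O s) = res F (image_preimage_mono h O) s :=
  rfl

/-- `j_*(F|_U) → j'_*(F|_W)`. -/
def openRes {U W : X.Opens} (h : W ≤ U) : openPush U ⟶ openPush W where
  app := openResApp h
  naturality F G φ := Scheme.Modules.hom_ext _ _ fun O => by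
    ext s
    exact (app_res φ (image_preimage_mono h O) _).symm

lemma openUnit_openRes {U W : X.Opens} (h : W ≤ U) (F : X.Modules) :
    (openUnit U).app F ≫ (openRes h).app F = (openUnit W).app F :=
  Scheme.Modules.hom_ext _ _ fun O => by
    ext s
    exact res_res (U.ι.image_preimage_le O) (image_preimage_mono h O) s

instance isIso_restrict_openUnit (U : X.Opens) (F : X.Modules) :
    IsIso ((Scheme.Modules.restrictFunctor U.ι).map ((openUnit U).app F)) := by
  have h := (Scheme.Modules.restrictAdjunction U.ι).left_triangle_components F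
  have : IsIso ((Scheme.Modules.restrictFunctor U.ι).map ((openUnit U).app F) ≫
      (Scheme.Modules.restrictAdjunction U.ι).counit.app _) := h.symm ▸ IsIso.id _
  exact IsIso.of_isIso_comp_right _ ((Scheme.Modules.restrictAdjunction U.ι).counit.app _)

lemma isIso_restrict_openRes {U W : X.Opens} (h : W ≤ U) {V : X.Opens} (hV : V ⊓ U ≤ W) (F : X.Modules) :
    IsIso ((Scheme.Modules.restrictFunctor V.ι).map ((openRes h).app F)) := by
  rw [Scheme.Modules.Hom.isIso_iff_isIso_app]
  intro O
  rw [ConcreteCategory.isIso_iff_bijective]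
  change Function.Bijective (res F (image_preimage_mono h (V.ι ''ᵁ O)))
  refine GSS45.RelExt.bijective_res F ?_
  rw [image_preimage_ι, image_preimage_ι]
  refine le_antisymm (inf_le_inf_right _ h) (le_inf (le_trans ?_ hV) inf_le_right)
  rw [inf_comm]
  exact inf_le_inf_right _ (V.ι_image_le O)

lemma hom_eq_zero_of_sup {U V : X.Opens} (hUV : U ⊔ V = ⊤) {M N : X.Modules} (φ : M ⟶ N)
    (hU : (Scheme.Modules.restrictFunctor U.ι).map φ = 0)
    (hV : (Scheme.Modules.restrictFunctor V.ι).map φ = 0) : φ = 0 := by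
  refine Scheme.Modules.hom_ext _ _ fun O => ?_
  ext s
  refine section_ext N _ _ fun p hp => ?_
  have key : ∀ {A : X.Opens}, (Scheme.Modules.restrictFunctor A.ι).map φ = 0 → p ∈ A →
      ∃ (O' : X.Opens) (hO : O' ≤ O), p ∈ O' ∧ res N hO (φ.app O s) = res N hO 0 := by
    intro A hA hpA
    refine ⟨A.ι ''ᵁ (A.ι ⁻¹ᵁ O), A.ι.image_preimage_le O, by rw [image_preimage_ι]; exact ⟨hpA, hp⟩, ?_⟩
    rw [← app_res, res_zero]
    exact congr($(congrArg (fun ψ => Scheme.Modules.Hom.app ψ (A.ι ⁻¹ᵁ O)) hA) (res M _ s))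
  rcases (show p ∈ U ⊔ V by rw [hUV]; trivial) with hpU | hpV
  · exact key hU hpU
  · exact key hV hpV

lemma mono_lift_openUnit {U V : X.Opens} (hUV : U ⊔ V = ⊤) (F : X.Modules) :
    Mono (biprod.lift ((openUnit U).app F) ((openUnit V).app F)) := by
  refine Preadditive.mono_of_cancel_zero _ fun {G} ψ hψ => ?_
  have h₁ : ψ ≫ (openUnit U).app F = 0 := by simpa using congrArg (fun q => q ≫ biprod.fst) hψ
  have h₂ : ψ ≫ (openUnit V).app F = 0 := by simpa using congrArg (fun q => q ≫ biprod.snd) hψ
  refine hom_eq_zero_of_sup hUV _ ?_ ?_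
  · refine zero_of_comp_mono ((Scheme.Modules.restrictFunctor U.ι).map ((openUnit U).app F)) ?_
    rw [← Functor.map_comp, h₁, Functor.map_zero]
  · refine zero_of_comp_mono ((Scheme.Modules.restrictFunctor V.ι).map ((openUnit V).app F)) ?_
    rw [← Functor.map_comp, h₂, Functor.map_zero]

lemma openUnit_openRes_eq (U V : X.Opens) (F : X.Modules) :
    (openUnit U).app F ≫ (openRes (inf_le_left : U ⊓ V ≤ U)).app F =
      (openUnit V).app F ≫ (openRes (inf_le_right : U ⊓ V ≤ V)).app F := by
  rw [openUnit_openRes, openUnit_openRes]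

lemma nonempty_splitting_restrict {A : X.Opens} (U V : X.Opens) (F : X.Modules)
    (h : (A = U) ∨ (A = V)) :
    Nonempty ((mvShort (openUnit U) (openUnit V) (openRes inf_le_left) (openRes inf_le_right)
      (openUnit_openRes_eq U V) F).map (Scheme.Modules.restrictFunctor A.ι)).Splitting := by
  let R := Scheme.Modules.restrictFunctor A.ι
  let a := R.map ((openUnit U).app F)
  let b := R.map ((openUnit V).app F)
  let c := R.map ((openRes (inf_le_left : U ⊓ V ≤ U)).app F)
  let d := R.map (-((openRes (inf_le_right : U ⊓ V ≤ V)).app F))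
  have hw : biprod.lift a b ≫ biprod.desc c d = 0 := by
    rw [biprod.lift_desc, ← R.map_comp, ← R.map_comp, ← R.map_add, Preadditive.comp_neg,
      openUnit_openRes_eq U V F, add_neg_cancel, R.map_zero]
  have hb : PreservesBinaryBiproducts R := preservesBinaryBiproducts_of_preservesBiproducts _
  let e : R.obj ((openPush U).obj F ⊞ (openPush V).obj F) ≅
      R.obj ((openPush U).obj F) ⊞ R.obj ((openPush V).obj F) := R.mapBiprod _ _
  suffices Nonempty (ShortComplex.mk _ _ hw).Splitting by
    obtain ⟨s⟩ := this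
    refine ⟨s.ofIso (ShortComplex.isoMk (Iso.refl _) e.symm (Iso.refl _) ?_ ?_)⟩
    · refine (Category.id_comp _).trans ((Iso.eq_comp_inv e).mpr ?_)
      exact biprod.hom_ext _ _ (by simp [e, a, R, ← Functor.map_comp]) (by simp [e, b, R, ← Functor.map_comp])
    · refine Eq.trans ?_ (Category.comp_id _).symm
      exact biprod.hom_ext' _ _ (by simp [e, c, R, ← Functor.map_comp]) (by simp [e, d, R, ← Functor.map_comp])
  rcases h with rfl | rfl
  · have : IsIso a := isIso_restrict_openUnit A F
    have : IsIso d := by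
      have h' := isIso_restrict_openRes (inf_le_right : A ⊓ V ≤ V) (V := A) le_rfl F
      exact ⟨-inv (R.map ((openRes (inf_le_right : A ⊓ V ≤ V)).app F)), by simp [d], by simp [d]⟩
    exact ⟨splittingOfIsIso a b c d hw⟩
  · have : IsIso b := isIso_restrict_openUnit A F
    have : IsIso c := isIso_restrict_openRes (inf_le_left : U ⊓ A ≤ U) (V := A) (by rw [inf_comm]) F
    have hw' : biprod.lift b a ≫ biprod.desc d c = 0 := by
      rw [biprod.lift_desc, add_comm, ← biprod.lift_desc, hw]
    refine ⟨(splittingOfIsIso b a d c hw').ofIso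
      (ShortComplex.isoMk (Iso.refl _) (biprod.braiding _ _) (Iso.refl _) ?_ ?_)⟩
    · exact biprod.hom_ext _ _ (by simp) (by simp)
    · exact biprod.hom_ext' _ _ (by simp) (by simp)

/-- The Mayer-Vietoris sequence of a module. -/
theorem shortExact_mv {U V : X.Opens} (hUV : U ⊔ V = ⊤) (F : X.Modules) :
    (mvShort (openUnit U) (openUnit V) (openRes inf_le_left) (openRes inf_le_right)
      (openUnit_openRes_eq U V) F).ShortExact := by
  let S := mvShort (openUnit U) (openUnit V) (openRes inf_le_left) (openRes inf_le_right)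
    (openUnit_openRes_eq U V) F
  obtain ⟨sU⟩ := nonempty_splitting_restrict U V F (Or.inl (Eq.refl U))
  obtain ⟨sV⟩ := nonempty_splitting_restrict U V F (Or.inr (Eq.refl V))
  have hf : Mono S.f := mono_lift_openUnit hUV F
  have hg : Epi S.g := by
    refine Preadditive.epi_of_cancel_zero _ fun {G} φ hφ => hom_eq_zero_of_sup hUV φ ?_ ?_
    · have := sU.shortExact.epi_g
      refine zero_of_epi_comp ((S.map (Scheme.Modules.restrictFunctor U.ι)).g) ?_
      rw [ShortComplex.map_g, ← Functor.map_comp, hφ, Functor.map_zero]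
    · have := sV.shortExact.epi_g
      refine zero_of_epi_comp ((S.map (Scheme.Modules.restrictFunctor V.ι)).g) ?_
      rw [ShortComplex.map_g, ← Functor.map_comp, hφ, Functor.map_zero]
  refine { exact := ?_, mono_f := hf, epi_g := hg }
  rw [ShortComplex.exact_iff_isZero_homology]
  refine isZero_of_local _ fun x => ?_
  rcases (show x ∈ U ⊔ V by rw [hUV]; trivial) with hx | hx
  · exact ⟨U, hx, ((ShortComplex.exact_iff_isZero_homology _).mp sU.exact).of_iso
      (S.mapHomologyIso (Scheme.Modules.restrictFunctor U.ι)).symm⟩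
  · exact ⟨V, hx, ((ShortComplex.exact_iff_isZero_homology _).mp sV.exact).of_iso
      (S.mapHomologyIso (Scheme.Modules.restrictFunctor V.ι)).symm⟩

end Groth.Agent.DCX42
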