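import Mathlib.CategoryTheory.Adjunction.Mates
import Mathlib.Algebra.Homology.ShortComplex.ShortExact
import Mathlib.Algebra.Homology.HomologicalComplexBiprod
import Mathlib.Algebra.Homology.HomologicalComplexAbelian
import Mathlib.Algebra.Homology.DerivedCategory.ShortExact
import Mathlib.CategoryTheory.Preadditive.Injective.Basic
import Mathlib.CategoryTheory.Abelian.Basic

/-!
Mayer-Vietoris sequences in abelian categories: a functorial three-term sequence and its dual under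
adjunctions.
-/

set_option autoImplicit false

universe w v u

open CategoryTheory Limits

namespace Groth.Agent.DCX42

noncomputable section

variable {C : Type u} [Category.{v} C] [Abelian C]

section Split

variable {A B X Z : C} (a : X ⟶ A) (b : X ⟶ B) (c : A ⟶ Z) (d : B ⟶ Z)

/-- `X → A ⊞ B → Z` is split short exact if two of the four components are invertible. -/
def splittingOfIsIso [IsIso a] [IsIso d] (h : biprod.lift a b ≫ biprod.desc c d = 0) :
    (ShortComplex.mk _ _ h).Splitting where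
  r := biprod.fst ≫ inv a
  s := inv d ≫ biprod.inr
  f_r := by simp
  s_g := by simp
  id := by
    have h' : a ≫ c + b ≫ d = 0 := by simpa [biprod.lift_desc] using h
    have hb : inv a ≫ b = -(c ≫ inv d) := by
      rw [IsIso.inv_comp_eq, Preadditive.comp_neg, ← Category.assoc, eq_neg_iff_add_eq_zero,
        add_comm, ← cancel_mono d]
      simpa using h'
    apply biprod.hom_ext
    · simp
    · apply biprod.hom_ext' <;> simp [hb]

end Split

lemma shortExact_biprod {K A B Z : CochainComplex C ℤ} (a : K ⟶ A) (b : K ⟶ B) (c : A ⟶ Z) (d : B ⟶ Z)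
    (w : biprod.lift a b ≫ biprod.desc c d = 0)
    (h : ∀ (i : ℤ) (w' : biprod.lift (a.f i) (b.f i) ≫ biprod.desc (c.f i) (d.f i) = 0),
      (ShortComplex.mk (biprod.lift (a.f i) (b.f i)) (biprod.desc (c.f i) (d.f i)) w').ShortExact) :
    (ShortComplex.mk _ _ w).ShortExact := by
  refine HomologicalComplex.shortExact_of_degreewise_shortExact _ fun i => ?_
  have e₁ : (biprod.lift a b).f i ≫ (HomologicalComplex.biprodXIso A B i).hom =
      biprod.lift (a.f i) (b.f i) := by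
    apply biprod.hom_ext <;> simp [← HomologicalComplex.comp_f]
  have e₂ : (HomologicalComplex.biprodXIso A B i).inv ≫ (biprod.desc c d).f i =
      biprod.desc (c.f i) (d.f i) := by
    apply biprod.hom_ext' <;> simp [← HomologicalComplex.comp_f]
  have w' : biprod.lift (a.f i) (b.f i) ≫ biprod.desc (c.f i) (d.f i) = 0 := by
    rw [← e₁, ← e₂, Category.assoc, Iso.hom_inv_id_assoc, ← HomologicalComplex.comp_f, w,
      HomologicalComplex.zero_f]
  refine ShortComplex.shortExact_of_iso ?_ (h i w')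
  refine ShortComplex.isoMk (Iso.refl _) (HomologicalComplex.biprodXIso A B i).symm (Iso.refl _) ?_ ?_
  · exact (Category.id_comp _).trans ((Iso.eq_comp_inv _).mpr e₁)
  · exact e₂.trans (Category.comp_id _).symm

variable {R₁ R₂ R₃ : C ⥤ C} [R₁.Additive] [R₂.Additive] [R₃.Additive]
  (η₁ : 𝟭 C ⟶ R₁) (η₂ : 𝟭 C ⟶ R₂) (t₁ : R₁ ⟶ R₃) (t₂ : R₂ ⟶ R₃)
  (hw : ∀ F : C, η₁.app F ≫ t₁.app F = η₂.app F ≫ t₂.app F)

/-- The sequence `F → R₁ F ⊞ R₂ F → R₃ F`. -/
abbrev mvShort (F : C) : ShortComplex C :=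
  ShortComplex.mk (biprod.lift (η₁.app F) (η₂.app F)) (biprod.desc (t₁.app F) (-(t₂.app F)))
    (by simp [biprod.lift_desc, hw F])

/-- The sequence `F → R₁ F ⊞ R₂ F → R₃ F` for complexes. -/
abbrev mvShortCx (K : CochainComplex C ℤ) : ShortComplex (CochainComplex C ℤ) :=
  ShortComplex.mk
    (biprod.lift ({ f := fun i => η₁.app (K.X i), comm' := fun i j _ => (η₁.naturality (K.d i j)).symm } :
        K ⟶ (R₁.mapHomologicalComplex (ComplexShape.up ℤ)).obj K)
      ({ f := fun i => η₂.app (K.X i), comm' := fun i j _ => (η₂.naturality (K.d i j)).symm } :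
        K ⟶ (R₂.mapHomologicalComplex (ComplexShape.up ℤ)).obj K))
    (biprod.desc ((NatTrans.mapHomologicalComplex t₁ (ComplexShape.up ℤ)).app K)
      (-((NatTrans.mapHomologicalComplex t₂ (ComplexShape.up ℤ)).app K)))
    (by
      ext i
      simp [biprod.lift_desc]
      exact (sub_eq_add_neg _ _).symm.trans (sub_eq_zero.mpr (hw (K.X i))))

lemma shortExact_mvShortCx (h : ∀ F, (mvShort η₁ η₂ t₁ t₂ hw F).ShortExact) (K : CochainComplex C ℤ) :
    (mvShortCx η₁ η₂ t₁ t₂ hw K).ShortExact :=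
  shortExact_biprod _ _ _ _ (mvShortCx η₁ η₂ t₁ t₂ hw K).zero fun i _ => h (K.X i)

lemma exists_triangle_mv [HasDerivedCategory.{w} C] (h : ∀ F, (mvShort η₁ η₂ t₁ t₂ hw F).ShortExact)
    (K : CochainComplex C ℤ) :
    ∃ T ∈ (Pretriangulated.distinguishedTriangles : Set (Pretriangulated.Triangle (DerivedCategory C))),
      Nonempty (T.obj₁ ≅ DerivedCategory.Q.obj K) ∧
      Nonempty (T.obj₂ ≅ DerivedCategory.Q.obj ((R₁.mapHomologicalComplex (ComplexShape.up ℤ)).obj K) ⊞
        DerivedCategory.Q.obj ((R₂.mapHomologicalComplex (ComplexShape.up ℤ)).obj K)) ∧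
      Nonempty (T.obj₃ ≅ DerivedCategory.Q.obj ((R₃.mapHomologicalComplex (ComplexShape.up ℤ)).obj K)) :=
  ⟨_, DerivedCategory.triangleOfSES_distinguished (shortExact_mvShortCx η₁ η₂ t₁ t₂ hw h K),
    ⟨Iso.refl _⟩,
    ⟨have : PreservesBinaryBiproducts (DerivedCategory.Q (C := C)) := preservesBinaryBiproducts_of_preservesBiproducts _
     DerivedCategory.Q.mapBiprod _ _⟩, ⟨Iso.refl _⟩⟩

section Dual

variable {L₁ L₂ L₃ : C ⥤ C} [L₁.Additive] [L₂.Additive] [L₃.Additive]
  (a₁ : L₁ ⊣ R₁) (a₂ : L₂ ⊣ R₂) (a₃ : L₃ ⊣ R₃)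

/-- The transpose of a transformation `𝟭 ⟶ R`. -/
def transEps {L R : C ⥤ C} (a : L ⊣ R) (η : 𝟭 C ⟶ R) : L ⟶ 𝟭 C :=
  (conjugateEquiv Adjunction.id a).symm η

/-- The transpose of a transformation `R ⟶ R'`. -/
def transMap {L L' R R' : C ⥤ C} (a : L ⊣ R) (a' : L' ⊣ R') (t : R ⟶ R') : L' ⟶ L :=
  (conjugateEquiv a a').symm t

omit [Abelian C] in
lemma homEquiv_transEps {L R : C ⥤ C} (a : L ⊣ R) (η : 𝟭 C ⟶ R) {F G : C} (φ : F ⟶ G) :
    a.homEquiv F G ((transEps a η).app F ≫ φ) = φ ≫ η.app G := by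
  have h := unit_conjugateEquiv_symm Adjunction.id a η F
  have hn := η.naturality φ
  simp only [Functor.id_obj, Functor.id_map] at hn
  rw [Adjunction.homEquiv_unit, Functor.map_comp, hn, ← Category.assoc]
  congr 1
  exact h.symm.trans (Category.id_comp _)

omit [Abelian C] in
lemma homEquiv_transMap {L L' R R' : C ⥤ C} (a : L ⊣ R) (a' : L' ⊣ R') (t : R ⟶ R') {F G : C}
    (φ : L.obj F ⟶ G) :
    a'.homEquiv F G ((transMap a a' t).app F ≫ φ) = a.homEquiv F G φ ≫ t.app G := by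
  rw [Adjunction.homEquiv_unit, Adjunction.homEquiv_unit, Functor.map_comp, ← Category.assoc,
    transMap, ← unit_conjugateEquiv_symm, Category.assoc, Category.assoc, t.naturality]

/-- The two maps `L₁ F, L₂ F → F`. -/
abbrev dualDesc (F : C) : L₁.obj F ⊞ L₂.obj F ⟶ F :=
  biprod.desc ((transEps a₁ η₁).app F) ((transEps a₂ η₂).app F)

/-- The map `L₃ F → L₁ F ⊞ L₂ F`. -/
abbrev dualLift (F : C) : L₃.obj F ⟶ L₁.obj F ⊞ L₂.obj F :=
  biprod.lift ((transMap a₁ a₃ t₁).app F) (-((transMap a₂ a₃ t₂).app F))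

include hw in
lemma dual_zero (F : C) : dualLift t₁ t₂ a₁ a₂ a₃ F ≫ dualDesc η₁ η₂ a₁ a₂ F = 0 := by
  have h : (transMap a₁ a₃ t₁).app F ≫ (transEps a₁ η₁).app F =
      (transMap a₂ a₃ t₂).app F ≫ (transEps a₂ η₂).app F := by
    apply (a₃.homEquiv F F).injective
    have e₁ : a₁.homEquiv F F ((transEps a₁ η₁).app F) = η₁.app F :=
      (congrArg _ (Category.comp_id _).symm).trans ((homEquiv_transEps a₁ η₁ (𝟙 F)).trans (Category.id_comp _))
    have e₂ : a₂.homEquiv F F ((transEps a₂ η₂).app F) = η₂.app F :=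
      (congrArg _ (Category.comp_id _).symm).trans ((homEquiv_transEps a₂ η₂ (𝟙 F)).trans (Category.id_comp _))
    erw [homEquiv_transMap, homEquiv_transMap, e₁, e₂]
    exact hw F
  rw [biprod.lift_desc, Preadditive.neg_comp, ← sub_eq_add_neg, sub_eq_zero]
  exact h

/-- The dual sequence `L₃ F → L₁ F ⊞ L₂ F → F`. -/
abbrev mvShortDual (F : C) : ShortComplex C :=
  ShortComplex.mk _ _ (dual_zero η₁ η₂ t₁ t₂ hw a₁ a₂ a₃ F)

lemma epi_dualDesc (hm : ∀ G, Mono (biprod.lift (η₁.app G) (η₂.app G))) (F : C) :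
    Epi (dualDesc η₁ η₂ a₁ a₂ F) := by
  refine Preadditive.epi_of_cancel_zero _ fun {G} φ hφ => ?_
  have h₁ : (transEps a₁ η₁).app F ≫ φ = 0 := by
    simpa using congrArg (fun q => biprod.inl ≫ q) hφ
  have h₂ : (transEps a₂ η₂).app F ≫ φ = 0 := by
    simpa using congrArg (fun q => biprod.inr ≫ q) hφ
  have e₁ := homEquiv_transEps a₁ η₁ φ
  have e₂ := homEquiv_transEps a₂ η₂ φ
  rw [h₁] at e₁
  rw [h₂] at e₂
  simp only [Adjunction.homEquiv_unit, Functor.map_zero, comp_zero] at e₁ e₂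
  have := hm G
  refine zero_of_comp_mono (biprod.lift (η₁.app G) (η₂.app G)) ?_
  apply biprod.hom_ext
  · rw [Category.assoc, biprod.lift_fst, zero_comp]; exact e₁.symm
  · rw [Category.assoc, biprod.lift_snd, zero_comp]; exact e₂.symm

include hw in
lemma exists_dual_factor (h : ∀ F, (mvShort η₁ η₂ t₁ t₂ hw F).ShortExact) {F G : C}
    (φ : L₁.obj F ⊞ L₂.obj F ⟶ G) (hφ : dualLift t₁ t₂ a₁ a₂ a₃ F ≫ φ = 0) :
    ∃ ψ : F ⟶ G, φ = dualDesc η₁ η₂ a₁ a₂ F ≫ ψ := by
  have hd : φ = biprod.desc (biprod.inl ≫ φ) (biprod.inr ≫ φ) := by apply biprod.hom_ext' <;> simp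
  have hφ' : (transMap a₁ a₃ t₁).app F ≫ biprod.inl ≫ φ =
      (transMap a₂ a₃ t₂).app F ≫ biprod.inr ≫ φ := by
    rw [hd, biprod.lift_desc, Preadditive.neg_comp, ← sub_eq_add_neg, sub_eq_zero] at hφ
    exact hφ
  have h' := congrArg (a₃.homEquiv F G) hφ'
  rw [homEquiv_transMap, homEquiv_transMap] at h'
  have hz : biprod.lift (a₁.homEquiv F G (biprod.inl ≫ φ)) (a₂.homEquiv F G (biprod.inr ≫ φ)) ≫
      biprod.desc (t₁.app G) (-(t₂.app G)) = 0 := by
    rw [biprod.lift_desc, Preadditive.comp_neg, ← sub_eq_add_neg, sub_eq_zero]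
    exact h'
  have := (h G).mono_f
  let ψ : F ⟶ G := (h G).exact.lift _ hz
  have hψ : ψ ≫ biprod.lift (η₁.app G) (η₂.app G) =
      biprod.lift (a₁.homEquiv F G (biprod.inl ≫ φ)) (a₂.homEquiv F G (biprod.inr ≫ φ)) :=
    (h G).exact.lift_f _ hz
  refine ⟨ψ, biprod.hom_ext' _ _ ?_ ?_⟩
  · rw [biprod.inl_desc_assoc]
    apply (a₁.homEquiv F G).injective
    erw [homEquiv_transEps]
    simpa using (congrArg (fun q => q ≫ biprod.fst) hψ).symm
  · rw [biprod.inr_desc_assoc]
    apply (a₂.homEquiv F G).injective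
    erw [homEquiv_transEps]
    simpa using (congrArg (fun q => q ≫ biprod.snd) hψ).symm

lemma shortExact_mvShortDual [EnoughInjectives C] (h : ∀ F, (mvShort η₁ η₂ t₁ t₂ hw F).ShortExact) (F : C) :
    (mvShortDual η₁ η₂ t₁ t₂ hw a₁ a₂ a₃ F).ShortExact := by
  have hepi := epi_dualDesc η₁ η₂ a₁ a₂ (fun G => (h G).mono_f) F
  let f := dualLift t₁ t₂ a₁ a₂ a₃ F
  have hex : (mvShortDual η₁ η₂ t₁ t₂ hw a₁ a₂ a₃ F).Exact := by
    rw [ShortComplex.exact_iff_exact_up_to_refinements]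
    intro A x hx
    obtain ⟨ψ, hψ⟩ := exists_dual_factor η₁ η₂ t₁ t₂ hw a₁ a₂ a₃ h
      (cokernel.π f ≫ Injective.ι _) (by rw [← Category.assoc, cokernel.condition, zero_comp])
    have : x ≫ cokernel.π f = 0 := by
      refine zero_of_comp_mono (Injective.ι (cokernel f)) ?_
      rw [Category.assoc, hψ, ← Category.assoc, hx, zero_comp]
    exact ((ShortComplex.mk f (cokernel.π f) (cokernel.condition f)).exact_iff_exact_up_to_refinements.mp
      (ShortComplex.exact_cokernel _)) x this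
  have hmono : Mono f := by
    let G := Injective.under (L₃.obj F)
    have : Injective (mvShort η₁ η₂ t₁ t₂ hw G).X₁ := Injective.injective_under (L₃.obj F)
    let spl := (h G).splittingOfInjective
    let ψ : F ⟶ R₁.obj G ⊞ R₂.obj G := a₃.homEquiv F G (Injective.ι _) ≫ spl.s
    have hψ : ψ ≫ biprod.desc (t₁.app G) (-(t₂.app G)) = a₃.homEquiv F G (Injective.ι _) :=
      (Category.assoc _ _ _).trans (by erw [spl.s_g]; exact Category.comp_id _)
    let φ₁ : L₁.obj F ⟶ G := (a₁.homEquiv F G).symm (ψ ≫ biprod.fst)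
    let φ₂ : L₂.obj F ⟶ G := (a₂.homEquiv F G).symm (ψ ≫ biprod.snd)
    have e : f ≫ biprod.desc φ₁ φ₂ = Injective.ι _ := by
      rw [biprod.lift_desc, Preadditive.neg_comp]
      apply (a₃.homEquiv F G).injective
      rw [← hψ, Adjunction.homEquiv_unit, Functor.map_add, Functor.map_neg, Preadditive.comp_add,
        Preadditive.comp_neg, ← Adjunction.homEquiv_unit, ← Adjunction.homEquiv_unit,
        homEquiv_transMap, homEquiv_transMap, Equiv.apply_symm_apply, Equiv.apply_symm_apply,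
        biprod.desc_eq, Preadditive.comp_add]
      simp
    exact mono_of_mono_fac e
  exact { exact := hex, mono_f := hmono, epi_g := hepi }

/-- The map `L K → K` on complexes. -/
abbrev epsCx {L R : C ⥤ C} [L.Additive] (a : L ⊣ R) (η : 𝟭 C ⟶ R) (K : CochainComplex C ℤ) :
    (L.mapHomologicalComplex (ComplexShape.up ℤ)).obj K ⟶ K where
  f i := (transEps a η).app (K.X i)
  comm' i j _ := ((transEps a η).naturality (K.d i j)).symm

include hw a₁ a₂ a₃ in
lemma exists_triangle_mv_dual [EnoughInjectives C] [HasDerivedCategory.{w} C]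
    (h : ∀ F, (mvShort η₁ η₂ t₁ t₂ hw F).ShortExact) (K : CochainComplex C ℤ) :
    ∃ T ∈ (Pretriangulated.distinguishedTriangles : Set (Pretriangulated.Triangle (DerivedCategory C))),
      Nonempty (T.obj₁ ≅ DerivedCategory.Q.obj ((L₃.mapHomologicalComplex (ComplexShape.up ℤ)).obj K)) ∧
      Nonempty (T.obj₂ ≅ DerivedCategory.Q.obj ((L₁.mapHomologicalComplex (ComplexShape.up ℤ)).obj K) ⊞
        DerivedCategory.Q.obj ((L₂.mapHomologicalComplex (ComplexShape.up ℤ)).obj K)) ∧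
      Nonempty (T.obj₃ ≅ DerivedCategory.Q.obj K) := by
  let a := (NatTrans.mapHomologicalComplex (transMap a₁ a₃ t₁) (ComplexShape.up ℤ)).app K
  let b := -((NatTrans.mapHomologicalComplex (transMap a₂ a₃ t₂) (ComplexShape.up ℤ)).app K)
  let c := epsCx a₁ η₁ K
  let d := epsCx a₂ η₂ K
  have w₀ : biprod.lift a b ≫ biprod.desc c d = 0 := by
    ext i
    have h := dual_zero η₁ η₂ t₁ t₂ hw a₁ a₂ a₃ (K.X i)
    rw [biprod.lift_desc] at h ⊢
    exact h
  exact ⟨_, DerivedCategory.triangleOfSES_distinguished (shortExact_biprod a b c d w₀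
      fun i _ => shortExact_mvShortDual η₁ η₂ t₁ t₂ hw a₁ a₂ a₃ h (K.X i)),
    ⟨Iso.refl _⟩,
    ⟨have : PreservesBinaryBiproducts (DerivedCategory.Q (C := C)) := preservesBinaryBiproducts_of_preservesBiproducts _
     DerivedCategory.Q.mapBiprod _ _⟩, ⟨Iso.refl _⟩⟩

end Dual

end

end Groth.Agent.DCX42
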