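import Groth.Agent.DCX42.Lift
import Mathlib.Algebra.Homology.HomotopyCategory.Shift

/-!
# Local null homotopies: the induction
-/

set_option autoImplicit false
set_option backward.isDefEq.respectTransparency false

noncomputable section

universe u

open CategoryTheory Limits AlgebraicGeometry TopologicalSpace Opposite

namespace Groth.Agent.DCX42

variable {U V X : Scheme.{u}}

/-- Transport of homotopies along natural isomorphisms. -/
def homotopyOfNatIso {A B : Type*} [Category* A] [Category* B] [Preadditive A] [Preadditive B]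
    {G G' : CochainComplex A ℤ ⥤ CochainComplex B ℤ} (e : G ≅ G') {E F : CochainComplex A ℤ}
    {α β : E ⟶ F} (h : Homotopy (G.map α) (G.map β)) : Homotopy (G'.map α) (G'.map β) :=
  ((Homotopy.ofEq (by simp)).trans ((h.compRight (e.hom.app F)).compLeft (e.inv.app E))).trans
    (Homotopy.ofEq (by simp))

/-- A null homotopy on an open immersion gives one on its range. -/
lemma null_opensRange (j : U ⟶ X) [IsOpenImmersion j] {E F : CochainComplex X.Modules ℤ}
    {α β : E ⟶ F} (h : Homotopy ((resCx j).map α) ((resCx j).map β)) :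
    Nonempty (Homotopy ((resCx j.opensRange.ι).map α) ((resCx j.opensRange.ι).map β)) := by
  obtain ⟨e, _, he⟩ := exists_opens_iso j
  refine ⟨homotopyOfNatIso (resCongrCx he) (homotopyOfNatIso (resCompCx e j) ?_)⟩
  exact Functor.mapHomotopy (Scheme.Modules.restrictFunctor e) h

/-- Composition of local homotopies. -/
lemma null_trans (W : X.Opens) (T : (W : Scheme.{u}).Opens) {E F : CochainComplex X.Modules ℤ}
    {α β : E ⟶ F}
    (h : Homotopy ((resCx T.ι).map ((resCx W.ι).map α)) ((resCx T.ι).map ((resCx W.ι).map β))) :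
    Nonempty (Homotopy ((resCx (T.ι ≫ W.ι).opensRange.ι).map α)
      ((resCx (T.ι ≫ W.ι).opensRange.ι).map β)) :=
  null_opensRange _ (homotopyOfNatIso (resCompCx T.ι W.ι) h)

lemma mem_opensRange (W : X.Opens) (T : (W : Scheme.{u}).Opens) {x : X} (hx : x ∈ W)
    (hT : (⟨x, hx⟩ : W) ∈ T) : x ∈ (T.ι ≫ W.ι).opensRange :=
  ⟨⟨⟨x, hx⟩, hT⟩, rfl⟩

lemma exactAt_resCx (j : U ⟶ X) [IsOpenImmersion j] {F : CochainComplex X.Modules ℤ} {i : ℤ}
    (h : F.ExactAt i) : ((resCx j).obj F).ExactAt i :=
  h.map (Scheme.Modules.restrictFunctor j)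

/-- Local null homotopy, with a bound on the support of the map. -/
lemma exists_null_aux (n : ℕ) : ∀ {X : Scheme.{u}} {E F : CochainComplex X.Modules ℤ} (α : E ⟶ F),
    IsTermFree E → ∀ a : ℤ, (∀ i < a, IsZero (E.X i)) → (∀ i, a ≤ i → F.ExactAt i) →
    (∀ i, a + n ≤ i → α.f i = 0) → ∀ x : X,
    ∃ W : X.Opens, x ∈ W ∧ Nonempty (Homotopy ((resCx W.ι).map α) 0) := by
  induction n with
  | zero =>
    intro X E F α _ a hE _ hα x
    refine ⟨⊤, trivial, ⟨Homotopy.ofEq ?_⟩⟩
    have : α = 0 := by
      ext i : 1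
      by_cases hi : a ≤ i
      · exact hα i (by simpa using hi)
      · exact (hE i (by omega)).eq_of_src _ _
    rw [this, Functor.map_zero]
  | succ n ih =>
    intro X E F α hfree a hE hF hα x
    let m : ℤ := a + n
    have hz : α.f m ≫ F.d m (m + 1) = 0 := by
      rw [α.comm, hα (m + 1) (by simp [m]; omega), comp_zero]
    have : Epi (F.toCycles (m - 1) m) :=
      Abelian.epi_of_cokernel_π_eq_zero _ (by
        have h0 : F.homologyπ m = 0 := (hF m (by omega)).isZero_homology.eq_of_tgt _ _
        have hf := (F.homologyIsCokernel (m - 1) m (by simp)).fac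
          (CokernelCofork.ofπ _ (cokernel.condition (F.toCycles (m - 1) m))) WalkingParallelPair.one
        exact hf.symm.trans (by simp [h0]))
    obtain ⟨k, ⟨e⟩⟩ := hfree m
    obtain ⟨W, l, hxW, hl⟩ := exists_free_lift e
      (F.liftCycles (α.f m) (m + 1) (by simp) hz) (F.toCycles (m - 1) m) x
    have hl' : l ≫ (Scheme.Modules.restrictFunctor W.ι).map (F.d (m - 1) m) =
        (Scheme.Modules.restrictFunctor W.ι).map (α.f m) := by
      have h := congrArg (· ≫ (Scheme.Modules.restrictFunctor W.ι).map (F.iCycles m)) hl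
      simpa [← Functor.map_comp] using h
    let h : ∀ i j, (ComplexShape.up ℤ).Rel j i →
        (((resCx W.ι).obj E).X i ⟶ ((resCx W.ι).obj F).X j) := fun i j hij =>
      if hi : i = m then eqToHom (congrArg ((resCx W.ι).obj E).X hi) ≫ l ≫
        eqToHom (congrArg ((resCx W.ι).obj F).X
          (show m - 1 = j by change j + 1 = i at hij; omega)) else 0
    let α₁ := (resCx W.ι).map α - Homotopy.nullHomotopicMap' h
    have hf : ∀ i, a + n ≤ i → α₁.f i = 0 := by
      intro i hi
      rw [HomologicalComplex.sub_f_apply, Homotopy.nullHomotopicMap'_f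
        (show (ComplexShape.up ℤ).Rel (i - 1) i by simp) (show (ComplexShape.up ℤ).Rel i (i + 1) from rfl)]
      simp only [h, dif_neg (show i + 1 ≠ m by omega), comp_zero, zero_add]
      rcases eq_or_lt_of_le hi with rfl | hlt
      · rw [dif_pos rfl]
        simp only [eqToHom_refl, Category.id_comp, Category.comp_id]
        exact sub_eq_zero.2 hl'.symm
      · rw [dif_neg (by omega), zero_comp, sub_zero]
        change (Scheme.Modules.restrictFunctor W.ι).map (α.f i) = 0
        rw [hα i (by push_cast; omega), Functor.map_zero]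
    obtain ⟨T, hxT, ⟨H⟩⟩ := ih α₁ (hfree.restrict W.ι) a
      (fun i hi => Functor.map_isZero (Scheme.Modules.restrictFunctor W.ι) (hE i hi))
      (fun i hi => exactAt_resCx W.ι (hF i hi))
      hf ⟨x, hxW⟩
    let H₀ : Homotopy ((resCx W.ι).map α) α₁ :=
      Homotopy.equivSubZero.symm ((Homotopy.ofEq (by simp [α₁])).trans (Homotopy.nullHomotopy' h))
    obtain ⟨H'⟩ := null_trans W T (α := α) (β := 0)
      (((Functor.mapHomotopy (Scheme.Modules.restrictFunctor T.ι) H₀).trans H).trans
        (Homotopy.ofEq (by simp)))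
    exact ⟨_, mem_opensRange W T hxW hxT, ⟨H'.trans (Homotopy.ofEq (by simp))⟩⟩

end Groth.Agent.DCX42
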