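import Groth.Agent.DCX42.TensRestrict

/-!
# The derived projection formula for extension by zero
-/

set_option autoImplicit false
set_option backward.isDefEq.respectTransparency.types false
set_option backward.isDefEq.respectTransparency false
set_option linter.style.haveILetI false

noncomputable section

universe u

open CategoryTheory Limits AlgebraicGeometry DerivedCategory
attribute [local instance] HasDerivedCategory.standard

namespace Groth.Agent.DCX42

variable {U X : Scheme.{u}} (j : U ⟶ X) [IsOpenImmersion j]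

/-- Extension by zero is exact. -/
theorem preservesFiniteLimits_extZero : PreservesFiniteLimits (CxOX.extZero j) :=
  haveI : (CxOX.extZero j).Additive := (CxOX.extZeroAdj j).left_adjoint_additive
  haveI : PreservesColimitsOfSize.{0, 0} (CxOX.extZero j) := (CxOX.extZeroAdj j).leftAdjoint_preservesColimits
  haveI : (CxOX.extZero j).PreservesHomology :=
    (CxOX.extZero j).preservesHomology_of_preservesMonos_and_cokernels
  (CxOX.extZero j).preservesFiniteLimits_of_preservesHomology

variable [PreservesFiniteLimits (CxOX.extZero j)]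

local instance : (CxOX.extZero j).Additive := (CxOX.extZeroAdj j).left_adjoint_additive

/-- The adjunction `j_! ⊣ j^*` on derived categories. -/
def extZeroDAdj : CxOX.extZeroD j ⊣ DCoh.restrictD j := derAdjExact (CxOX.extZeroAdj j)

/-- `j_!` on complexes followed by localization. -/
def extFac : Q ⋙ CxOX.extZeroD j ≅ extCxZ j ⋙ Q := (CxOX.extZero j).mapDerivedCategoryFactors

variable (K : CochainComplex X.Modules ℤ) [DCoh.HasLTensorCx K] [DCoh.HasLTensorCx ((resCx j).obj K)]

/-- The unit on complexes. -/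
def extUnitIso : extCxZ j ⋙ resCx j ≅ 𝟭 (CochainComplex U.Modules ℤ) :=
  have : ∀ F, IsIso ((extCxZAdj j).unit.app F) := fun F =>
    have : ∀ n, IsIso (((extCxZAdj j).unit.app F).f n) := fun n =>
      inferInstanceAs (IsIso ((CxOX.extZeroAdj j).unit.app (F.X n)))
    HomologicalComplex.Hom.isIso_of_components _
  have : IsIso (extCxZAdj j).unit := NatIso.isIso_of_isIso_app _
  (asIso (extCxZAdj j).unit).symm

/-- The comparison on complexes. -/
def compAux : extCxZ j ⋙ (DCoh.tensorCx (X := X)).flip.obj K ⋙ resCx j ≅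
    (DCoh.tensorCx (X := U)).flip.obj ((resCx j).obj K) :=
  Functor.isoWhiskerLeft (extCxZ j) (resTensCx j K).symm ≪≫ (Functor.associator _ _ _).symm ≪≫
    Functor.isoWhiskerRight (extUnitIso j) _ ≪≫ Functor.leftUnitor _

/-- The structure map of `(j_!(-) ⊗^L K)|_U`. -/
def compCounit : Q ⋙ (CxOX.extZeroD j ⋙ DCoh.LTensorCx K ⋙ DCoh.restrictD j) ⟶
    DCoh.tensorCxQ ((resCx j).obj K) where
  app F :=
    (DCoh.restrictD j).map ((DCoh.LTensorCx K).map ((extFac j).hom.app F) ≫
        ((DCoh.tensorCxQ K).totalLeftDerivedCounit Q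
          (HomologicalComplex.quasiIso X.Modules (ComplexShape.up ℤ))).app ((extCxZ j).obj F)) ≫
      (Scheme.Modules.restrictFunctor j).mapDerivedCategoryFactors.hom.app _ ≫
      Q.map ((compAux j K).hom.app F)
  naturality F G φ := by
    let α := (DCoh.tensorCxQ K).totalLeftDerivedCounit Q
      (HomologicalComplex.quasiIso X.Modules (ComplexShape.up ℤ))
    have h1 : (CxOX.extZeroD j).map (Q.map φ) ≫ (extFac j).hom.app G =
        (extFac j).hom.app F ≫ Q.map ((extCxZ j).map φ) := (extFac j).hom.naturality φ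
    have h2 : (DCoh.LTensorCx K).map (Q.map ((extCxZ j).map φ)) ≫ α.app _ =
        α.app _ ≫ Q.map (((DCoh.tensorCx (X := X)).flip.obj K).map ((extCxZ j).map φ)) :=
      α.naturality ((extCxZ j).map φ)
    have h3 := (Scheme.Modules.restrictFunctor j).mapDerivedCategoryFactors.hom.naturality
      (((DCoh.tensorCx (X := X)).flip.obj K).map ((extCxZ j).map φ))
    have h4 := congrArg Q.map ((compAux j K).hom.naturality φ)
    simp only [Functor.map_comp] at h4
    dsimp only [Functor.comp_map] at h3 h4 ⊢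
    simp only [Category.assoc, ← Functor.map_comp_assoc]
    simp only [← (DCoh.LTensorCx K).map_comp, h1]
    simp only [(DCoh.LTensorCx K).map_comp, Category.assoc, α] at h2 ⊢
    rw [h2]
    simp only [Functor.map_comp, Category.assoc]
    refine congrArg (_ ≫ ·) (congrArg (_ ≫ ·) ?_)
    rw [reassoc_of% h3, h4]

/-- The projection formula for extension by zero. -/
theorem nonempty_projFormula :
    Nonempty (DCoh.LTensorCx ((resCx j).obj K) ⋙ CxOX.extZeroD j ≅ CxOX.extZeroD j ⋙ DCoh.LTensorCx K) := by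
  let K' := (resCx j).obj K
  let α' := (DCoh.tensorCxQ K').totalLeftDerivedCounit Q
    (HomologicalComplex.quasiIso U.Modules (ComplexShape.up ℤ))
  let α := (DCoh.tensorCxQ K).totalLeftDerivedCounit Q
    (HomologicalComplex.quasiIso X.Modules (ComplexShape.up ℤ))
  let H := CxOX.extZeroD j ⋙ DCoh.LTensorCx K ⋙ DCoh.restrictD j
  let τ : H ⟶ DCoh.LTensorCx K' :=
    (DCoh.LTensorCx K').leftDerivedLift α' (HomologicalComplex.quasiIso U.Modules (ComplexShape.up ℤ)) H
      (compCounit j K)
  let ε : (CxOX.extZeroD j ⋙ DCoh.LTensorCx K) ⋙ DCoh.restrictD j ⋙ CxOX.extZeroD j ⟶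
      CxOX.extZeroD j ⋙ DCoh.LTensorCx K :=
    Functor.whiskerLeft _ (extZeroDAdj j).counit ≫ (Functor.rightUnitor _).hom
  have key : ∀ Z : DCoh.D U, IsIso (τ.app Z) ∧ IsIso (ε.app Z) := by
    intro Z
    obtain ⟨F, p, hF, -, hp, -⟩ := Mod48.exists_resolution (O := U.sheaf)
      (Q.objPreimage Z : CochainComplex U.Modules ℤ)
    have hp' : IsIso (Q.map (C := CochainComplex U.Modules ℤ) p) :=
      (isIso_Q_map_iff_quasiIso U.Modules p).2 hp
    let e : Q.obj (F : CochainComplex U.Modules ℤ) ≅ Z := @asIso _ _ _ _ _ hp' ≪≫ Q.objObjPreimageIso Z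
    have hF' := isKFlat_extCxZ j F hF
    haveI : ModSite.HasLTensorCx (O := X.sheaf) K := ‹DCoh.HasLTensorCx K›
    haveI : ModSite.HasLTensorCx (O := U.sheaf) K' := ‹DCoh.HasLTensorCx ((resCx j).obj K)›
    have hα : IsIso (α.app ((extCxZ j).obj F)) := DerComp18.isIso_ltCounit (O := X.sheaf) K _ hF'
    have hα' : IsIso (α'.app F) := DerComp18.isIso_ltCounit (O := U.sheaf) K' _ hF
    constructor
    · refine (NatTrans.isIso_app_iff_of_iso τ e).1 ?_
      have hc : IsIso ((compCounit j K).app F) := by
        change IsIso ((DCoh.restrictD j).map (_ ≫ α.app ((extCxZ j).obj F)) ≫ _ ≫ _)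
        infer_instance
      have := (DCoh.LTensorCx K').leftDerived_fac_app α'
        (HomologicalComplex.quasiIso U.Modules (ComplexShape.up ℤ)) H (compCounit j K) F
      exact IsIso.of_isIso_fac_right this
    · refine (NatTrans.isIso_app_iff_of_iso ε e).1 ?_
      have := isIso_counit_tensor j F K
      have h := isIso_derAdjExact_counit (CxOX.extZeroAdj j)
        ((DCoh.tensorCx.obj ((extCxZ j).obj F)).obj K)
      have hi : (CxOX.extZeroD j ⋙ DCoh.LTensorCx K).obj (Q.obj F) ≅
          Q.obj ((DCoh.tensorCx.obj ((extCxZ j).obj F)).obj K) :=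
        (DCoh.LTensorCx K).mapIso ((extFac j).app F) ≪≫ @asIso _ _ _ _ _ hα
      have h' : IsIso ((extZeroDAdj j).counit.app ((CxOX.extZeroD j ⋙ DCoh.LTensorCx K).obj (Q.obj F))) :=
        (NatTrans.isIso_app_iff_of_iso (extZeroDAdj j).counit hi).2 h
      change IsIso ((extZeroDAdj j).counit.app _ ≫ 𝟙 _)
      exact IsIso.comp_isIso' h' inferInstance
  have : IsIso τ := (NatTrans.isIso_iff_isIso_app τ).2 fun Z => (key Z).1
  have : IsIso ε := (NatTrans.isIso_iff_isIso_app ε).2 fun Z => (key Z).2
  exact ⟨Functor.isoWhiskerRight (asIso τ).symm _ ≪≫ Functor.associator _ _ _ ≪≫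
    Functor.isoWhiskerLeft _ (Functor.associator _ _ _) ≪≫ (Functor.associator _ _ _).symm ≪≫ asIso ε⟩

end Groth.Agent.DCX42
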