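import Groth.Agent.DCX42.RHomLocal
import Groth.Agent.FlatModel41.Models
import Groth.Agent.DCX42.Trunc

/-!
# `RHom(F, G)` for pseudo-coherent `F` and bounded below `G`
-/

set_option autoImplicit false
set_option linter.style.haveILetI false
set_option backward.isDefEq.respectTransparency.types false
set_option maxHeartbeats 400000

noncomputable section

universe u

open CategoryTheory Limits AlgebraicGeometry Pretriangulated DerivedCategory

attribute [local instance] HasDerivedCategory.standard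

namespace Groth.Agent.DCX42.RHomCalc

open Groth.Agent.Mod48

variable {X : Scheme.{u}}

attribute [local instance] hasLT hasRSheafHom

/-- The fourth map of the rotated mapping cone triangle. -/
theorem triPair_shift₂ {A B : CochainComplex X.Modules ℤ} (f : A ⟶ B) :
    TriPair (-(f⟦(1 : ℤ)⟧')) (-((CochainComplex.mappingCone.inr f)⟦(1 : ℤ)⟧')) := by
  have h := rot_of_distTriang _ (rot_of_distTriang _ (rot_of_distTriang _
    (DerivedCategory.mappingCone_triangle_distinguished f)))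
  let T := DerivedCategory.Q.mapTriangle.obj (CochainComplex.mappingCone.triangle f)
  let eA := (DerivedCategory.Q.commShiftIso (1 : ℤ)).app A
  let eB := (DerivedCategory.Q.commShiftIso (1 : ℤ)).app B
  let eC := (DerivedCategory.Q.commShiftIso (1 : ℤ)).app (CochainComplex.mappingCone f)
  refine ⟨eC.hom ≫ (-(T.mor₃⟦(1 : ℤ)⟧')) ≫ eA.inv⟦(1 : ℤ)⟧', isomorphic_distinguished _ h _ ?_⟩
  refine Triangle.isoMk _ _ eA eB eC ?_ ?_ ?_
  · change DerivedCategory.Q.map (-(f⟦(1 : ℤ)⟧')) ≫ eB.hom = eA.hom ≫ (-(DerivedCategory.Q.map f)⟦(1 : ℤ)⟧')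
    rw [Functor.map_neg, Preadditive.neg_comp, Preadditive.comp_neg]
    exact congrArg (fun t => -t) ((DerivedCategory.Q.commShiftIso (1 : ℤ)).hom.naturality f)
  · change DerivedCategory.Q.map (-((CochainComplex.mappingCone.inr f)⟦(1 : ℤ)⟧')) ≫ eC.hom =
      eB.hom ≫ (-(DerivedCategory.Q.map (CochainComplex.mappingCone.inr f))⟦(1 : ℤ)⟧')
    rw [Functor.map_neg, Preadditive.neg_comp, Preadditive.comp_neg]
    exact congrArg (fun t => -t)
      ((DerivedCategory.Q.commShiftIso (1 : ℤ)).hom.naturality (CochainComplex.mappingCone.inr f))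
  · change (eC.hom ≫ (-(T.mor₃⟦(1 : ℤ)⟧')) ≫ eA.inv⟦(1 : ℤ)⟧') ≫ eA.hom⟦(1 : ℤ)⟧' =
      eC.hom ≫ (-(T.mor₃⟦(1 : ℤ)⟧'))
    rw [Category.assoc, Category.assoc, ← Functor.map_comp]
    erw [Iso.inv_hom_id, CategoryTheory.Functor.map_id, Category.comp_id]
    rfl

/-- `RHom(C, G)` vanishes in low degrees, for `C` bounded above and `G` bounded below. -/
theorem isZero_HD_RH (C : CochainComplex X.Modules ℤ) (c r j : ℤ) [(Q.obj C).IsLE c] (G : DCoh.D X) [G.IsGE r]
    (hj : j + c < r) : IsZero (DCoh.HD ((DCoh.RSheafHom C).obj G) j) := by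
  obtain ⟨C', hC', ⟨e⟩⟩ := DerivedCategory.exists_iso_Q_obj_of_isLE (Q.obj C) c
  obtain ⟨i⟩ := nonempty_rhIso e G
  refine IsZero.of_iso ?_ ((DerivedCategory.homologyFunctor X.Modules j).mapIso i)
  let Φ : LocGen (Opens.grothendieckTopology X) X.Modules := modGen X.sheaf
  refine Φ.detect fun U a => ?_
  obtain ⟨S, hS, hlift⟩ := Φ.ev_locally_surjective a
  refine Φ.sep a S hS fun V g hg => ?_
  obtain ⟨x, hx⟩ := hlift g hg
  suffices h0 : ((DCoh.RSheafHomAdj C').homEquiv _ G).symm x = 0 by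
    rw [← hx]
    have : x = 0 := by
      haveI := QExact41.TriLike.additive (QExact41.triLike_LTensorCx C')
      apply ((DCoh.RSheafHomAdj C').homEquiv _ G).symm.injective
      rw [h0, Adjunction.homEquiv_counit (g := 0), Functor.map_zero, zero_comp]
    rw [this, LocGen.ev, Functor.map_zero, comp_zero]
  let P := (HomologicalComplex.single X.Modules (ComplexShape.up ℤ) j).obj (Φ.P V)
  have hP : DCoh.IsKFlat P := isKFlat_single_shift (O := X.sheaf) (isFlat_freeOn (O := X.sheaf) V) j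
  haveI := isIso_cn C' P hP
  haveI : ((DCoh.tensorCx.obj P).obj C').IsStrictlyLE (j + c) := by
    rw [CochainComplex.isStrictlyLE_iff]
    intro k hk
    refine FlatModel41.isZero_tc_X (O := X.sheaf) k fun p q hpq => ?_
    by_cases hp : p = j
    · exact Or.inr (C'.isZero_of_isStrictlyLE c q (by omega))
    · exact Or.inl (HomologicalComplex.isZero_single_obj_X _ j _ p hp)
  haveI : ((DCoh.tensorCxQ C').obj P).IsLE (j + c) :=
    (DerivedCategory.isLE_Q_obj_iff ((DCoh.tensorCx.obj P).obj C') _).2 inferInstance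
  haveI : ((DCoh.LTensorCx C').obj (Q.obj P)).IsLE (j + c) :=
    DerivedCategory.TStructure.t.isLE_of_iso (asIso ((cn C').app P)).symm _
  exact DerivedCategory.TStructure.t.zero_of_isLE_of_isGE _ (j + c) r hj inferInstance inferInstance

/-- An `m`-isomorphism gives the same low degree cohomology of `RHom(-, G)`, shifted chain map form. -/
theorem nonempty_iso_shift {A B : CochainComplex X.Modules ℤ} (f : A ⟶ B) (m r j : ℤ) (hf : PCMap m (Q.map f))
    (G : DCoh.D X) [G.IsGE r] (hj : j < r - (m - 1)) :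
    Nonempty (DCoh.HD ((DCoh.RSheafHom (B⟦(1 : ℤ)⟧)).obj G) j ≅ DCoh.HD ((DCoh.RSheafHom (A⟦(1 : ℤ)⟧)).obj G) j) := by
  haveI h1 : (Q.obj (CochainComplex.mappingCone f)).IsLE (m - 1) :=
    (pcMap_iff_isLE (DerivedCategory.mappingCone_triangle_distinguished f) m).1 hf
  haveI : ((Q.obj (CochainComplex.mappingCone f))⟦(1 : ℤ)⟧).IsLE (m - 2) :=
    DerivedCategory.TStructure.t.isLE_shift (Q.obj (CochainComplex.mappingCone f)) (m - 1) 1 (m - 2) (by omega)
  haveI : (Q.obj ((CochainComplex.mappingCone f)⟦(1 : ℤ)⟧)).IsLE (m - 2) :=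
    @Triangulated.TStructure.isLE_of_iso _ _ _ _ _ _ _ DerivedCategory.TStructure.t _ _
      ((Q.commShiftIso (1 : ℤ)).app (CochainComplex.mappingCone f)).symm _ (by assumption)
  let φ := (DerivedCategory.homologyFunctor X.Modules j).map ((rhMap (-(f⟦(1 : ℤ)⟧'))).app G)
  haveI : Epi φ := (exact_HD (triPair_shift f) G j).epi_f
    ((isZero_HD_RH (CochainComplex.mappingCone f) (m - 1) r j G (by omega)).eq_of_tgt _ _)
  haveI : Mono φ := (exact_HD (triPair_shift₂ f) G j).mono_g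
    ((isZero_HD_RH ((CochainComplex.mappingCone f)⟦(1 : ℤ)⟧) (m - 2) r j G (by omega)).eq_of_src _ _)
  haveI : IsIso φ := isIso_of_mono_of_epi φ
  exact ⟨asIso φ⟩

/-- An `n`-isomorphism `E ⟶ F` identifies `H^j RHom(F, G)` with `H^j RHom(E, G)` for `j < r - n`. -/
theorem nonempty_iso_of_pcMap {E F : CochainComplex X.Modules ℤ} (α : Q.obj E ⟶ Q.obj F) (n r j : ℤ)
    (hα : PCMap n α) (G : DCoh.D X) [G.IsGE r] (hj : j < r - n) :
    Nonempty (DCoh.HD ((DCoh.RSheafHom F).obj G) j ≅ DCoh.HD ((DCoh.RSheafHom E).obj G) j) := by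
  obtain ⟨M, s, hs, g, hg⟩ := DerivedCategory.right_fac α
  haveI := hs
  let f := g⟦(-1 : ℤ)⟧'
  have hg' : PCMap n (Q.map g) := by
    rw [show Q.map g = Q.map s ≫ α by rw [hg, IsIso.hom_inv_id_assoc]]
    exact (PCMap.of_isIso n _).comp hα
  have hf : PCMap (n + 1) (Q.map f) := by
    rw [show Q.map f = (Q.commShiftIso (-1 : ℤ)).hom.app M ≫ (Q.map g)⟦(-1 : ℤ)⟧' ≫
      (Q.commShiftIso (-1 : ℤ)).inv.app F by simp [f]]
    exact (PCMap.of_isIso _ _).comp
      (((show n - -1 = n + 1 by omega) ▸ hg'.shift (-1)).comp (PCMap.of_isIso _ _))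
  obtain ⟨i⟩ := nonempty_iso_shift f (n + 1) r j hf G (by omega)
  obtain ⟨a⟩ := nonempty_rhIso (Q.mapIso ((shiftFunctorCompIsoId (CochainComplex X.Modules ℤ) (-1 : ℤ) 1 (by omega)).app F)) G
  obtain ⟨b⟩ := nonempty_rhIso (Q.mapIso ((shiftFunctorCompIsoId (CochainComplex X.Modules ℤ) (-1 : ℤ) 1 (by omega)).app M) ≪≫
    asIso (Q.map s)) G
  exact ⟨(DerivedCategory.homologyFunctor X.Modules j).mapIso a.symm ≪≫ i ≪≫
    (DerivedCategory.homologyFunctor X.Modules j).mapIso b⟩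

/-- A bounded termwise free approximation. -/
def HasFreeApprox (n : ℤ) (K : DCoh.D X) : Prop :=
  ∃ (E : CochainComplex X.Modules ℤ) (a b : ℤ) (α : Q.obj E ⟶ K), DCX42.IsTermFree E ∧
    (∀ i, i < a ∨ b < i → IsZero (E.X i)) ∧ PCMap n α

/-- Pseudo-coherent objects have bounded termwise free approximations near every point. -/
theorem exists_freeApprox {n : ℤ} {K : DCoh.D X} (hK : DCoh.IsPseudoCoherentD n K) (x : X) :
    ∃ T : X.Opens, x ∈ T ∧ HasFreeApprox n ((DCX42.resD T.ι).obj K) := by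
  obtain ⟨V, hx, E, α, hE, hα⟩ := (DCX42.isPC_iff n K).1 hK x
  obtain ⟨⟨a, b, hab⟩, -⟩ := id hE
  obtain ⟨W, hW, hF⟩ := DCX42.exists_termFree hE ⟨x, hx⟩
  exact DCX42.exists_open_of_pieces (P := fun {_} L => HasFreeApprox n L)
    (fun ⟨E, a, b, β, h, hb, hβ⟩ i => ⟨E, a, b, β ≫ i.hom, h, hb, hβ.comp (PCMap.of_isIso n _)⟩)
    (fun j _ ⟨E, a, b, β, h, hb, hβ⟩ => ⟨(DCX42.resCx j).obj E, a, b, (DCX42.resQ j E).inv ≫ (DCX42.resD j).map β,
      h.restrict j, fun k hk => Functor.map_isZero (Scheme.Modules.restrictFunctor j) (hb k hk),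
      (PCMap.of_isIso n _).comp (hβ.map _)⟩)
    K V W hx hW
    ⟨(DCX42.resCx W.ι).obj E, a, b, (DCX42.resQ W.ι E).inv ≫ (DCX42.resD W.ι).map α, hF,
      fun k hk => Functor.map_isZero (Scheme.Modules.restrictFunctor W.ι) (hab k hk),
      (PCMap.of_isIso n _).comp (hα.map _)⟩

/-- `H^j RHom(F, G)` is quasi-coherent for `j < r - n`, `F` `n`-pseudo-coherent and `G` in degrees `≥ r`. -/
theorem isQCoh_HD_RH_pc (F : CochainComplex X.Modules ℤ) (n : ℤ) (hF : DCoh.IsPseudoCoherentD n (Q.obj F))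
    [DCoh.HasLTensorCx F] [DCoh.HasRSheafHom F] (G : DCoh.D X) (hG : DCoh.IsQCohD G) (r : ℤ) [G.IsGE r]
    (j : ℤ) (hj : j < r - n) : Coh.IsQCoh (DCoh.HD ((DCoh.RSheafHom F).obj G) j) := by
  refine DCX42.isQCoh_of_local _ fun x => ?_
  obtain ⟨T, hx, E, a, b, α, hE, hb, hα⟩ := exists_freeApprox hF x
  obtain ⟨r₀⟩ := S6515.result T F G
  obtain ⟨h⟩ := nonempty_HD_resD T.ι ((DCoh.RSheafHom F).obj G) j
  haveI : ((DCX42.resD T.ι).obj G).IsGE r := (DerivedCategory.isGE_iff _ _).2 fun i hi => by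
    obtain ⟨e⟩ := nonempty_HD_resD T.ι G i
    exact (Functor.map_isZero _ ((DerivedCategory.isGE_iff G r).1 inferInstance i hi)).of_iso e
  obtain ⟨i⟩ := nonempty_iso_of_pcMap (α ≫ (DCX42.resQ T.ι F).hom) n r j (hα.comp (PCMap.of_isIso n _))
    ((DCX42.resD T.ι).obj G) hj
  exact ⟨T, hx, QC70.isQuasicoherent_of_iso
    (((DerivedCategory.homologyFunctor _ j).mapIso r₀ ≪≫ i).symm ≪≫ h)
    (isQCohD_RH_termFree E hE a b hb _ (isQCohD_resD T.ι G hG) j)⟩

end Groth.Agent.DCX42.RHomCalc
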