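import Groth.Agent.DCX42.RHomQCoh
import Groth.Agent.QC70.CohOps

/-!
# `RHom(E, L)` has coherent cohomology for bounded termwise free `E`, on a locally Noetherian scheme
-/

set_option autoImplicit false
set_option linter.style.haveILetI false
set_option linter.unusedSectionVars false
set_option backward.isDefEq.respectTransparency.types false
set_option maxHeartbeats 400000

noncomputable section

universe u

open CategoryTheory Limits AlgebraicGeometry Pretriangulated DerivedCategory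
open scoped ZeroObject

attribute [local instance] HasDerivedCategory.standard

namespace Groth.Agent.DCX42.RHomCalc

open Groth.Agent.Mod48

variable {X : Scheme.{u}} [IsLocallyNoetherian X]

attribute [local instance] hasLT hasRSheafHom

lemma isCohD_shift {K : DCoh.D X} (h : DCoh.IsCohD K) (n : ℤ) : DCoh.IsCohD (K⟦n⟧) := fun i =>
  QC70.isCoh_of_iso (((DerivedCategory.homologyFunctor X.Modules 0).shiftIso n i (n + i) rfl).app K).symm (h (n + i))

/-- The middle term of an exact sequence of five coherent modules. -/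
theorem isCoh_of_five {A B C D E : X.Modules} {f : A ⟶ B} {g : B ⟶ C} {h : C ⟶ D} {k : D ⟶ E}
    {w₁ : f ≫ g = 0} {w₂ : g ≫ h = 0} {w₃ : h ≫ k = 0} (e₁ : (ShortComplex.mk f g w₁).Exact)
    (e₂ : (ShortComplex.mk g h w₂).Exact) (e₃ : (ShortComplex.mk h k w₃).Exact)
    (hA : Coh.IsCoh A) (hB : Coh.IsCoh B) (hD : Coh.IsCoh D) (hE : Coh.IsCoh E) : Coh.IsCoh C := by
  let g' : cokernel f ⟶ C := cokernel.desc f g w₁
  let h' : C ⟶ kernel k := kernel.lift k h w₃
  haveI : Mono g' := e₁.mono_cokernelDesc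
  haveI : Epi h' := e₃.epi_kernelLift
  have w : g' ≫ h' = 0 := by
    rw [← cancel_mono (kernel.ι k), ← cancel_epi (cokernel.π f)]
    simp [g', h', w₂]
  have hex : (ShortComplex.mk g' h' w).Exact := by
    let φ : ShortComplex.mk g h w₂ ⟶ ShortComplex.mk g' h (by rw [← cancel_epi (cokernel.π f)]; simp [g', w₂]) :=
      { τ₁ := cokernel.π f, τ₂ := 𝟙 _, τ₃ := 𝟙 _ }
    let ψ : ShortComplex.mk g' h' w ⟶ ShortComplex.mk g' h (by rw [← cancel_epi (cokernel.π f)]; simp [g', w₂]) :=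
      { τ₁ := 𝟙 _, τ₂ := 𝟙 _, τ₃ := kernel.ι k }
    haveI : Epi φ.τ₁ := inferInstanceAs (Epi (cokernel.π f))
    haveI : IsIso φ.τ₂ := inferInstanceAs (IsIso (𝟙 _))
    haveI : Mono φ.τ₃ := inferInstanceAs (Mono (𝟙 _))
    haveI : Epi ψ.τ₁ := inferInstanceAs (Epi (𝟙 _))
    haveI : IsIso ψ.τ₂ := inferInstanceAs (IsIso (𝟙 _))
    haveI : Mono ψ.τ₃ := inferInstanceAs (Mono (kernel.ι k))
    rw [ShortComplex.exact_iff_of_epi_of_isIso_of_mono ψ, ← ShortComplex.exact_iff_of_epi_of_isIso_of_mono φ]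
    exact e₂
  exact QC70.isCoh_X₂ (ShortComplex.mk g' h' w) { exact := hex } (QC70.isCoh_cokernel f hA.1 hB)
    (QC70.isCoh_kernel k hD hE.1)

variable {A B : CochainComplex X.Modules ℤ} (f : A ⟶ B) in
theorem isCohD_RH_cone (L : DCoh.D X) (hA : DCoh.IsCohD ((DCoh.RSheafHom A).obj L))
    (hA' : DCoh.IsCohD ((DCoh.RSheafHom (A⟦(1 : ℤ)⟧)).obj L)) (hB : DCoh.IsCohD ((DCoh.RSheafHom B).obj L))
    (hB' : DCoh.IsCohD ((DCoh.RSheafHom (B⟦(1 : ℤ)⟧)).obj L)) :
    DCoh.IsCohD ((DCoh.RSheafHom (CochainComplex.mappingCone f)).obj L) := fun m =>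
  isCoh_of_five (exact_HD (triPair_shift f) L m) (exact_HD (triPair_coneMap f) L m) (exact_HD (triPair_inr f) L m)
    (hB' m) (hA' m) (hB m) (hA m)


/-- All shifts of `K` have quasi-coherent internal homs into `L`. -/
def CCo (L K : DCoh.D X) : Prop :=
  ∀ (E : CochainComplex X.Modules ℤ) (k : ℤ), Nonempty (Q.obj E ≅ K⟦k⟧) → DCoh.IsCohD ((DCoh.RSheafHom E).obj L)

lemma isCohD_of_iso' {K K' : DCoh.D X} (e : K ≅ K') (h : DCoh.IsCohD K) : DCoh.IsCohD K' := fun i =>
  QC70.isCoh_of_iso ((DerivedCategory.homologyFunctor X.Modules i).mapIso e) (h i)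

lemma ccoD_of_iso {E E' : CochainComplex X.Modules ℤ} (L : DCoh.D X) (e : Q.obj E ≅ Q.obj E')
    (h : DCoh.IsCohD ((DCoh.RSheafHom E).obj L)) : DCoh.IsCohD ((DCoh.RSheafHom E').obj L) := by
  obtain ⟨i⟩ := nonempty_rhIso e L
  exact isCohD_of_iso' i h

lemma CCo.of_iso {L K K' : DCoh.D X} (h : CCo L K) (e : K ≅ K') : CCo L K' := fun E k ⟨i⟩ =>
  h E k ⟨i ≪≫ (shiftFunctor (DCoh.D X) k).mapIso e.symm⟩

lemma CCo.shift {L K : DCoh.D X} (h : CCo L K) (n : ℤ) : CCo L (K⟦n⟧) := fun E k ⟨i⟩ =>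
  h E (n + k) ⟨i ≪≫ ((shiftFunctorAdd (DCoh.D X) n k).app K).symm⟩

/-- Two out of three. -/
theorem CCo.obj₃ {L : DCoh.D X} (T : Triangle (DCoh.D X)) (hT : T ∈ distTriang (DCoh.D X))
    (h₁ : CCo L T.obj₁) (h₂ : CCo L T.obj₂) : CCo L T.obj₃ := by
  intro E k ⟨i⟩
  have hT' := Triangle.shift_distinguished T hT k
  obtain ⟨A, B, f, ⟨e⟩⟩ := (DerivedCategory.mem_distTriang_iff _).1 hT'
  let e₁ : Q.obj A ≅ T.obj₁⟦k⟧ := (Triangle.π₁.mapIso e).symm
  let e₂ : Q.obj B ≅ T.obj₂⟦k⟧ := (Triangle.π₂.mapIso e).symm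
  let e₃ : Q.obj (CochainComplex.mappingCone f) ≅ T.obj₃⟦k⟧ := (Triangle.π₃.mapIso e).symm
  refine ccoD_of_iso L (e₃ ≪≫ i.symm) (isCohD_RH_cone f L (h₁ A k ⟨e₁⟩) (h₁ _ (k + 1) ⟨?_⟩) (h₂ B k ⟨e₂⟩)
    (h₂ _ (k + 1) ⟨?_⟩))
  · exact (Q.commShiftIso (1 : ℤ)).app A ≪≫ (shiftFunctor (DCoh.D X) (1 : ℤ)).mapIso e₁ ≪≫
      ((shiftFunctorAdd (DCoh.D X) k 1).app _).symm
  · exact (Q.commShiftIso (1 : ℤ)).app B ≪≫ (shiftFunctor (DCoh.D X) (1 : ℤ)).mapIso e₂ ≪≫
      ((shiftFunctorAdd (DCoh.D X) k 1).app _).symm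

theorem cco_sglO (L : DCoh.D X) (hL : DCoh.IsCohD L) : CCo L (Q.obj (sglO X)) := by
  intro E k ⟨i⟩
  refine ccoD_of_iso L ((Q.commShiftIso k).app (sglO X) ≪≫ i.symm) ?_
  obtain ⟨α⟩ := nonempty_LT_shift (X := X) k
  let adj := (shiftEquiv (DCoh.D X) k).toAdjunction.ofNatIsoLeft α.symm
  exact isCohD_of_iso' (((DCoh.RSheafHomAdj ((sglO X)⟦k⟧)).rightAdjointUniq adj).app L).symm
    (isCohD_shift hL (-k))

/-- Finite free modules in one degree. -/
theorem cco_single_free (L : DCoh.D X) (hL : DCoh.IsCohD L) (n : ℕ) (q : ℤ) :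
    CCo L ((DerivedCategory.singleFunctor X.Modules q).obj (FlatMod.freeMod X n)) := by
  have hO : CCo L ((DerivedCategory.singleFunctor X.Modules 0).obj (Coh.structureModule X)) :=
    (cco_sglO L hL).of_iso
      ((DerivedCategory.singleFunctorIsoCompQ X.Modules 0).symm.app (Coh.structureModule X))
  have h0 : ∀ Z : DCoh.D X, IsZero Z → CCo L Z := fun Z hZ =>
    (CCo.obj₃ _ (contractible_distinguished _) hO hO).of_iso ((isZero_zero _).iso hZ)
  have h : ∀ n : ℕ, CCo L ((DerivedCategory.singleFunctor X.Modules 0).obj (FlatMod.freeMod X n)) := by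
    intro n
    induction n with
    | zero =>
      exact h0 _ (Functor.map_isZero _ ((IsZero.iff_id_eq_zero _).2 (Sigma.hom_ext _ _ fun k => k.elim0)))
    | succ n ih =>
      let e : FlatMod.freeMod X 1 ≅ Coh.structureModule X :=
        coproductUniqueIso (fun _ : Fin 1 => Coh.structureModule X)
      let F := DerivedCategory.singleFunctor X.Modules 0
      haveI : F.Additive := inferInstanceAs (DerivedCategory.singleFunctor X.Modules 0).Additive
      haveI : PreservesBinaryBiproducts F := preservesBinaryBiproducts_of_preservesBiproducts F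
      let i : F.obj (FlatMod.freeMod X (n + 1)) ≅ F.obj (FlatMod.freeMod X n) ⊞ F.obj (Coh.structureModule X) :=
        F.mapIso ((freeSum n 1).symm ≪≫ biprod.mapIso (Iso.refl _) e) ≪≫ F.mapBiprod _ _
      refine CCo.of_iso ?_ i.symm
      have hr := inv_rot_of_distTriang _
        (binaryBiproductTriangle_distinguished (F.obj (FlatMod.freeMod X n)) (F.obj (Coh.structureModule X)))
      exact CCo.obj₃ _ hr (hO.shift (-1)) ih
  exact ((h n).shift (-q)).of_iso
    (((DerivedCategory.singleFunctors X.Modules).shiftIso (-q) q 0 (by simp)).app _)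

/-- Bounded termwise free complexes. -/
theorem cco_termFree (L : DCoh.D X) (hL : DCoh.IsCohD L) (d : ℕ) :
    ∀ (E : CochainComplex X.Modules ℤ) (a : ℤ), DCX42.IsTermFree E →
      (∀ i, i < a ∨ a + d ≤ i → IsZero (E.X i)) → CCo L (Q.obj E) := by
  induction d with
  | zero =>
    intro E a _ hE
    refine CCo.of_iso (cco_single_free L hL 0 0) (IsZero.iso ?_ (Functor.map_isZero _ ?_))
    · exact Functor.map_isZero _ ((IsZero.iff_id_eq_zero _).2 (Sigma.hom_ext _ _ fun k => k.elim0))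
    · exact (IsZero.iff_id_eq_zero _).2 (HomologicalComplex.hom_ext _ _ fun i =>
        (hE i (by omega)).eq_of_src _ _)
  | succ d ih =>
    intro E a hF hE
    let f := DCX42.σIncl E (a + 1)
    haveI : ∀ i, Mono (f.f i) := fun i => by
      by_cases hi : a + 1 ≤ i
      · haveI := DCX42.isIso_σIncl_f E (a + 1) hi
        infer_instance
      · exact ⟨fun g g' _ => (DCX42.isZero_σX E (a + 1) (by omega)).eq_of_tgt g g'⟩
    haveI : Mono f := HomologicalComplex.mono_of_mono_f f inferInstance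
    let S := ShortComplex.mk f (cokernel.π f) (cokernel.condition f)
    have hS : S.ShortExact :=
      { exact := ShortComplex.exact_of_g_is_cokernel _ (cokernelIsCokernel f) }
    have hCz : ∀ i, i ≠ a → IsZero ((cokernel f).X i) := fun i hi => by
      haveI : Epi ((cokernel.π f).f i) :=
        inferInstanceAs (Epi ((HomologicalComplex.eval X.Modules (ComplexShape.up ℤ) i).map (cokernel.π f)))
      refine IsZero.of_epi_eq_zero ((cokernel.π f).f i) ?_
      by_cases hi' : a + 1 ≤ i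
      · haveI := DCX42.isIso_σIncl_f E (a + 1) hi'
        rw [← cancel_epi (f.f i), comp_zero, ← HomologicalComplex.comp_f, cokernel.condition]
        rfl
      · exact (hE i (by omega)).eq_of_src _ _
    haveI : (cokernel f).IsStrictlyGE a :=
      (CochainComplex.isStrictlyGE_iff _ _).2 fun i hi => hCz i (by omega)
    haveI : (cokernel f).IsStrictlyLE a :=
      (CochainComplex.isStrictlyLE_iff _ _).2 fun i hi => hCz i (by omega)
    obtain ⟨M, ⟨c⟩⟩ := (cokernel f).exists_iso_single a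
    obtain ⟨n, ⟨en⟩⟩ := hF a
    have hS' := hS.map_of_exact (HomologicalComplex.eval X.Modules (ComplexShape.up ℤ) a)
    haveI : IsIso ((cokernel.π f).f a) := by
      refine hS'.isIso_g_iff.2 (DCX42.isZero_σX E (a + 1) (by omega))
    let eM : M ≅ FlatMod.freeMod X n :=
      (HomologicalComplex.singleObjXSelf (ComplexShape.up ℤ) a M).symm ≪≫
        ((HomologicalComplex.eval X.Modules (ComplexShape.up ℤ) a).mapIso c).symm ≪≫
        (asIso ((cokernel.π f).f a)).symm ≪≫ en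
    have h3 : CCo L (Q.obj (cokernel f)) :=
      (cco_single_free L hL n a).of_iso
        ((DerivedCategory.singleFunctor X.Modules a).mapIso eM.symm ≪≫
          (DerivedCategory.singleFunctorIsoCompQ X.Modules a).app M ≪≫ Q.mapIso c.symm)
    have h1 : CCo L (Q.obj (DCX42.σGE E (a + 1))) := ih _ (a + 1) (fun i => by
        by_cases hi : a + 1 ≤ i
        · obtain ⟨n, ⟨e⟩⟩ := hF i
          exact ⟨n, ⟨eqToIso (DCX42.σX_of_le E (a + 1) hi) ≪≫ e⟩⟩
        · exact ⟨0, ⟨(DCX42.isZero_σX E (a + 1) (by omega)).iso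
            ((IsZero.iff_id_eq_zero _).2 (Sigma.hom_ext _ _ fun k => k.elim0))⟩⟩)
      (fun i hi => by
        by_cases hi' : a + 1 ≤ i
        · exact (hE i (Or.inr (by omega))).of_iso (eqToIso (DCX42.σX_of_le E (a + 1) hi'))
        · exact DCX42.isZero_σX E (a + 1) (by omega))
    exact CCo.obj₃ _ (inv_rot_of_distTriang _ (DerivedCategory.triangleOfSES_distinguished hS))
      (h3.shift (-1)) h1

/-- Bounded termwise free complexes, as complexes. -/
theorem isCohD_RH_termFree (E : CochainComplex X.Modules ℤ) (hF : DCX42.IsTermFree E) (a b : ℤ)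
    (hE : ∀ i, i < a ∨ b < i → IsZero (E.X i)) (L : DCoh.D X) (hL : DCoh.IsCohD L) :
    DCoh.IsCohD ((DCoh.RSheafHom E).obj L) :=
  cco_termFree L hL (b + 1 - a).toNat E a hF (fun i hi => hE i (by omega)) E 0
    ⟨((shiftFunctorZero (DCoh.D X) ℤ).app _).symm⟩

end Groth.Agent.DCX42.RHomCalc
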