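import Groth.Agent.DCX42.RHomBound
import Groth.Agent.DCX42.RHomCoh
import Groth.Agent.DCX42.Affine

/-!
# `RHom(K, L)` is bounded below with coherent cohomology on a locally Noetherian scheme
-/

set_option autoImplicit false
set_option linter.style.haveILetI false
set_option backward.isDefEq.respectTransparency.types false
set_option maxHeartbeats 400000

noncomputable section

universe u

open CategoryTheory Limits AlgebraicGeometry Pretriangulated DerivedCategory

attribute [local instance] HasDerivedCategory.standard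

namespace Groth.Agent.DCX42.RHomCalc

variable {X : Scheme.{u}}

attribute [local instance] hasLT hasRSheafHom

/-- Quasi-coherence of coherent cohomology. -/
lemma isQCohD_of_isCohD {K : DCoh.D X} (h : DCoh.IsCohD K) : DCoh.IsQCohD K := fun i => (h i).1

/-- Coherent cohomology restricts. -/
theorem isCohD_resD {U : Scheme.{u}} (j : U ⟶ X) [IsOpenImmersion j] (K : DCoh.D X) (h : DCoh.IsCohD K) :
    DCoh.IsCohD ((DCX42.resD j).obj K) := fun i => by
  obtain ⟨e⟩ := nonempty_HD_resD j K i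
  haveI : (DCoh.HD K i).IsQuasicoherent := (h i).1
  haveI := (h i).2
  haveI := QCRes72.isFiniteType_restrict j (DCoh.HD K i)
  exact QC70.isCoh_of_iso e.symm ⟨(inferInstance : ((DCoh.HD K i).restrict j).IsQuasicoherent), ‹_›⟩

/-- Boundedness below. -/
theorem isGE_RH (K : CochainComplex X.Modules ℤ) [DCoh.HasLTensorCx K] [DCoh.HasRSheafHom K] (b : ℤ)
    [(Q.obj K).IsLE b] (L : DCoh.D X) (a : ℤ) [L.IsGE a] : ((DCoh.RSheafHom K).obj L).IsGE (a - b) :=
  (DerivedCategory.isGE_iff _ _).2 fun j hj => isZero_HD_RH K b a j L (by omega)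

/-- Coherence. -/
theorem isCohD_RH [IsLocallyNoetherian X] (K : CochainComplex X.Modules ℤ) [DCoh.HasLTensorCx K]
    [DCoh.HasRSheafHom K] (b : ℤ) [(Q.obj K).IsLE b] (hK : DCoh.IsCohD (Q.obj K)) (L : DCoh.D X) (a : ℤ)
    [L.IsGE a] (hL : DCoh.IsCohD L) : DCoh.IsCohD ((DCoh.RSheafHom K).obj L) := fun j => by
  have hpc : DCoh.IsPseudoCoherentD (a - j - 1) (Q.obj K) :=
    DCX42.isPC_of_coherent (b := b) (isQCohD_of_isCohD hK) (fun i _ => hK i) inferInstance
  refine DCX42.isCoh_of_local _ fun x => ?_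
  obtain ⟨T, hx, E, c, d, α, hE, hb, hα⟩ := exists_freeApprox hpc x
  obtain ⟨r₀⟩ := S6515.result T K L
  obtain ⟨h⟩ := nonempty_HD_resD T.ι ((DCoh.RSheafHom K).obj L) j
  haveI : ((DCX42.resD T.ι).obj L).IsGE a := (DerivedCategory.isGE_iff _ _).2 fun i hi => by
    obtain ⟨e⟩ := nonempty_HD_resD T.ι L i
    exact (Functor.map_isZero _ ((DerivedCategory.isGE_iff L a).1 inferInstance i hi)).of_iso e
  obtain ⟨i⟩ := nonempty_iso_of_pcMap (α ≫ (DCX42.resQ T.ι K).hom) (a - j - 1) a j
    (hα.comp (PCMap.of_isIso _ _)) ((DCX42.resD T.ι).obj L) (by omega)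
  exact ⟨T, hx, QC70.isCoh_of_iso
    (((DerivedCategory.homologyFunctor _ j).mapIso r₀ ≪≫ i).symm ≪≫ h)
    (isCohD_RH_termFree E hE c d hb _ (isCohD_resD T.ι L hL) j)⟩

end Groth.Agent.DCX42.RHomCalc
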