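import Groth.Agent.DCX42.RHomQCoh
import Groth.Agent.DCX42.Coh
import Groth.Agent.DCX42.Perfect
import Groth.Agent.S6515

/-!
# Local computation of `RHom(K, L)`
-/

set_option autoImplicit false
set_option linter.style.haveILetI false
set_option backward.isDefEq.respectTransparency.types false
set_option maxHeartbeats 400000

noncomputable section

universe u

open CategoryTheory Limits AlgebraicGeometry Pretriangulated DerivedCategory

attribute [local instance] HasDerivedCategory.standard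

namespace Groth.Agent.DCX42.RHomCalc

variable {X U : Scheme.{u}}

attribute [local instance] hasLT hasRSheafHom

/-- A bounded termwise free representative. -/
def HasFreeRep (K : DCoh.D X) : Prop :=
  ∃ (E : CochainComplex X.Modules ℤ) (a b : ℤ), DCX42.IsTermFree E ∧
    (∀ i, i < a ∨ b < i → IsZero (E.X i)) ∧ Nonempty (K ≅ Q.obj E)

/-- Perfect objects have bounded termwise free representatives near every point. -/
theorem exists_freeRep {K : DCoh.D X} (hK : DCoh.IsPerfect K) (x : X) :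
    ∃ T : X.Opens, x ∈ T ∧ HasFreeRep ((DCX42.resD T.ι).obj K) := by
  obtain ⟨V, hx, E, hE, ⟨e⟩⟩ := (DCX42.isPerfect_iff K).1 hK x
  obtain ⟨⟨a, b, hab⟩, -⟩ := id hE
  obtain ⟨W, hW, hF⟩ := DCX42.exists_termFree hE ⟨x, hx⟩
  exact DCX42.exists_open_of_pieces (P := fun {_} L => HasFreeRep L)
    (fun ⟨E, a, b, h, hb, ⟨i⟩⟩ j => ⟨E, a, b, h, hb, ⟨j.symm ≪≫ i⟩⟩)
    (fun j _ ⟨E, a, b, h, hb, ⟨i⟩⟩ => ⟨(DCX42.resCx j).obj E, a, b, h.restrict j,
      fun k hk => Functor.map_isZero (Scheme.Modules.restrictFunctor j) (hb k hk),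
      ⟨(DCX42.resD j).mapIso i ≪≫ DCX42.resQ j E⟩⟩)
    K V W hx hW
    ⟨(DCX42.resCx W.ι).obj E, a, b, hF,
      fun k hk => Functor.map_isZero (Scheme.Modules.restrictFunctor W.ι) (hab k hk),
      ⟨(DCX42.resD W.ι).mapIso e ≪≫ DCX42.resQ W.ι E⟩⟩

/-- Cohomology sheaves commute with restriction. -/
theorem nonempty_HD_resD (j : U ⟶ X) [IsOpenImmersion j] (K : DCoh.D X) (i : ℤ) :
    Nonempty (DCoh.HD ((DCX42.resD j).obj K) i ≅ (Scheme.Modules.restrictFunctor j).obj (DCoh.HD K i)) :=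
  Mod48.nonempty_homology_mapDerivedCategory (Scheme.Modules.restrictFunctor j) K i

/-- Quasi-coherent cohomology restricts. -/
theorem isQCohD_resD (j : U ⟶ X) [IsOpenImmersion j] (K : DCoh.D X) (h : DCoh.IsQCohD K) :
    DCoh.IsQCohD ((DCX42.resD j).obj K) := fun i => by
  obtain ⟨e⟩ := nonempty_HD_resD j K i
  haveI : (DCoh.HD K i).IsQuasicoherent := h i
  exact QC70.isQuasicoherent_of_iso e.symm inferInstance

/-- `RHom(K, L)|_T ≅ RHom(E, L|_T)` when `E` represents `K|_T`. -/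
theorem nonempty_resD_RH (T : X.Opens) (K : CochainComplex X.Modules ℤ) [DCoh.HasLTensorCx K]
    [DCoh.HasRSheafHom K] (E : CochainComplex (T : Scheme.{u}).Modules ℤ)
    (e : (DCX42.resD T.ι).obj (Q.obj K) ≅ Q.obj E) (L : DCoh.D X) :
    Nonempty ((DCX42.resD T.ι).obj ((DCoh.RSheafHom K).obj L) ≅
      (DCoh.RSheafHom E).obj ((DCX42.resD T.ι).obj L)) := by
  obtain ⟨a⟩ := S6515.result T K L
  obtain ⟨b⟩ := nonempty_rhIso ((DCX42.resQ T.ι K).symm ≪≫ e) ((DCX42.resD T.ι).obj L)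
  exact ⟨a ≪≫ b⟩

/-- `RHom(K, L)` has quasi-coherent cohomology for `K` perfect and `L` with quasi-coherent cohomology. -/
theorem isQCohD_RH_perfect (K : CochainComplex X.Modules ℤ) (hK : DCoh.IsPerfect (Q.obj K))
    [DCoh.HasLTensorCx K] [DCoh.HasRSheafHom K] (L : DCoh.D X) (hL : DCoh.IsQCohD L) :
    DCoh.IsQCohD ((DCoh.RSheafHom K).obj L) := fun i => by
  refine DCX42.isQCoh_of_local _ fun x => ?_
  obtain ⟨T, hx, E, a, b, hF, hb, ⟨e⟩⟩ := exists_freeRep hK x
  obtain ⟨r⟩ := nonempty_resD_RH T K E e L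
  obtain ⟨h⟩ := nonempty_HD_resD T.ι ((DCoh.RSheafHom K).obj L) i
  exact ⟨T, hx, QC70.isQuasicoherent_of_iso h
    ((isQCohD_of_iso' r.symm (isQCohD_RH_termFree E hF a b hb _ (isQCohD_resD T.ι L hL))) i)⟩

end Groth.Agent.DCX42.RHomCalc
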