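import Groth.Agent.DCX42.Der
import Mathlib.Algebra.Homology.HomotopyCategory.MappingCone
import Mathlib.CategoryTheory.Triangulated.Triangulated

/-!
# Pseudo-coherence in distinguished triangles
-/

set_option autoImplicit false
set_option backward.isDefEq.respectTransparency false

noncomputable section

universe u

open CategoryTheory Limits AlgebraicGeometry TopologicalSpace Opposite Pretriangulated DerivedCategory

attribute [local instance] HasDerivedCategory.standard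

namespace Groth.Agent.DCX42

variable {U V X : Scheme.{u}}

/-- A sum of two finite free modules is free. -/
def freeSum (n m : ℕ) : (FlatMod.freeMod X n ⊞ FlatMod.freeMod X m) ≅ FlatMod.freeMod X (n + m) where
  hom := biprod.desc
    (Sigma.desc fun i => Sigma.ι (fun _ : Fin (n + m) => Coh.structureModule X) (i.castAdd m))
    (Sigma.desc fun i => Sigma.ι (fun _ : Fin (n + m) => Coh.structureModule X) (i.natAdd n))
  inv := Sigma.desc (Fin.addCases
    (fun i => Sigma.ι (fun _ : Fin n => Coh.structureModule X) i ≫ biprod.inl)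
    (fun i => Sigma.ι (fun _ : Fin m => Coh.structureModule X) i ≫ biprod.inr))
  hom_inv_id := by
    refine biprod.hom_ext' _ _ (Sigma.hom_ext _ _ fun i => ?_) (Sigma.hom_ext _ _ fun i => ?_) <;> simp
  inv_hom_id := by
    refine Sigma.hom_ext _ _ fun i => ?_
    refine Fin.addCases (fun i => ?_) (fun i => ?_) i <;> simp

lemma isFinLocFree_biprod {M N : X.Modules} (hM : FlatMod.IsFinLocFree M) (hN : FlatMod.IsFinLocFree N) :
    FlatMod.IsFinLocFree (M ⊞ N) := fun x => by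
  obtain ⟨A, n, hxA, ⟨e⟩⟩ := hM x
  obtain ⟨B, m, hxB, ⟨f⟩⟩ := hN x
  have sh : ∀ {W T : X.Opens} (_ : T ≤ W) {P : X.Modules} {k : ℕ},
      (P.restrict W.ι ≅ FlatMod.freeMod (↑W) k) → Nonempty (P.restrict T.ι ≅ FlatMod.freeMod (↑T) k) := by
    intro W T h P k i
    obtain ⟨i'⟩ := isFree_restrict i (X.homOfLE h)
    exact ⟨((Scheme.Modules.restrictFunctorCongr (X.homOfLE_ι h)).symm.app P ≪≫
      (Scheme.Modules.restrictFunctorComp _ _).app P) ≪≫ i'⟩
  obtain ⟨e'⟩ := sh (inf_le_left : A ⊓ B ≤ A) e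
  obtain ⟨f'⟩ := sh (inf_le_right : A ⊓ B ≤ B) f
  have := preservesBinaryBiproducts_of_preservesBinaryCoproducts (Scheme.Modules.restrictFunctor (A ⊓ B).ι)
  exact ⟨A ⊓ B, n + m, ⟨hxA, hxB⟩,
    ⟨(Scheme.Modules.restrictFunctor (A ⊓ B).ι).mapBiprod M N ≪≫ biprod.mapIso e' f' ≪≫ freeSum n m⟩⟩

lemma isFinLocFree_of_isZero {M : X.Modules} (h : IsZero M) : FlatMod.IsFinLocFree M := fun x =>
  ⟨⊤, 0, trivial, ⟨(Functor.map_isZero (Scheme.Modules.restrictFunctor _) h).iso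
    ((IsZero.iff_id_eq_zero _).2 (Sigma.hom_ext _ _ fun k => k.elim0))⟩⟩

lemma isStrictlyPerfect_cone {E F : CochainComplex X.Modules ℤ} (f : E ⟶ F)
    (hE : DCoh.IsStrictlyPerfect E) (hF : DCoh.IsStrictlyPerfect F) :
    DCoh.IsStrictlyPerfect (CochainComplex.mappingCone f) := by
  obtain ⟨⟨a, b, hab⟩, hE'⟩ := hE
  obtain ⟨⟨c, d, hcd⟩, hF'⟩ := hF
  refine ⟨⟨min (a - 1) c, max b d, fun i hi => ?_⟩, fun i => ?_⟩
  · refine IsZero.of_iso ?_ (HomologicalComplex.homotopyCofiber.XIsoBiprod f i (i + 1) rfl)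
    rw [IsZero.iff_id_eq_zero]
    exact biprod.hom_ext _ _ ((hab (i + 1) (by omega)).eq_of_tgt _ _) ((hcd i (by omega)).eq_of_tgt _ _)
  · exact isFinLocFree_of_iso (HomologicalComplex.homotopyCofiber.XIsoBiprod f i (i + 1) rfl).symm
      (isFinLocFree_biprod (hE' _) (hF' _))

lemma isStrictlyPerfect_σGE {E : CochainComplex X.Modules ℤ} (hE : DCoh.IsStrictlyPerfect E) (a : ℤ) :
    DCoh.IsStrictlyPerfect (σGE E a) := by
  obtain ⟨⟨c, b, hb⟩, hE'⟩ := hE
  refine ⟨⟨a, max a b, fun i hi => ?_⟩, fun i => ?_⟩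
  · change IsZero (σX E a i)
    by_cases h : a ≤ i
    · rw [σX_of_le E a h]
      exact hb i (by omega)
    · exact isZero_σX E a (by omega)
  · change FlatMod.IsFinLocFree (σX E a i)
    by_cases h : a ≤ i
    · rw [σX_of_le E a h]
      exact hE' i
    · exact isFinLocFree_of_isZero (isZero_σX E a (by omega))

/-- The key case of two out of three. -/
theorem loc_pcApprox_cone {m : ℤ} {K L M : DCoh.D X} (f : K ⟶ L) (g : L ⟶ M) (h : M ⟶ K⟦(1 : ℤ)⟧)
    (hT : Triangle.mk f g h ∈ distinguishedTriangles) (hK : HasPCApprox (m + 1) K)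
    (hL : HasPCApprox m L) : Loc (fun {_} A => HasPCApprox m A) M := by
  intro x
  obtain ⟨E₀, α₀, hE₀, hα₀⟩ := hK
  obtain ⟨E', β, hE', hβ⟩ := hL
  let E := σGE E₀ (m + 1)
  let α : Q.obj E ⟶ K := Q.map (σIncl E₀ (m + 1)) ≫ α₀
  have hα : PCMap (m + 1) α := ((pcMap_Q_iff _ _).2 (σIncl_spec E₀ (m + 1))).comp hα₀
  have hE : DCoh.IsStrictlyPerfect E := isStrictlyPerfect_σGE hE₀ _
  obtain ⟨C, p, q, hC⟩ := distinguished_cocone_triangle β
  obtain ⟨W, hx, hW⟩ := exists_map_eq_zero hE (a := m) (fun i hi => isZero_σX E₀ (m + 1) (by omega))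
    ((pcMap_iff_isLE hC m).1 hβ) (α ≫ f ≫ p) x
  let P := resD W.ι
  obtain ⟨γ, hγ⟩ := Triangle.coyoneda_exact₂ _ (P.map_distinguished _ hC) (P.map (α ≫ f)) (by
    change P.map (α ≫ f) ≫ P.map p = 0
    rw [← Functor.map_comp, Category.assoc, hW])
  obtain ⟨T, δ, hxT, hδ⟩ := exists_rep (isStrictlyPerfect_restrict hE W.ι)
    ((resQ W.ι E).inv ≫ γ ≫ (resQ W.ι E').hom) (⟨x, hx⟩ : W)
  let R := resD T.ι
  let A₁ := (resCx T.ι).obj ((resCx W.ι).obj E)
  let A₂ := (resCx T.ι).obj ((resCx W.ι).obj E')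
  let a : Q.obj A₁ ⟶ R.obj (P.obj K) :=
    (resQ T.ι _).inv ≫ R.map ((resQ W.ι E).inv ≫ P.map α)
  let b : Q.obj A₂ ⟶ R.obj (P.obj L) :=
    (resQ T.ι _).inv ≫ R.map ((resQ W.ι E').inv ≫ P.map β)
  have ha : PCMap (m + 1) a :=
    (PCMap.of_isIso _ _).comp (((PCMap.of_isIso _ _).comp (hα.map _)).map _)
  have hb : PCMap m b := (PCMap.of_isIso _ _).comp (((PCMap.of_isIso _ _).comp (hβ.map _)).map _)
  let f' := R.map (P.map f)
  have comm : Q.map δ ≫ b = a ≫ f' := by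
    have hδ' : Q.map δ ≫ (resQ T.ι _).inv =
        (resQ T.ι _).inv ≫ R.map ((resQ W.ι E).inv ≫ γ ≫ (resQ W.ι E').hom) := by
      rw [hδ]
      exact ((resQ T.ι _).inv_hom_id_assoc _).symm
    simp only [a, b, f']
    rw [reassoc_of% hδ', Category.assoc, ← Functor.map_comp, ← Functor.map_comp]
    congr 2
    simp only [Category.assoc, Iso.hom_inv_id_assoc]
    rw [← Functor.map_comp]
    exact congrArg ((resQ W.ι E).inv ≫ ·) hγ.symm
  obtain ⟨N, n₁, n₂, hN⟩ := distinguished_cocone_triangle (a ≫ f')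
  obtain ⟨Da, p₁, p₂, hDa⟩ := distinguished_cocone_triangle a
  obtain ⟨Db, q₁, q₂, hDb⟩ := distinguished_cocone_triangle b
  have hA : Triangle.mk (Q.map δ) (Q.map (CochainComplex.mappingCone.inr δ))
      (Q.mapTriangle.obj (CochainComplex.mappingCone.triangle δ)).mor₃ ∈ distinguishedTriangles :=
    (DerivedCategory.mem_distTriang_iff _).2 ⟨_, _, _, ⟨Iso.refl _⟩⟩
  let o₁ := Triangulated.someOctahedron comm hA hDb hN
  have hf' : Triangle.mk f' _ _ ∈ distinguishedTriangles :=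
    R.map_distinguished _ (P.map_distinguished _ hT)
  let o₂ := Triangulated.someOctahedron rfl hDa hf' hN
  have h₁ : PCMap m o₁.m₁ := (pcMap_iff_isLE o₁.mem m).2 ((pcMap_iff_isLE hDb m).1 hb)
  have h₂ : PCMap m o₂.m₃ := by
    refine (pcMap_iff_isLE (rot_of_distTriang _ o₂.mem) m).2 ?_
    have := (pcMap_iff_isLE hDa (m + 1)).1 ha
    exact TStructure.t.isLE_shift Da (m + 1 - 1) 1 (m - 1) (by omega)
  exact exists_open_of_pieces (P := fun {_} A => HasPCApprox m A) (fun h e => h.of_iso e)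
    (fun j _ h => h.restrict j) M W T hx hxT
    ⟨CochainComplex.mappingCone δ, o₁.m₁ ≫ o₂.m₃, isStrictlyPerfect_cone δ
      (isStrictlyPerfect_restrict (isStrictlyPerfect_restrict hE W.ι) T.ι)
      (isStrictlyPerfect_restrict (isStrictlyPerfect_restrict hE' W.ι) T.ι), h₁.comp h₂⟩

end Groth.Agent.DCX42
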