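import Groth.Agent.DCX42.RHomTri
import Groth.Agent.DCX42.Tri
import Groth.Agent.DCX42.TildeEq
import Groth.Agent.DerComp18.AwayHom
import Groth.Agent.DerComp18.Descent

/-!
# `RHom(E, L)` has quasi-coherent cohomology for bounded termwise free `E`
-/

set_option autoImplicit false
set_option linter.style.haveILetI false
set_option backward.isDefEq.respectTransparency.types false
set_option maxHeartbeats 400000

noncomputable section

universe u

open CategoryTheory Limits AlgebraicGeometry Pretriangulated DerivedCategory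
open scoped ZeroObject

attribute [local instance] HasDerivedCategory.standard

namespace Groth.Agent.DCX42.RHomCalc

open Groth.Agent.Mod48

variable {X : Scheme.{u}}

attribute [local instance] hasLT hasRSheafHom

/-- The middle term of an exact sequence of five quasi-coherent modules. -/
theorem isQCoh_of_five {A B C D E : X.Modules} {f : A ⟶ B} {g : B ⟶ C} {h : C ⟶ D} {k : D ⟶ E}
    {w₁ : f ≫ g = 0} {w₂ : g ≫ h = 0} {w₃ : h ≫ k = 0} (e₁ : (ShortComplex.mk f g w₁).Exact)
    (e₂ : (ShortComplex.mk g h w₂).Exact) (e₃ : (ShortComplex.mk h k w₃).Exact)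
    (hA : Coh.IsQCoh A) (hB : Coh.IsQCoh B) (hD : Coh.IsQCoh D) (hE : Coh.IsQCoh E) : Coh.IsQCoh C := by
  let g' : cokernel f ⟶ C := cokernel.desc f g w₁
  let h' : C ⟶ kernel k := kernel.lift k h w₃
  haveI : Mono g' := e₁.mono_cokernelDesc
  haveI : Epi h' := e₃.epi_kernelLift
  have w : g' ≫ h' = 0 := by
    rw [← cancel_mono (kernel.ι k), ← cancel_epi (cokernel.π f)]
    simp [g', h', w₂]
  have hex : (ShortComplex.mk g' h' w).Exact := by
    let φ : ShortComplex.mk g h w₂ ⟶ ShortComplex.mk g' h (by rw [← cancel_epi (cokernel.π f)]; simp [g', w₂]) :=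
      { τ₁ := cokernel.π f, τ₂ := 𝟙 _, τ₃ := 𝟙 _ }
    let ψ : ShortComplex.mk g' h' w ⟶ ShortComplex.mk g' h (by rw [← cancel_epi (cokernel.π f)]; simp [g', w₂]) :=
      { τ₁ := 𝟙 _, τ₂ := 𝟙 _, τ₃ := kernel.ι k }
    haveI : Epi φ.τ₁ := inferInstanceAs (Epi (cokernel.π f))
    haveI : IsIso φ.τ₂ := inferInstanceAs (IsIso (𝟙 _))
    haveI : Mono φ.τ₃ := inferInstanceAs (Mono (𝟙 _))
    haveI : Epi ψ.τ₁ := inferInstanceAs (Epi (𝟙 _))
    haveI : IsIso ψ.τ₂ := inferInstanceAs (IsIso (𝟙 _))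
    haveI : Mono ψ.τ₃ := inferInstanceAs (Mono (kernel.ι k))
    rw [ShortComplex.exact_iff_of_epi_of_isIso_of_mono ψ, ← ShortComplex.exact_iff_of_epi_of_isIso_of_mono φ]
    exact e₂
  haveI : (cokernel f).IsQuasicoherent := by
    haveI : A.IsQuasicoherent := hA
    haveI : B.IsQuasicoherent := hB
    exact QC70.isQuasicoherent_cokernel f
  haveI : (kernel k).IsQuasicoherent := by
    haveI : D.IsQuasicoherent := hD
    haveI : E.IsQuasicoherent := hE
    exact QC70.isQuasicoherent_kernel k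
  exact QC70.isQuasicoherent_X₂ (ShortComplex.mk g' h' w) { exact := hex }

section Cone

variable {A B : CochainComplex X.Modules ℤ} (f : A ⟶ B)

/-- The third map of the mapping cone triangle. -/
abbrev coneMap : CochainComplex.mappingCone f ⟶ A⟦(1 : ℤ)⟧ := (CochainComplex.mappingCone.triangle f).mor₃

theorem triPair_inr : TriPair f (CochainComplex.mappingCone.inr f) :=
  ⟨_, DerivedCategory.mappingCone_triangle_distinguished f⟩

theorem triPair_coneMap : TriPair (CochainComplex.mappingCone.inr f) (coneMap f) := by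
  have h := rot_of_distTriang _ (DerivedCategory.mappingCone_triangle_distinguished f)
  let e := (DerivedCategory.Q.commShiftIso (1 : ℤ)).app A
  refine ⟨e.hom ≫ (-(DerivedCategory.Q.map f)⟦(1 : ℤ)⟧'), isomorphic_distinguished _ h _ ?_⟩
  refine Triangle.isoMk _ _ (Iso.refl _) (Iso.refl _) e ?_ ?_ ?_
  · exact (Category.comp_id _).trans (Category.id_comp _).symm
  · change DerivedCategory.Q.map (coneMap f) ≫ e.hom =
      𝟙 _ ≫ (DerivedCategory.Q.map (coneMap f) ≫ (DerivedCategory.Q.commShiftIso (1 : ℤ)).hom.app A)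
    rw [Category.id_comp]
    rfl
  · change (e.hom ≫ (-(DerivedCategory.Q.map f)⟦(1 : ℤ)⟧')) ≫ (𝟙 _)⟦(1 : ℤ)⟧' = e.hom ≫ _
    rw [CategoryTheory.Functor.map_id, Category.comp_id]
    rfl

theorem triPair_shift : TriPair (coneMap f) (-(f⟦(1 : ℤ)⟧')) := by
  have h := rot_of_distTriang _ (rot_of_distTriang _ (DerivedCategory.mappingCone_triangle_distinguished f))
  let e := (DerivedCategory.Q.commShiftIso (1 : ℤ)).app A
  let e' := (DerivedCategory.Q.commShiftIso (1 : ℤ)).app B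
  refine ⟨e'.hom ≫ (-(DerivedCategory.Q.map (CochainComplex.mappingCone.inr f))⟦(1 : ℤ)⟧'),
    isomorphic_distinguished _ h _ ?_⟩
  refine Triangle.isoMk _ _ (Iso.refl _) e e' ?_ ?_ ?_
  · change DerivedCategory.Q.map (coneMap f) ≫ e.hom =
      𝟙 _ ≫ (DerivedCategory.Q.map (coneMap f) ≫ (DerivedCategory.Q.commShiftIso (1 : ℤ)).hom.app A)
    rw [Category.id_comp]
    rfl
  · change DerivedCategory.Q.map (-(f⟦(1 : ℤ)⟧')) ≫ e'.hom = e.hom ≫ (-(DerivedCategory.Q.map f)⟦(1 : ℤ)⟧')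
    rw [Functor.map_neg, Preadditive.neg_comp, Preadditive.comp_neg]
    exact congrArg (fun t => -t) ((DerivedCategory.Q.commShiftIso (1 : ℤ)).hom.naturality f)
  · change (e'.hom ≫ (-(DerivedCategory.Q.map (CochainComplex.mappingCone.inr f))⟦(1 : ℤ)⟧')) ≫ (𝟙 _)⟦(1 : ℤ)⟧' =
      e'.hom ≫ _
    rw [CategoryTheory.Functor.map_id, Category.comp_id]
    rfl

theorem isQCohD_RH_cone (L : DCoh.D X) (hA : DCoh.IsQCohD ((DCoh.RSheafHom A).obj L))
    (hA' : DCoh.IsQCohD ((DCoh.RSheafHom (A⟦(1 : ℤ)⟧)).obj L)) (hB : DCoh.IsQCohD ((DCoh.RSheafHom B).obj L))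
    (hB' : DCoh.IsQCohD ((DCoh.RSheafHom (B⟦(1 : ℤ)⟧)).obj L)) :
    DCoh.IsQCohD ((DCoh.RSheafHom (CochainComplex.mappingCone f)).obj L) := fun m =>
  isQCoh_of_five (exact_HD (triPair_shift f) L m) (exact_HD (triPair_coneMap f) L m) (exact_HD (triPair_inr f) L m)
    (hB' m) (hA' m) (hB m) (hA m)

end Cone

/-- All shifts of `K` have quasi-coherent internal homs into `L`. -/
def QCo (L K : DCoh.D X) : Prop :=
  ∀ (E : CochainComplex X.Modules ℤ) (k : ℤ), Nonempty (Q.obj E ≅ K⟦k⟧) → DCoh.IsQCohD ((DCoh.RSheafHom E).obj L)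

lemma isQCohD_of_iso' {K K' : DCoh.D X} (e : K ≅ K') (h : DCoh.IsQCohD K) : DCoh.IsQCohD K' := fun i =>
  QC70.isQuasicoherent_of_iso ((DerivedCategory.homologyFunctor X.Modules i).mapIso e) (h i)

lemma qcoD_of_iso {E E' : CochainComplex X.Modules ℤ} (L : DCoh.D X) (e : Q.obj E ≅ Q.obj E')
    (h : DCoh.IsQCohD ((DCoh.RSheafHom E).obj L)) : DCoh.IsQCohD ((DCoh.RSheafHom E').obj L) := by
  obtain ⟨i⟩ := nonempty_rhIso e L
  exact isQCohD_of_iso' i h

lemma QCo.of_iso {L K K' : DCoh.D X} (h : QCo L K) (e : K ≅ K') : QCo L K' := fun E k ⟨i⟩ =>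
  h E k ⟨i ≪≫ (shiftFunctor (DCoh.D X) k).mapIso e.symm⟩

lemma QCo.shift {L K : DCoh.D X} (h : QCo L K) (n : ℤ) : QCo L (K⟦n⟧) := fun E k ⟨i⟩ =>
  h E (n + k) ⟨i ≪≫ ((shiftFunctorAdd (DCoh.D X) n k).app K).symm⟩

/-- Two out of three. -/
theorem QCo.obj₃ {L : DCoh.D X} (T : Triangle (DCoh.D X)) (hT : T ∈ distTriang (DCoh.D X))
    (h₁ : QCo L T.obj₁) (h₂ : QCo L T.obj₂) : QCo L T.obj₃ := by
  intro E k ⟨i⟩
  have hT' := Triangle.shift_distinguished T hT k
  obtain ⟨A, B, f, ⟨e⟩⟩ := (DerivedCategory.mem_distTriang_iff _).1 hT'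
  let e₁ : Q.obj A ≅ T.obj₁⟦k⟧ := (Triangle.π₁.mapIso e).symm
  let e₂ : Q.obj B ≅ T.obj₂⟦k⟧ := (Triangle.π₂.mapIso e).symm
  let e₃ : Q.obj (CochainComplex.mappingCone f) ≅ T.obj₃⟦k⟧ := (Triangle.π₃.mapIso e).symm
  refine qcoD_of_iso L (e₃ ≪≫ i.symm) (isQCohD_RH_cone f L (h₁ A k ⟨e₁⟩) (h₁ _ (k + 1) ⟨?_⟩) (h₂ B k ⟨e₂⟩)
    (h₂ _ (k + 1) ⟨?_⟩))
  · exact (Q.commShiftIso (1 : ℤ)).app A ≪≫ (shiftFunctor (DCoh.D X) (1 : ℤ)).mapIso e₁ ≪≫
      ((shiftFunctorAdd (DCoh.D X) k 1).app _).symm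
  · exact (Q.commShiftIso (1 : ℤ)).app B ≪≫ (shiftFunctor (DCoh.D X) (1 : ℤ)).mapIso e₂ ≪≫
      ((shiftFunctorAdd (DCoh.D X) k 1).app _).symm

/-- `O_X` in degree zero. -/
abbrev sglO (X : Scheme.{u}) : CochainComplex X.Modules ℤ := sgl (O := X.sheaf) (ModSite.unit X.sheaf)

/-- `- ⊗ O` is the identity on complexes. -/
def tcUnitNat (X : Scheme.{u}) :
    (DCoh.tensorCx (X := X)).flip.obj (sglO X) ≅ 𝟭 (CochainComplex X.Modules ℤ) :=
  (NatIso.ofComponents (fun F => tcSingleIso (O := X.sheaf) F (ModSite.unit X.sheaf))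
    fun g => DerComp18.tcSingleIso_natural (O := X.sheaf) g (ModSite.unit X.sheaf)).symm ≪≫
    NatIso.mapHomologicalComplex (tRIso (O := X.sheaf) (ModSite.unit X.sheaf) ≪≫
      (tensSymm (ModSite.unit X.sheaf)).symm ≪≫ tensUnit) (ComplexShape.up ℤ) ≪≫
    Functor.mapHomologicalComplexIdIso X.Modules (ComplexShape.up ℤ)

/-- Shifting the second factor of a tensor product. -/
def flipShiftIso (E : CochainComplex X.Modules ℤ) (k : ℤ) :
    (DCoh.tensorCx (X := X)).flip.obj (E⟦k⟧) ≅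
      (DCoh.tensorCx (X := X)).flip.obj E ⋙ shiftFunctor (CochainComplex X.Modules ℤ) k :=
  NatIso.ofComponents (fun F => (((DCoh.tensorBi (X := X)).map₂CochainComplex.obj F).commShiftIso k).app E)
    fun g => (NatTrans.shift_app_comm ((DCoh.tensorBi (X := X)).map₂CochainComplex.map g) k E).symm

/-- `- ⊗^L O[k]` is the shift. -/
theorem nonempty_LT_shift (k : ℤ) :
    Nonempty (DCoh.LTensorCx ((sglO X)⟦k⟧) ≅ shiftFunctor (DCoh.D X) k) := by
  let a : Q ⋙ shiftFunctor (DCoh.D X) k ≅ shiftFunctor (CochainComplex X.Modules ℤ) k ⋙ Q :=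
    (Q.commShiftIso k).symm
  haveI := Functor.isLeftDerivedFunctor_of_inverts (qi X) (shiftFunctor (DCoh.D X) k) a
  exact ⟨Functor.leftDerivedNatIso _ _ (cn ((sglO X)⟦k⟧)) a.hom (qi X)
    (Functor.isoWhiskerRight (flipShiftIso (sglO X) k ≪≫
      Functor.isoWhiskerRight (tcUnitNat X) (shiftFunctor _ k) ≪≫ Functor.leftUnitor _) Q)⟩

theorem qco_sglO (L : DCoh.D X) (hL : DCoh.IsQCohD L) : QCo L (Q.obj (sglO X)) := by
  intro E k ⟨i⟩
  refine qcoD_of_iso L ((Q.commShiftIso k).app (sglO X) ≪≫ i.symm) ?_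
  obtain ⟨α⟩ := nonempty_LT_shift (X := X) k
  let adj := (shiftEquiv (DCoh.D X) k).toAdjunction.ofNatIsoLeft α.symm
  exact isQCohD_of_iso' (((DCoh.RSheafHomAdj ((sglO X)⟦k⟧)).rightAdjointUniq adj).app L).symm
    (DCX42.isQCohD_shift hL (-k))

/-- Finite free modules in one degree. -/
theorem qco_single_free (L : DCoh.D X) (hL : DCoh.IsQCohD L) (n : ℕ) (q : ℤ) :
    QCo L ((DerivedCategory.singleFunctor X.Modules q).obj (FlatMod.freeMod X n)) := by
  have hO : QCo L ((DerivedCategory.singleFunctor X.Modules 0).obj (Coh.structureModule X)) :=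
    (qco_sglO L hL).of_iso
      ((DerivedCategory.singleFunctorIsoCompQ X.Modules 0).symm.app (Coh.structureModule X))
  have h0 : ∀ Z : DCoh.D X, IsZero Z → QCo L Z := fun Z hZ =>
    (QCo.obj₃ _ (contractible_distinguished _) hO hO).of_iso ((isZero_zero _).iso hZ)
  have h : ∀ n : ℕ, QCo L ((DerivedCategory.singleFunctor X.Modules 0).obj (FlatMod.freeMod X n)) := by
    intro n
    induction n with
    | zero =>
      exact h0 _ (Functor.map_isZero _ ((IsZero.iff_id_eq_zero _).2 (Sigma.hom_ext _ _ fun k => k.elim0)))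
    | succ n ih =>
      let e : FlatMod.freeMod X 1 ≅ Coh.structureModule X :=
        coproductUniqueIso (fun _ : Fin 1 => Coh.structureModule X)
      let F := DerivedCategory.singleFunctor X.Modules 0
      haveI : F.Additive := inferInstanceAs (DerivedCategory.singleFunctor X.Modules 0).Additive
      haveI : PreservesBinaryBiproducts F := preservesBinaryBiproducts_of_preservesBiproducts F
      let i : F.obj (FlatMod.freeMod X (n + 1)) ≅ F.obj (FlatMod.freeMod X n) ⊞ F.obj (Coh.structureModule X) :=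
        F.mapIso ((freeSum n 1).symm ≪≫ biprod.mapIso (Iso.refl _) e) ≪≫ F.mapBiprod _ _
      refine QCo.of_iso ?_ i.symm
      have hr := inv_rot_of_distTriang _
        (binaryBiproductTriangle_distinguished (F.obj (FlatMod.freeMod X n)) (F.obj (Coh.structureModule X)))
      exact QCo.obj₃ _ hr (hO.shift (-1)) ih
  exact ((h n).shift (-q)).of_iso
    (((DerivedCategory.singleFunctors X.Modules).shiftIso (-q) q 0 (by simp)).app _)

/-- Bounded termwise free complexes. -/
theorem qco_termFree (L : DCoh.D X) (hL : DCoh.IsQCohD L) (d : ℕ) :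
    ∀ (E : CochainComplex X.Modules ℤ) (a : ℤ), DCX42.IsTermFree E →
      (∀ i, i < a ∨ a + d ≤ i → IsZero (E.X i)) → QCo L (Q.obj E) := by
  induction d with
  | zero =>
    intro E a _ hE
    refine QCo.of_iso (qco_single_free L hL 0 0) (IsZero.iso ?_ (Functor.map_isZero _ ?_))
    · exact Functor.map_isZero _ ((IsZero.iff_id_eq_zero _).2 (Sigma.hom_ext _ _ fun k => k.elim0))
    · exact (IsZero.iff_id_eq_zero _).2 (HomologicalComplex.hom_ext _ _ fun i =>
        (hE i (by omega)).eq_of_src _ _)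
  | succ d ih =>
    intro E a hF hE
    let f := DCX42.σIncl E (a + 1)
    haveI : ∀ i, Mono (f.f i) := fun i => by
      by_cases hi : a + 1 ≤ i
      · haveI := DCX42.isIso_σIncl_f E (a + 1) hi
        infer_instance
      · exact ⟨fun g g' _ => (DCX42.isZero_σX E (a + 1) (by omega)).eq_of_tgt g g'⟩
    haveI : Mono f := HomologicalComplex.mono_of_mono_f f inferInstance
    let S := ShortComplex.mk f (cokernel.π f) (cokernel.condition f)
    have hS : S.ShortExact :=
      { exact := ShortComplex.exact_of_g_is_cokernel _ (cokernelIsCokernel f) }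
    have hCz : ∀ i, i ≠ a → IsZero ((cokernel f).X i) := fun i hi => by
      haveI : Epi ((cokernel.π f).f i) :=
        inferInstanceAs (Epi ((HomologicalComplex.eval X.Modules (ComplexShape.up ℤ) i).map (cokernel.π f)))
      refine IsZero.of_epi_eq_zero ((cokernel.π f).f i) ?_
      by_cases hi' : a + 1 ≤ i
      · haveI := DCX42.isIso_σIncl_f E (a + 1) hi'
        rw [← cancel_epi (f.f i), comp_zero, ← HomologicalComplex.comp_f, cokernel.condition]
        rfl
      · exact (hE i (by omega)).eq_of_src _ _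
    haveI : (cokernel f).IsStrictlyGE a :=
      (CochainComplex.isStrictlyGE_iff _ _).2 fun i hi => hCz i (by omega)
    haveI : (cokernel f).IsStrictlyLE a :=
      (CochainComplex.isStrictlyLE_iff _ _).2 fun i hi => hCz i (by omega)
    obtain ⟨M, ⟨c⟩⟩ := (cokernel f).exists_iso_single a
    obtain ⟨n, ⟨en⟩⟩ := hF a
    have hS' := hS.map_of_exact (HomologicalComplex.eval X.Modules (ComplexShape.up ℤ) a)
    haveI : IsIso ((cokernel.π f).f a) := by
      refine hS'.isIso_g_iff.2 (DCX42.isZero_σX E (a + 1) (by omega))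
    let eM : M ≅ FlatMod.freeMod X n :=
      (HomologicalComplex.singleObjXSelf (ComplexShape.up ℤ) a M).symm ≪≫
        ((HomologicalComplex.eval X.Modules (ComplexShape.up ℤ) a).mapIso c).symm ≪≫
        (asIso ((cokernel.π f).f a)).symm ≪≫ en
    have h3 : QCo L (Q.obj (cokernel f)) :=
      (qco_single_free L hL n a).of_iso
        ((DerivedCategory.singleFunctor X.Modules a).mapIso eM.symm ≪≫
          (DerivedCategory.singleFunctorIsoCompQ X.Modules a).app M ≪≫ Q.mapIso c.symm)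
    have h1 : QCo L (Q.obj (DCX42.σGE E (a + 1))) := ih _ (a + 1) (fun i => by
        by_cases hi : a + 1 ≤ i
        · obtain ⟨n, ⟨e⟩⟩ := hF i
          exact ⟨n, ⟨eqToIso (DCX42.σX_of_le E (a + 1) hi) ≪≫ e⟩⟩
        · exact ⟨0, ⟨(DCX42.isZero_σX E (a + 1) (by omega)).iso
            ((IsZero.iff_id_eq_zero _).2 (Sigma.hom_ext _ _ fun k => k.elim0))⟩⟩)
      (fun i hi => by
        by_cases hi' : a + 1 ≤ i
        · exact (hE i (Or.inr (by omega))).of_iso (eqToIso (DCX42.σX_of_le E (a + 1) hi'))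
        · exact DCX42.isZero_σX E (a + 1) (by omega))
    exact QCo.obj₃ _ (inv_rot_of_distTriang _ (DerivedCategory.triangleOfSES_distinguished hS))
      (h3.shift (-1)) h1

/-- Bounded termwise free complexes, as complexes. -/
theorem isQCohD_RH_termFree (E : CochainComplex X.Modules ℤ) (hF : DCX42.IsTermFree E) (a b : ℤ)
    (hE : ∀ i, i < a ∨ b < i → IsZero (E.X i)) (L : DCoh.D X) (hL : DCoh.IsQCohD L) :
    DCoh.IsQCohD ((DCoh.RSheafHom E).obj L) :=
  qco_termFree L hL (b + 1 - a).toNat E a hF (fun i hi => hE i (by omega)) E 0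
    ⟨((shiftFunctorZero (DCoh.D X) ℤ).app _).symm⟩

end Groth.Agent.DCX42.RHomCalc
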