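import Groth.Agent.DCX42.PC

/-!
# Retracts of pseudo-coherent objects
-/

set_option autoImplicit false
set_option backward.isDefEq.respectTransparency false

noncomputable section

universe u

open CategoryTheory Limits AlgebraicGeometry TopologicalSpace Opposite Pretriangulated DerivedCategory

attribute [local instance] HasDerivedCategory.standard

namespace Groth.Agent.DCX42

section Split

variable {T : Type*} [Category* T] [Preadditive T] [HasZeroObject T] [HasShift T ℤ]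
  [∀ n : ℤ, (shiftFunctor T n).Additive] [Pretriangulated T] [HasBinaryBiproducts T]

/-- The cone of the complementary idempotent of a retract `K` is `K ⊕ K[1]`. -/
lemma exists_cone_idem_iso {K S Z : T} (i : K ⟶ S) (r : S ⟶ K) (hir : i ≫ r = 𝟙 K)
    (v : S ⟶ Z) (w : Z ⟶ S⟦(1 : ℤ)⟧) (hT : Triangle.mk (𝟙 S - r ≫ i) v w ∈ distinguishedTriangles) :
    Nonempty (Z ≅ (K⟦(1 : ℤ)⟧ ⊞ K)) := by
  have h12 : (𝟙 S - r ≫ i) ≫ v = 0 := comp_distTriang_mor_zero₁₂ _ hT
  have h23 : v ≫ w = 0 := comp_distTriang_mor_zero₂₃ _ hT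
  have h31 : w ≫ (𝟙 S - r ≫ i)⟦(1 : ℤ)⟧' = 0 := comp_distTriang_mor_zero₃₁ _ hT
  have hv : v = r ≫ i ≫ v := by
    rw [Preadditive.sub_comp, sub_eq_zero] at h12
    simpa using h12
  have hw : w = w ≫ r⟦(1 : ℤ)⟧' ≫ i⟦(1 : ℤ)⟧' := by
    rw [Functor.map_sub, Preadditive.comp_sub, sub_eq_zero, CategoryTheory.Functor.map_id, Category.comp_id,
      Functor.map_comp] at h31
    exact h31
  obtain ⟨r₁, hr₁⟩ : ∃ r₁ : Z ⟶ K, r = v ≫ r₁ := Triangle.yoneda_exact₂ _ hT r (by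
    change (𝟙 S - r ≫ i) ≫ r = 0
    simp [Preadditive.sub_comp, hir])
  obtain ⟨s, hs⟩ : ∃ s : K⟦(1 : ℤ)⟧ ⟶ Z, i⟦(1 : ℤ)⟧' = s ≫ w :=
    Triangle.coyoneda_exact₁ _ hT (i⟦(1 : ℤ)⟧') (by
    change i⟦(1 : ℤ)⟧' ≫ (𝟙 S - r ≫ i)⟦(1 : ℤ)⟧' = 0
    rw [← Functor.map_comp, Preadditive.comp_sub, reassoc_of% hir, Category.comp_id, sub_self,
      Functor.map_zero])
  let r₂ : Z ⟶ K⟦(1 : ℤ)⟧ := w ≫ r⟦(1 : ℤ)⟧'
  let r₁' : Z ⟶ K := r₁ - r₂ ≫ s ≫ r₁
  let s₁ : K ⟶ Z := i ≫ v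
  have e22 : s ≫ r₂ = 𝟙 _ := by
    simp only [r₂]
    rw [← Category.assoc, ← hs, ← Functor.map_comp, hir, CategoryTheory.Functor.map_id]
  have e12 : s₁ ≫ r₂ = 0 := by simp [s₁, r₂, reassoc_of% h23]
  have e11 : s₁ ≫ r₁' = 𝟙 _ := by
    simp only [r₁', Preadditive.comp_sub, reassoc_of% e12, zero_comp, sub_zero]
    simp [s₁, ← hr₁, hir]
  have e21 : s ≫ r₁' = 0 := by
    simp [r₁', Preadditive.comp_sub, reassoc_of% e22]
  let φ : Z ⟶ Z := 𝟙 Z - (r₂ ≫ s + r₁' ≫ s₁)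
  have hφφ : φ ≫ φ = φ := by
    simp [φ, Preadditive.comp_sub, Preadditive.sub_comp, Preadditive.comp_add, Preadditive.add_comp,
      reassoc_of% e22, reassoc_of% e12, reassoc_of% e11, reassoc_of% e21]
  have hφw : φ ≫ w = 0 := by
    simp only [φ, s₁, Preadditive.sub_comp, Preadditive.add_comp, Category.assoc, h23, comp_zero,
      add_zero, ← hs, r₂, Category.id_comp, ← hw, sub_self]
  have hvr₂ : v ≫ r₂ = 0 := by simp [r₂, reassoc_of% h23]
  have hvφ : v ≫ φ = 0 := by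
    have : v ≫ r₁' = r := by
      simp [r₁', Preadditive.comp_sub, reassoc_of% hvr₂, ← hr₁]
    simp only [φ, Preadditive.comp_sub, Preadditive.comp_add, reassoc_of% hvr₂, zero_comp, zero_add,
      reassoc_of% this, s₁, ← hv, Category.comp_id, sub_self]
  obtain ⟨ψ, hψ⟩ := Triangle.coyoneda_exact₃ _ hT φ hφw
  have hφ : φ = 0 := by
    change φ = ψ ≫ v at hψ
    rw [← hφφ]
    conv_lhs => arg 1; rw [hψ]
    rw [Category.assoc, hvφ, comp_zero]
  refine ⟨⟨biprod.lift r₂ r₁', biprod.desc s s₁, ?_, ?_⟩⟩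
  · rw [biprod.lift_desc]
    exact (sub_eq_zero.1 hφ).symm
  · refine biprod.hom_ext' _ _ (biprod.hom_ext _ _ ?_ ?_) (biprod.hom_ext _ _ ?_ ?_) <;>
      simp [e11, e12, e21, e22]

end Split

variable {X : Scheme.{u}}

lemma isPC_of_approx {m : ℤ} {K : DCoh.D X} (h : HasPCApprox m K) : DCoh.IsPseudoCoherentD m K := by
  rw [isPC_iff]
  exact fun x => ⟨⊤, trivial, h.restrict _⟩

/-- Retracts of bounded above pseudo-coherent objects. -/
lemma isPC_retract_aux (d : ℕ) : ∀ {m : ℤ} {K S : DCoh.D X} (i : K ⟶ S) (r : S ⟶ K), i ≫ r = 𝟙 K →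
    DCoh.IsPseudoCoherentD m S → K.IsLE (m - 1 + d) → DCoh.IsPseudoCoherentD m K := by
  induction d with
  | zero => exact fun _ _ _ _ h => isPC_of_isLE (by simpa using h)
  | succ d ih =>
    intro m K S i r hir hS hle
    obtain ⟨Z, v, w, hT⟩ := distinguished_cocone_triangle (𝟙 S - r ≫ i)
    have hZ : DCoh.IsPseudoCoherentD m Z := isPC₃ _ hT (isPC_mono (by omega) hS) hS
    obtain ⟨e⟩ := exists_cone_idem_iso i r hir v w hT
    have hB : DCoh.IsPseudoCoherentD m (K⟦(1 : ℤ)⟧) :=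
      ih (biprod.inl ≫ e.inv) (e.hom ≫ biprod.fst) (by simp) hZ
        (TStructure.t.isLE_shift K (m - 1 + (d + 1 : ℕ)) 1 (m - 1 + d) (by push_cast; omega))
    exact isPC₃ _ (binaryBiproductTriangle_distinguished (K⟦(1 : ℤ)⟧) K) (isPC_mono (by omega) hB)
      (isPC_of_iso e hZ)

/-- Retracts of pseudo-coherent objects are pseudo-coherent. -/
theorem isPC_of_retract {m : ℤ} {K S : DCoh.D X} (i : K ⟶ S) (r : S ⟶ K) (hir : i ≫ r = 𝟙 K)
    (hS : DCoh.IsPseudoCoherentD m S) : DCoh.IsPseudoCoherentD m K := by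
  rw [isPC_iff] at hS ⊢
  intro x
  obtain ⟨V, hx, hV⟩ := hS x
  let P := resD V.ι
  obtain ⟨E, α, hE, hα⟩ := hV
  obtain ⟨⟨a, b, hab⟩, -⟩ := hE.1, trivial
  let n := max m b
  have hzS : ∀ i, n < i → IsZero ((homologyFunctor _ i).obj (P.obj S)) := fun i hi => by
    have := hα.1 i (by omega)
    have hz : IsZero ((homologyFunctor _ i).obj (Q.obj E)) :=
      (HomologicalComplex.ExactAt.isZero_homology
        (HomologicalComplex.ExactAt.of_isZero (hab i (Or.inr (by omega))))).of_iso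
        ((homologyFunctorFactors _ i).app E)
    exact hz.of_iso (asIso ((homologyFunctor _ i).map α)).symm
  have hle : (P.obj K).IsLE n := by
    rw [isLE_iff]
    intro j hj
    rw [IsZero.iff_id_eq_zero, ← CategoryTheory.Functor.map_id, ← CategoryTheory.Functor.map_id P, ← hir,
      Functor.map_comp, Functor.map_comp, (hzS j hj).eq_of_src ((homologyFunctor _ j).map (P.map r)) 0, comp_zero]
  have hPC := isPC_retract_aux (n + 1 - m).toNat (m := m) (P.map i) (P.map r)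
    (by rw [← Functor.map_comp, hir, CategoryTheory.Functor.map_id]) (isPC_of_approx ⟨E, α, hE, hα⟩)
    (by
      have : m - 1 + ((n + 1 - m).toNat : ℤ) = n := by omega
      rw [this]
      exact hle)
  rw [isPC_iff] at hPC
  obtain ⟨W, hxW, hW⟩ := hPC ⟨x, hx⟩
  exact exists_open_of_pieces (P := fun {_} A => HasPCApprox m A) (fun h e => h.of_iso e)
    (fun j _ h => h.restrict j) _ V W hx hxW hW

end Groth.Agent.DCX42
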