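import Groth.Agent.DCK91.LpullTensor
import Groth.Agent.DCK91.StalkTensorNat
import Groth.Agent.QC70.ExtZero
import Groth.Agent.DCX42.Res
import Groth.Agent.DerComp18.LTensor
import Groth.Agent.Mod48.KFlatSymm
import Groth.Agent.DCX42.DerAdj
import Groth.Prelude.Def_DCoh4

/-!
# Tensor products, restriction to opens and extension by zero
-/

set_option autoImplicit false
set_option backward.isDefEq.respectTransparency.types false
set_option backward.isDefEq.respectTransparency false
set_option linter.style.haveILetI false

noncomputable section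

universe u

open CategoryTheory Limits AlgebraicGeometry TopologicalSpace Opposite MonoidalCategory
open Groth.Agent.QC70
attribute [local instance] HasDerivedCategory.standard

namespace Groth.Agent.DCX42

variable {U X : Scheme.{u}} (j : U ⟶ X) [IsOpenImmersion j]

/-- The restriction of a tensor product. -/
def resTens (M N : X.Modules) :
    (DCoh.tensorBi.obj ((Scheme.Modules.restrictFunctor j).obj M)).obj ((Scheme.Modules.restrictFunctor j).obj N) ≅
      (Scheme.Modules.restrictFunctor j).obj ((DCoh.tensorBi.obj M).obj N) :=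
  DCK91.transBi (Scheme.Modules.restrictFunctorIsoPullback j).symm
    (fun A B => (DCK91.pullTensBi j A B).symm) M N

lemma resTens_left {M M' : X.Modules} (g : M ⟶ M') (N : X.Modules) :
    (DCoh.tensorBi.map ((Scheme.Modules.restrictFunctor j).map g)).app ((Scheme.Modules.restrictFunctor j).obj N) ≫
        (resTens j M' N).hom =
      (resTens j M N).hom ≫ (Scheme.Modules.restrictFunctor j).map ((DCoh.tensorBi.map g).app N) :=
  DCK91.transBi_left _ (fun A B => (DCK91.pullTensBi j A B).symm) g N (by
    rw [Iso.symm_hom, Iso.symm_hom, Iso.eq_inv_comp, ← Category.assoc, Iso.comp_inv_eq]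
    exact (DCK91.pullTens_left j g N).symm)

lemma resTens_right (M : X.Modules) {N N' : X.Modules} (g : N ⟶ N') :
    (DCoh.tensorBi.obj ((Scheme.Modules.restrictFunctor j).obj M)).map ((Scheme.Modules.restrictFunctor j).map g) ≫
        (resTens j M N').hom =
      (resTens j M N).hom ≫ (Scheme.Modules.restrictFunctor j).map ((DCoh.tensorBi.obj M).map g) :=
  DCK91.transBi_right _ (fun A B => (DCK91.pullTensBi j A B).symm) M g (by
    rw [Iso.symm_hom, Iso.symm_hom, Iso.eq_inv_comp, ← Category.assoc, Iso.comp_inv_eq]
    exact (DCK91.pullTens_right j M g).symm)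

section Cx

variable (E K : CochainComplex X.Modules ℤ)

/-- The restriction of a tensor product of complexes, on objects. -/
def resTensCxApp : (DCoh.tensorCx.obj ((resCx j).obj E)).obj ((resCx j).obj K) ≅
    (resCx j).obj ((DCoh.tensorCx.obj E).obj K) :=
  HomologicalComplex.Hom.isoOfComponents
    (fun n => @asIso _ _ _ _
      (Mod48.mapTotApp (DCoh.tensorBi (X := X)) (DCoh.tensorBi (X := U)) (Scheme.Modules.restrictFunctor j)
        (Scheme.Modules.restrictFunctor j) (Scheme.Modules.restrictFunctor j) (resTens j) E K n)
      (haveI : PreservesColimitsOfSize.{0, 0} (Scheme.Modules.restrictFunctor j) :=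
          (Scheme.Modules.restrictAdjunction j).leftAdjoint_preservesColimits;
        Mod48.isIso_mapTotApp _ _ _ _ _ _ E K n))
    (fun n m hnm => by
      obtain rfl : n + 1 = m := hnm
      exact Mod48.mapTotApp_comm (DCoh.tensorBi (X := X)) (DCoh.tensorBi (X := U))
        (Scheme.Modules.restrictFunctor j) (Scheme.Modules.restrictFunctor j) (Scheme.Modules.restrictFunctor j)
        (resTens j) (fun g N => resTens_left j g N) (fun M _ _ g => resTens_right j M g) E K n)

variable {E} {E' : CochainComplex X.Modules ℤ}

lemma resTensCxApp_natural (f : E ⟶ E') :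
    (DCoh.tensorCx.map ((resCx j).map f)).app ((resCx j).obj K) ≫ (resTensCxApp j E' K).hom =
      (resTensCxApp j E K).hom ≫ (resCx j).map ((DCoh.tensorCx.map f).app K) := by
  refine HomologicalComplex.hom_ext _ _ fun n => ?_
  apply HomologicalComplex.mapBifunctor.hom_ext
  intro p q h
  simp only [HomologicalComplex.comp_f, resTensCxApp, HomologicalComplex.Hom.isoOfComponents_hom_f, asIso_hom,
    Functor.mapHomologicalComplex_map_f]
  erw [HomologicalComplex.ι_mapBifunctorMap_assoc]
  conv_lhs =>
    erw [Mod48.ι_mapTotApp]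
  conv_rhs =>
    erw [← Category.assoc, Mod48.ι_mapTotApp]
  simp only [Mod48.mapTotSummand, Category.assoc]
  erw [← Functor.map_comp, HomologicalComplex.ι_mapBifunctorMap, Functor.map_comp]
  simp only [Functor.mapHomologicalComplex_map_f, HomologicalComplex.id_f, Functor.map_id]
  erw [Functor.map_comp, CategoryTheory.Functor.map_id, CategoryTheory.Functor.map_id, Category.id_comp,
    Category.id_comp]
  exact (Category.assoc _ _ _).symm.trans ((resTens_left j (f.f p) (K.X q) =≫ _).trans (Category.assoc _ _ _))

end Cx

/-- The restriction of a tensor product of complexes. -/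
def resTensCx (K : CochainComplex X.Modules ℤ) :
    resCx j ⋙ (DCoh.tensorCx (X := U)).flip.obj ((resCx j).obj K) ≅
      (DCoh.tensorCx (X := X)).flip.obj K ⋙ resCx j :=
  NatIso.ofComponents (fun E => resTensCxApp j E K) fun {_ _} f => resTensCxApp_natural j K f

section Support

variable (M : U.Modules) (N : X.Modules)

lemma subsingleton_stalk_tensor_extZero {x : X} (hx : x ∉ Set.range j) :
    Subsingleton (((DCoh.tensorBi.obj ((CxOX.extZero j).obj M)).obj N).presheaf.stalk x) := by
  have : Subsingleton ((DCK91.SP x).obj ((CxOX.extZero j).obj M)) := subsingleton_stalk_extZero j M hx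
  have : Subsingleton (TensorProduct (X.presheaf.stalk x) ((DCK91.SP x).obj ((CxOX.extZero j).obj M))
      ((DCK91.SP x).obj N)) := subsingleton_of_forall_eq 0 fun z => by
    induction z using TensorProduct.induction_on with
    | zero => rfl
    | tmul a b => rw [Subsingleton.elim a 0, TensorProduct.zero_tmul]
    | add a b ha hb => rw [ha, hb, add_zero]
  exact (@Function.Surjective.subsingleton _ _ _ this (ConcreteCategory.bijective_of_isIso
    (DCK91.tensorStalk x ((CxOX.extZero j).obj M) N)).surjective
      : Subsingleton ((DCK91.SP x).obj ((DCoh.tensorBi.obj ((CxOX.extZero j).obj M)).obj N)))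

lemma support_tensor_extZero :
    CohB1.support ((DCoh.tensorBi.obj ((CxOX.extZero j).obj M)).obj N) ⊆ Set.range j :=
  fun _ hx => by_contra fun h => hx (subsingleton_stalk_tensor_extZero j M N h)

end Support

/-- The extension by zero of a complex. -/
abbrev extCxZ : CochainComplex U.Modules ℤ ⥤ CochainComplex X.Modules ℤ :=
  haveI : (CxOX.extZero j).Additive := (CxOX.extZeroAdj j).left_adjoint_additive
  (CxOX.extZero j).mapHomologicalComplex (ComplexShape.up ℤ)

/-- The adjunction between extension by zero and restriction, on complexes. -/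
abbrev extCxZAdj : extCxZ j ⊣ resCx j :=
  haveI : (CxOX.extZero j).Additive := (CxOX.extZeroAdj j).left_adjoint_additive
  DerAdj43.complexAdj (CxOX.extZeroAdj j) (ComplexShape.up ℤ)

variable (F : CochainComplex U.Modules ℤ) (K : CochainComplex X.Modules ℤ)

/-- A tensor product with an extension by zero is an extension by zero. -/
theorem isIso_counit_tensor : IsIso ((extCxZAdj j).counit.app ((DCoh.tensorCx.obj ((extCxZ j).obj F)).obj K)) := by
  haveI : (CxOX.extZero j).Additive := (CxOX.extZeroAdj j).left_adjoint_additive
  have : ∀ n, IsIso (((extCxZAdj j).counit.app ((DCoh.tensorCx.obj ((extCxZ j).obj F)).obj K)).f n) := by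
    intro n
    let π := ComplexShape.π (ComplexShape.up ℤ) (ComplexShape.up ℤ) (ComplexShape.up ℤ)
    let G := Scheme.Modules.restrictFunctor j ⋙ CxOX.extZero j
    haveI : PreservesColimitsOfSize.{0, 0} G := ((Scheme.Modules.restrictAdjunction j).comp
      (CxOX.extZeroAdj j)).leftAdjoint_preservesColimits
    let Y := ((((DCoh.tensorBi (X := X)).mapBifunctorHomologicalComplex (ComplexShape.up ℤ) (ComplexShape.up ℤ)).obj
      ((extCxZ j).obj F)).obj K).toGradedObject
    let c := Y.cofanMapObj π n
    let hc : IsColimit c := Y.isColimitCofanMapObj π n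
    let hG := isColimitOfPreserves G hc
    let ε := (CxOX.extZeroAdj j).counit
    have hq : ∀ q, IsIso (ε.app ((Discrete.functor fun i : ↥(π ⁻¹' {n}) => Y i.1).obj q)) := fun q =>
      isIso_extZero_counit j _ (support_tensor_extZero j (F.X q.as.1.1) (K.X q.as.1.2))
    let w : Discrete.functor (fun i : ↥(π ⁻¹' {n}) => Y i.1) ⋙ G ≅ Discrete.functor (fun i : ↥(π ⁻¹' {n}) => Y i.1) :=
      NatIso.ofComponents (fun q => @asIso _ _ _ _ _ (hq q)) fun f => ε.naturality _
    let e := Limits.IsColimit.coconePointsIsoOfNatIso hG hc w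
    have he : ε.app c.pt = e.hom := hG.hom_ext fun q =>
      (ε.naturality (c.ι.app q)).trans
        (Limits.IsColimit.comp_coconePointsIsoOfNatIso_hom hG hc w q).symm
    change IsIso (ε.app c.pt)
    rw [he]
    infer_instance
  exact HomologicalComplex.Hom.isIso_of_components _

/-- Extension by zero preserves K-flat complexes. -/
theorem isKFlat_extCxZ (hF : DCoh.IsKFlat F) : DCoh.IsKFlat ((extCxZ j).obj F) := by
  haveI : (CxOX.extZero j).Additive := (CxOX.extZeroAdj j).left_adjoint_additive
  haveI : PreservesColimitsOfSize.{0, 0} (CxOX.extZero j) := (CxOX.extZeroAdj j).leftAdjoint_preservesColimits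
  haveI : (CxOX.extZero j).PreservesHomology :=
    (CxOX.extZero j).preservesHomology_of_preservesMonos_and_cokernels
  intro A hA i
  refine IsZero.of_iso ?_ ((HomologicalComplex.homologyFunctor _ _ i).mapIso
    (Mod48.tcSymm (O := X.sheaf) A ((extCxZ j).obj F) ≪≫
      (@asIso _ _ _ _ _ (isIso_counit_tensor j F A)).symm))
  refine IsZero.of_iso ((CxOX.extZero j).map_isZero ?_)
    ((((resCx j).obj ((DCoh.tensorCx.obj ((extCxZ j).obj F)).obj A)).sc i).mapHomologyIso (CxOX.extZero j))
  refine IsZero.of_iso ?_ ((HomologicalComplex.homologyFunctor _ _ i).mapIso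
    ((resTensCxApp j ((extCxZ j).obj F) A).symm ≪≫
      Mod48.tcSymm (O := U.sheaf) ((resCx j).obj ((extCxZ j).obj F)) ((resCx j).obj A)))
  refine IsZero.of_iso (hF ((resCx j).obj A) (fun k => ?_) i)
    ((HomologicalComplex.homologyFunctor _ _ i).mapIso ((DCoh.tensorCx.obj ((resCx j).obj A)).mapIso
      (@asIso _ _ _ _ ((extCxZAdj j).unit.app F) ?_).symm))
  · exact IsZero.of_iso ((Scheme.Modules.restrictFunctor j).map_isZero (hA k))
      ((A.sc k).mapHomologyIso (Scheme.Modules.restrictFunctor j))
  · have : ∀ n, IsIso (((extCxZAdj j).unit.app F).f n) := fun n =>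
      inferInstanceAs (IsIso ((CxOX.extZeroAdj j).unit.app (F.X n)))
    exact HomologicalComplex.Hom.isIso_of_components _


end Groth.Agent.DCX42
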