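import Groth.Agent.DCX42.TildeEq
import Groth.Agent.DCX42.PerfectRetract
import Groth.Agent.DR39.BC
import Groth.Agent.TildePull72.Basic
import Groth.Agent.Props58.LocFree.Affine
import Groth.Agent.S9498

/-!
# Pseudo-coherence and perfectness on affine schemes
-/

set_option autoImplicit false
set_option backward.isDefEq.respectTransparency false
set_option synthInstance.maxHeartbeats 100000

universe u

open CategoryTheory Limits AlgebraicGeometry DerivedCategory
attribute [local instance] HasDerivedCategory.standard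

noncomputable section

namespace Groth.Agent.DCX42

instance preservesFiniteLimits_tilde_functor (R : CommRingCat.{u}) :
    PreservesFiniteLimits (tilde.functor R) :=
  (Groth.Agent.S9498.tilde_exact R).1

instance preservesFiniteColimits_tilde_functor (R : CommRingCat.{u}) :
    PreservesFiniteColimits (tilde.functor R) :=
  (Groth.Agent.S9498.tilde_exact R).2

instance additive_tilde_functor (R : CommRingCat.{u}) : (tilde.functor R).Additive :=
  haveI := preservesBinaryBiproducts_of_preservesBinaryProducts (tilde.functor R)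
  Functor.additive_of_preservesBinaryBiproducts _

variable (R : CommRingCat.{u})

set_option quotPrecheck false in
local notation "T" => (tilde.functor R).mapDerivedCategory

lemma pcMap_tildeD_iff {X Y : DerivedCategory (ModuleCat.{u} R)} {m : ℤ} (α : X ⟶ Y) :
    PCMap m ((T).map α) ↔ PCMap m α := by
  refine ⟨fun h => ⟨fun i hi => ?_, ?_⟩, fun h => h.map _⟩
  · have := (NatIso.isIso_map_iff (Mod48.homologyMapDerivedIso (tilde.functor R) i) α).1 (h.1 i hi)
    exact @isIso_of_reflects_iso _ _ _ _ _ _ _ (tilde.functor R) this (reflectsIsomorphisms_of_full_and_faithful _)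
  · let η := Mod48.homologyMapDerivedIso (tilde.functor R) m
    have := h.2
    have : Epi ((tilde.functor R).map ((homologyFunctor (ModuleCat.{u} R) m).map α)) := by
      have hn := η.inv.naturality α
      refine (?_ : Epi ((homologyFunctor (ModuleCat.{u} R) m ⋙ tilde.functor R).map α))
      have e : (homologyFunctor (ModuleCat.{u} R) m ⋙ tilde.functor R).map α =
          η.inv.app X ≫ ((T) ⋙ homologyFunctor _ m).map α ≫ η.hom.app Y := by
        rw [← Category.assoc, ← hn, Category.assoc, Iso.inv_hom_id_app]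
        exact (Category.comp_id _).symm
      rw [e]
      exact @epi_comp _ _ _ _ _ _ inferInstance _ (@epi_comp _ _ _ _ _ _ this _ inferInstance)
    exact (tilde.functor R).epi_of_epi_map this

lemma isStrictlyPerfect_tilde {E : DRing.Cx R} {a b : ℤ} (hE : ∀ i, i ∉ Set.Icc a b → IsZero (E.X i))
    (hF : ∀ i, DR39.FPp (E.X i)) :
    DCoh.IsStrictlyPerfect (((tilde.functor R).mapHomologicalComplex (ComplexShape.up ℤ)).obj E) :=
  ⟨⟨a, b, fun i hi => (tilde.functor R).map_isZero (hE i fun h => by rw [Set.mem_Icc] at h; omega)⟩,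
    fun i => (Props58.LocFree.isFinLocFree_tilde_iff (E.X i)).mpr (hF i)⟩

/-- A strictly perfect complex on `Spec R` is the tilde of a bounded complex of finite projective modules. -/
theorem exists_model {E : CochainComplex (Spec (CommRingCat.of R)).Modules ℤ} (hE : DCoh.IsStrictlyPerfect E) :
    ∃ (E₀ : DRing.Cx R) (a b : ℤ), (∀ i, i ∉ Set.Icc a b → IsZero (E₀.X i)) ∧ (∀ i, DR39.FPp (E₀.X i)) ∧
      Nonempty ((T).obj (Q.obj E₀) ≅ Q.obj E) := by
  obtain ⟨⟨a, b, hab⟩, hF⟩ := hE
  let adj := tilde.adjunction (R := R)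
  let E₀ := ((moduleSpecΓFunctor (R := R)).mapHomologicalComplex (ComplexShape.up ℤ)).obj E
  have hq : ∀ i, (E.X i).IsQuasicoherent := fun i => isQCoh_of_isFinLocFree (hF i)
  have hc : ∀ i, IsIso (adj.counit.app (E.X i)) := fun i =>
    have := hq i
    inferInstanceAs (IsIso (Scheme.Modules.fromTildeΓ (E.X i)))
  have : IsIso (Mod48.cxCounit adj E) := by
    have : ∀ n, IsIso ((Mod48.cxCounit adj E).f n) := hc
    exact HomologicalComplex.Hom.isIso_of_components _
  refine ⟨E₀, a, b, fun i hi => (moduleSpecΓFunctor (R := R)).map_isZero (hab i ?_), fun i => ?_,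
    ⟨(tilde.functor R).mapDerivedCategoryFactors.app E₀ ≪≫ Q.mapIso (asIso (Mod48.cxCounit adj E))⟩⟩
  · rw [Set.mem_Icc] at hi; omega
  · have := hc i
    exact (Props58.LocFree.isFinLocFree_tilde_iff _).mp (isFinLocFree_of_iso (asIso (adj.counit.app (E.X i))).symm (hF i))

theorem hasPCApprox_tildeD {m : ℤ} {M : DerivedCategory (ModuleCat.{u} R)} (h : DR39.PC m M) :
    HasPCApprox m ((T).obj M) := by
  obtain ⟨E, a, b, α, hv, hff, h1, h2⟩ := h
  refine ⟨_, (tilde.functor R).mapDerivedCategoryFactors.inv.app E ≫ (T).map α,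
    isStrictlyPerfect_tilde R ((DR39.vanishesOutside_iff E a b).1 hv) fun i => ?_,
    (PCMap.of_isIso m _).comp ((pcMap_tildeD_iff R α).2 ⟨h1, h2⟩)⟩
  exact ⟨(hff i).1, DR39.proj_of_FF (hff i)⟩

theorem hasPerfRep_tildeD {M : DerivedCategory (ModuleCat.{u} R)} (h : DRing.IsPerfect R M) :
    HasPerfRep ((T).obj M) := by
  obtain ⟨a, b, E, hE, hF, ⟨e⟩⟩ := (DR39.perfect_iff_rep M).1 h
  exact ⟨_, isStrictlyPerfect_tilde R hE hF,
    ⟨(T).mapIso e.symm ≪≫ (tilde.functor R).mapDerivedCategoryFactors.app E⟩⟩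

theorem pc_of_hasPCApprox {m : ℤ} {M : DerivedCategory (ModuleCat.{u} R)}
    (h : HasPCApprox m ((T).obj M)) : DR39.PC m M := by
  obtain ⟨E, α, hE, hα⟩ := h
  obtain ⟨E₀, a, b, hv, hF, ⟨e⟩⟩ := exists_model R hE
  obtain ⟨hfull, hfaith, -⟩ := tildeD_fullyFaithful_essImage R
  obtain ⟨β, hβ⟩ := (T).map_surjective (e.hom ≫ α)
  have hp : PCMap m β := (pcMap_tildeD_iff R β).1 (hβ ▸ (PCMap.of_isIso m _).comp hα)
  obtain ⟨Z, g, k, hT⟩ := Pretriangulated.distinguished_cocone_triangle β
  refine DR39.PC.obj₂ hT (DR39.pc_of_rep_FP (b := b) ⟨E₀, fun i hi => hv i ?_, hF, ⟨Iso.refl _⟩⟩ m)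
    (DR39.pc_of_acyc ((DR39.approx_iff_acyc _ hT m).1 hp))
  rw [Set.mem_Iic] at hi
  rw [Set.mem_Icc]
  omega

theorem perfect_of_hasPerfRep {M : DerivedCategory (ModuleCat.{u} R)} (h : HasPerfRep ((T).obj M)) :
    DRing.IsPerfect R M := by
  obtain ⟨E, hE, ⟨i⟩⟩ := h
  obtain ⟨E₀, a, b, hv, hF, ⟨e⟩⟩ := exists_model R hE
  obtain ⟨hfull, hfaith, -⟩ := tildeD_fullyFaithful_essImage R
  exact (DR39.perfect_iff_rep M).2 ⟨a, b, E₀, hv, hF,
    ⟨(Functor.FullyFaithful.ofFullyFaithful (T)).preimageIso (e ≪≫ i.symm)⟩⟩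

section Localization

/-- Restricting the tilde of an object along an open immersion of spectra. -/
theorem nonempty_resD_tildeD {S : CommRingCat.{u}} (φ : R ⟶ S) [IsOpenImmersion (Spec.map φ)]
    [PreservesFiniteLimits (ModuleCat.extendScalars.{u, u, u} φ.hom)]
    [PreservesFiniteColimits (ModuleCat.extendScalars.{u, u, u} φ.hom)]
    (M : DerivedCategory (ModuleCat.{u} R)) :
    Nonempty ((resD (Spec.map φ)).obj ((T).obj M) ≅
      (tilde.functor S).mapDerivedCategory.obj
        ((ModuleCat.extendScalars.{u, u, u} φ.hom).mapDerivedCategory.obj M)) := by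
  obtain ⟨E, ⟨e⟩⟩ := DR39.exists_complex_iso (A := R) M
  let G := ModuleCat.extendScalars.{u, u, u} φ.hom
  let η : tilde.functor R ⋙ Scheme.Modules.restrictFunctor (Spec.map φ) ≅ G ⋙ tilde.functor S :=
    Functor.isoWhiskerLeft (tilde.functor R) (Scheme.Modules.restrictFunctorIsoPullback (Spec.map φ)) ≪≫
      TildePull72.pullbackTildeIso φ
  let eη : (resCx (Spec.map φ)).obj (((tilde.functor R).mapHomologicalComplex (ComplexShape.up ℤ)).obj E) ≅
      ((tilde.functor S).mapHomologicalComplex (ComplexShape.up ℤ)).obj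
        ((G.mapHomologicalComplex (ComplexShape.up ℤ)).obj E) :=
    HomologicalComplex.Hom.isoOfComponents (fun n => η.app (E.X n))
      (fun i j _ => (η.hom.naturality (E.d i j)).symm)
  exact ⟨(resD _).mapIso ((T).mapIso e.symm ≪≫ (tilde.functor R).mapDerivedCategoryFactors.app E) ≪≫
    resQ _ _ ≪≫ Q.mapIso eη ≪≫
    ((tilde.functor S).mapDerivedCategoryFactors.app ((G.mapHomologicalComplex (ComplexShape.up ℤ)).obj E)).symm ≪≫
    (tilde.functor S).mapDerivedCategory.mapIso
      ((G.mapDerivedCategoryFactors.app E).symm ≪≫ G.mapDerivedCategory.mapIso e)⟩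

variable {R} {A : Type u} [CommRing A]

/-- The inclusion of a basic open. -/
abbrev awayι (A : Type u) [CommRing A] (f : A) :
    Spec (CommRingCat.of (Localization.Away f)) ⟶ Spec (CommRingCat.of A) :=
  Spec.map (CommRingCat.ofHom (algebraMap A (Localization.Away f)))

/-- The object of `D(O)` on the spectrum attached to an object of `D(A)`. -/
abbrev tD (A : Type u) [CommRing A] (M : Dual.D A) : DCoh.D (Spec (CommRingCat.of A)) :=
  (@DCoh.tildeD (CommRingCat.of A) (preservesFiniteLimits_tilde_functor (CommRingCat.of A))).obj M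

lemma nonempty_resD_away (f : A) (M : Dual.D A) :
    Nonempty ((resD (awayι A f)).obj (tD A M) ≅
      tD (Localization.Away f) ((DR39.DF (DR39.extA A (Localization.Away f))).obj M)) := by
  have h1 : PreservesFiniteLimits (ModuleCat.extendScalars.{u, u, u}
      (CommRingCat.ofHom (algebraMap A (Localization.Away f))).hom) :=
    DR39.preservesFiniteLimits_extA (A := A) (Localization.Away f)
  have h2 : PreservesFiniteColimits (ModuleCat.extendScalars.{u, u, u}
      (CommRingCat.ofHom (algebraMap A (Localization.Away f))).hom) :=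
    DR39.preservesFiniteColimits_extA (A := A) (Localization.Away f)
  exact nonempty_resD_tildeD (CommRingCat.of A) (CommRingCat.ofHom (algebraMap A (Localization.Away f))) M

/-- A local property of an object holds on a finite cover by basic opens. -/
theorem exists_basic_cover {P : ∀ {S : Scheme.{u}}, DCoh.D S → Prop}
    (hiso : ∀ {S : Scheme.{u}} {K L : DCoh.D S}, P K → (K ≅ L) → P L)
    (hres : ∀ {S U : Scheme.{u}} {K : DCoh.D S} (j : U ⟶ S) [IsOpenImmersion j], P K → P ((resD j).obj K))
    (M : Dual.D A) (h : Loc (fun {_} K => P K) (tD A M)) :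
    ∃ (r : ℕ) (g : Fin r → A), Ideal.span (Set.range g) = ⊤ ∧
      ∀ i, P (tD (Localization.Away (g i))
        ((DR39.DF (DR39.extA A (Localization.Away (g i)))).obj M)) := by
  have key : ∀ x : PrimeSpectrum A, ∃ f : A, x ∈ PrimeSpectrum.basicOpen f ∧
      P (tD (Localization.Away f)
        ((DR39.DF (DR39.extA A (Localization.Away f))).obj M)) := by
    intro x
    obtain ⟨V, hx, hV⟩ := h x
    obtain ⟨_, ⟨f, rfl⟩, hxf, hfV⟩ :=
      PrimeSpectrum.isTopologicalBasis_basic_opens.exists_subset_of_mem_open hx V.2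
    refine ⟨f, hxf, ?_⟩
    have hr : Set.range (awayι A f) ⊆ Set.range V.ι := by
      rw [Scheme.Opens.range_ι]
      exact (PrimeSpectrum.localization_away_comap_range (Localization.Away f) f).trans_subset hfV
    let g := IsOpenImmersion.lift V.ι (awayι A f) hr
    have hg : g ≫ V.ι = awayι A f := IsOpenImmersion.lift_fac _ _ _
    have : IsOpenImmersion g := by
      have : IsOpenImmersion (g ≫ V.ι) := by rw [hg]; infer_instance
      exact IsOpenImmersion.of_comp g V.ι
    exact hiso (hiso (hres g hV) ((resDComp g V.ι).app _ ≪≫ (resDCongr hg).app _))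
      (nonempty_resD_away f M).some
  choose f hxf hP using key
  obtain ⟨t, ht⟩ := isCompact_univ.elim_finite_subcover (fun x => (PrimeSpectrum.basicOpen (f x) : Set (PrimeSpectrum A)))
    (fun x => (PrimeSpectrum.basicOpen (f x)).2) fun x _ => Set.mem_iUnion.mpr ⟨x, hxf x⟩
  refine ⟨t.card, fun i => f (t.equivFin.symm i), PrimeSpectrum.iSup_basicOpen_eq_top_iff.mp (top_le_iff.mp fun y _ => ?_),
    fun i => hP _⟩
  obtain ⟨x, hxt, hy⟩ := Set.mem_iUnion₂.mp (ht (Set.mem_univ y))
  exact TopologicalSpace.Opens.mem_iSup.mpr ⟨t.equivFin ⟨x, hxt⟩, by simpa using hy⟩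

theorem exists_acyc_of_pc {B : Type u} [CommRing B] {m : ℤ} {X : Dual.D B} (h : DR39.PC m X) :
    ∃ b, DR39.Acyc b X := by
  obtain ⟨X', α, ⟨a, b, hR⟩, hα⟩ := (DR39.pc_iff m X).1 h
  refine ⟨max (b + 1) (m + 1), fun j hj => ?_⟩
  have := hα.1 j (by omega)
  exact ((hR.acyc (m := b + 1) fun k hk => by rw [Set.mem_Icc] at hk; omega) j (by omega)).of_iso
    (asIso ((DR39.HF B j).map α)).symm

variable (A)

theorem isPC_tildeD_iff (M : Dual.D A) (m : ℤ) :
    DCoh.IsPseudoCoherentD m (tD A M) ↔
      DR39.PC m M := by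
  refine ⟨fun h => ?_, fun h => ?_⟩
  · obtain ⟨r, g, hg, hP⟩ := exists_basic_cover (P := fun {_} K => HasPCApprox m K) (fun h e => h.of_iso e)
      (fun j _ h => h.restrict j) M ((isPC_iff m _).mp h)
    have hpc := fun i => pc_of_hasPCApprox (CommRingCat.of (Localization.Away (g i))) (hP i)
    choose b hb using fun i => exists_acyc_of_pc (hpc i)
    obtain ⟨B, hB⟩ := (Set.finite_range b).bddAbove
    exact DR39.pc_descent (B := fun i => Localization.Away (g i))
      (fun N => DR39.isZero_of_away g hg N) (fun N => DR39.finite_of_away g hg N)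
      (fun i j hj => hb i j (le_trans (hB ⟨i, rfl⟩) hj)) hpc
  · exact (isPC_iff m _).mpr fun x => ⟨⊤, trivial, (hasPCApprox_tildeD (CommRingCat.of A) h).restrict _⟩

theorem isPerfect_tildeD_iff (M : Dual.D A) :
    DCoh.IsPerfect (tD A M) ↔ DRing.IsPerfect A M := by
  refine ⟨fun h => ?_, fun h => ?_⟩
  · obtain ⟨r, g, hg, hP⟩ := exists_basic_cover (P := fun {_} K => HasPerfRep K) (fun h e => h.of_iso e)
      (fun j _ h => h.restrict j) M ((isPerfect_iff _).mp h)
    have hp := fun i => (DR39.perfect_iff _).1 (perfect_of_hasPerfRep (CommRingCat.of (Localization.Away (g i))) (hP i))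
    choose a b hab using fun i => (hp i).2
    obtain ⟨a₀, ha⟩ := (Set.finite_range a).bddBelow
    obtain ⟨b₀, hb⟩ := (Set.finite_range b).bddAbove
    have hta := DR39.ta_descent (B := fun i => Localization.Away (g i))
      (fun N => DR39.isZero_of_away g hg N)
      (fun i => DR39.TA.mono (hab i) (ha ⟨i, rfl⟩) (hb ⟨i, rfl⟩))
    refine (DR39.perfect_iff M).2 ⟨(DR39.pc'_iff_forall_pc M).2 fun m => ?_, a₀, b₀, hta⟩
    exact DR39.pc_descent (B := fun i => Localization.Away (g i))
      (fun N => DR39.isZero_of_away g hg N) (fun N => DR39.finite_of_away g hg N)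
      (fun i => (hta.acyc.map (DR39.extA A (Localization.Away (g i))))) fun i => DR39.pc_of_pc' (hp i).1 m
  · exact (isPerfect_iff _).mpr fun x => ⟨⊤, trivial, (hasPerfRep_tildeD (CommRingCat.of A) h).restrict _⟩

end Localization

end Groth.Agent.DCX42
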